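import Cfsg.Agent.Lib.Spor.MTwelve.SwapCase.Whole

/-!
The exchanged shape of the centraliser in the hypotheses of the recognition theorem.
-/

set_option autoImplicit false

namespace Cfsg.Agent.MTwelve.CentShape

open Cfsg.Agent.MTwelve.OrderFront Cfsg.Agent.MTwelve.SwapCase

universe u

/-- In the exchanged shape the group is alternating of degree eight or nine or has the affine shape `2^3.L3(2)`. -/
theorem swap_cases {G : Type u} [Group G] [Finite G] {z : G} {K : Core z} {D : Gens true false G}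
    (S : Shape K D) (hnwc : ∃ g : G, g * z * g⁻¹ ∈ K.Q ∧ g * z * g⁻¹ ≠ z) :
    (∃ (N : Subgroup G) (_ : N.Normal), IsMulCommutative N ∧ (∀ n ∈ N, n ^ 2 = 1) ∧ Nat.card N = 8 ∧
      Nonempty (G ⧸ N ≃* Matrix.ProjectiveSpecialLinearGroup (Fin 3) (ZMod 2))) ∨
    Nonempty (G ≃* alternatingGroup (Fin 8)) ∨ Nonempty (G ≃* alternatingGroup (Fin 9)) := by
  obtain ⟨g, hgQ, hgz⟩ := hnwc
  obtain ⟨q, hq⟩ := (S.mem_core _).1 hgQ
  obtain ⟨n, F⟩ := S.par.exists_fused (g := g) (q := q)
    (show g * z * g⁻¹ = D.ev (inl q) by rw [D.ev_inl, hq]) hgz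
  rcases S.par.split F with h | ⟨P', T⟩
  · exact Or.inl h
  · exact Or.inr T.iso_alt

end Cfsg.Agent.MTwelve.CentShape
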