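import Cfsg.Agent.Lib.Spor.MTwelve.SwapCase.Model

/-!
Finite checks on the normal forms: the elementary subgroup of order sixteen and the symmetries of the labels.
-/

set_option autoImplicit false
set_option maxRecDepth 100000
set_option synthInstance.maxHeartbeats 400000
set_option synthInstance.maxSize 1024

namespace Cfsg.Agent.MTwelve.SwapCase

open CentShape

/-- membership in the Sylow subgroup -/
def inS (X : El) : Bool := X.2.1 == 0

/-- the pairs of units occurring in the elementary subgroup of order sixteen -/
def pairA : List (Fin 4 × Fin 4) := [(0, 0), (1, 1), (2, 3), (3, 2)]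

/-- membership in the elementary subgroup of order sixteen -/
def inA (X : El) : Bool := X.2.1 == 0 && pairA.contains X.1.2

theorem inA_closed : ∀ a b : Q5, ∀ l l' : Bool, inA (a, 0, l) = true → inA (b, 0, l') = true →
    inA (em (a, 0, l) (b, 0, l')) = true ∧ comm (a, 0, l) (b, 0, l') = true := by decide +kernel

theorem inA_shape : ∀ X : El, inA X = true → X = (X.1, 0, X.2.2) ∧ em X X = e1 := by decide +kernel

theorem inA_count : (Finset.univ.filter fun X : El => inA X = true).card = 16 := by decide +kernel

theorem inA_self_cent : ∀ X : El,
    (∀ a : Q5, ∀ l : Bool, inA (a, 0, l) = true → comm (a, 0, l) X = true) → inA X = true := by decide +kernel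

/-- Commuting with an outer representative and being an involution gives membership. -/
theorem inA_of_comm : ∀ s : Bool, ∀ X : El, em X X = e1 → comm (repT s) X = true → inA X = true := by
  decide +kernel

theorem core_small : ∀ m : Fin 3,
    (Finset.univ.filter fun q : Q5 => em (inl q) (inl q) = e1 ∧ comm (repC m) (inl q) = true).card < 16 := by
  decide +kernel

theorem inA_repT : ∀ s : Bool, inA (repT s) = true := by decide +kernel

theorem inA_ez : inA ez = true ∧ inA e1 = true := by decide +kernel

theorem inS_conj : ∀ X : El, inS X = true → ∀ a : Q5, ∀ l : Bool, inA (a, 0, l) = true →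
    inA (cj X (a, 0, l)) = true := by decide +kernel

theorem inS_of_conj : ∀ X : El, (∀ l : Bool, inA (cj X ((false, 1, 1), 0, l)) = true) → inS X = true := by
  decide +kernel

theorem inS_count : (Finset.univ.filter fun X : El => inS X = true).card = 64 := by decide +kernel

theorem inS_fix : ∀ X : El, inA X = true → X ≠ e1 →
    (∀ q : Q5, comm X (inl q) = true) → X = ez := by decide +kernel

theorem inS_move : ∀ X : El, inS X = true → inA X = false →
    (Finset.univ.filter fun Y : El => inA Y = true ∧ comm X Y = true).card = 4 := by decide +kernel

theorem inS_sq : ∀ X : El, inS X = true → inA (em X X) = true := by decide +kernel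

theorem inA_inS : ∀ X : El, inA X = true → inS X = true := by decide +kernel

theorem inA_invol_count : (Finset.univ.filter fun X : El => inA X = true ∧ (lab X != 0) = true).card = 15 := by
  decide +kernel

theorem inA_two_count : (Finset.univ.filter fun X : El =>
    inA X = true ∧ (lab X == 1 || lab X == 3 || lab X == 4 || lab X == 6) = true).card = 9 := by decide +kernel

/-- shift of the classes in the core -/
def shift (X : El) : El := ((X.1.1, rot (rot X.1.2.1), rot X.1.2.2), X.2)

/-- exchange of the outer classes -/
def flip (X : El) : El := ((X.1.1 ^^ X.2.2, X.1.2), X.2)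

theorem shift_bij : Function.Bijective shift := by decide +kernel

theorem flip_bij : Function.Bijective flip := by decide +kernel

theorem shift_fixed : shift ez = ez ∧ flip ez = ez := by decide +kernel

theorem shift_mul_z : ∀ X : El, ∀ a : Bool, shift (em X (cond a ez e1)) = em (shift X) (shift (cond a ez e1)) ∧
    flip (em X (cond a ez e1)) = em (flip X) (flip (cond a ez e1)) := by decide +kernel

theorem shift_mul_u : ∀ X : El, ∀ p : Fin 4,
    shift (em X (inl (false, p, 0))) = em (shift X) (shift (inl (false, p, 0))) ∧
    flip (em X (inl (false, p, 0))) = em (flip X) (flip (inl (false, p, 0))) := by decide +kernel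

theorem shift_mul_u' : ∀ X : El, ∀ p : Fin 4,
    shift (em X (inl (false, 0, p))) = em (shift X) (shift (inl (false, 0, p))) ∧
    flip (em X (inl (false, 0, p))) = em (flip X) (flip (inl (false, 0, p))) := by decide +kernel

theorem shift_mul_out : ∀ X : El, ∀ s : Fin 3 × Bool, shift (em X (q1, s)) = em (shift X) (shift (q1, s)) ∧
    flip (em X (q1, s)) = em (flip X) (flip (q1, s)) := by decide +kernel

theorem shift_lab : ∀ X : El, lab (shift X) = (![0, 1, 4, 2, 3, 5, 6, 7] : Fin 8 → Fin 8) (lab X) ∧
    lab (flip X) = (![0, 1, 2, 3, 4, 6, 5, 7] : Fin 8 → Fin 8) (lab X) := by decide +kernel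

end Cfsg.Agent.MTwelve.SwapCase
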