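import Cfsg.Agent.Lib.Spor.MTwelve.SwapCase.Strongly
import Cfsg.Agent.Lib.Spor.MTwelve.SwapCase.ModelA

/-!
The elementary subgroup of order sixteen and its normaliser.
-/

set_option autoImplicit false
set_option linter.style.haveILetI false

namespace Cfsg.Agent.MTwelve.SwapCase

open CentShape OrderFront

universe u

/-- being a conjugate of the given element -/
def IsX {G : Type u} [Group G] (z x : G) : Prop := ∃ g : G, g * z * g⁻¹ = x

theorem IsX.conj {G : Type u} [Group G] {z x : G} (h : IsX z x) (g : G) : IsX z (g * x * g⁻¹) := by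
  obtain ⟨k, rfl⟩ := h
  exact ⟨g * k, by group⟩

theorem IsX.of_conj {G : Type u} [Group G] {z x g : G} (h : IsX z (g * x * g⁻¹)) : IsX z x := by
  have := h.conj g⁻¹
  rwa [show g⁻¹ * (g * x * g⁻¹) * g⁻¹⁻¹ = x by group] at this

namespace Par

variable {G : Type u} [Group G] {z : G} (P : Par z)

/-- the elementary subgroup of order sixteen -/
def A : Subgroup G where
  carrier := {x | ∃ X, P.ev X = x ∧ inA X = true}
  one_mem' := ⟨e1, P.ev_one, inA_ez.2⟩
  mul_mem' := by
    rintro _ _ ⟨X, rfl, hX⟩ ⟨Y, rfl, hY⟩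
    have eX := (inA_shape X hX).1
    rw [eX] at hX ⊢
    have eY := (inA_shape Y hY).1
    rw [eY] at hY ⊢
    exact ⟨_, (P.mul _ _).symm, (inA_closed _ _ _ _ hX hY).1⟩
  inv_mem' := by
    rintro _ ⟨X, rfl, hX⟩
    exact ⟨X, (inv_eq_of_mul_eq_one_right ((P.sq_iff X).2 (inA_shape X hX).2)).symm, hX⟩

theorem mem_A {x : G} : x ∈ P.A ↔ ∃ X, P.ev X = x ∧ inA X = true := Iff.rfl

theorem ev_mem_A {X : El} : P.ev X ∈ P.A ↔ inA X = true :=
  ⟨fun ⟨_, hY, hY'⟩ => P.inj hY ▸ hY', fun h => ⟨X, rfl, h⟩⟩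

theorem A_comm {x y : G} (hx : x ∈ P.A) (hy : y ∈ P.A) : x * y = y * x := by
  obtain ⟨X, rfl, hX⟩ := hx
  obtain ⟨Y, rfl, hY⟩ := hy
  have eX := (inA_shape X hX).1
  rw [eX] at hX ⊢
  have eY := (inA_shape Y hY).1
  rw [eY] at hY ⊢
  exact (P.comm_iff _ _).2 (inA_closed _ _ _ _ hX hY).2

theorem A_sq {x : G} (hx : x ∈ P.A) : x * x = 1 := by
  obtain ⟨X, rfl, hX⟩ := hx
  exact (P.sq_iff X).2 (inA_shape X hX).2

theorem z_mem_A : z ∈ P.A := ⟨ez, P.ev_z, inA_ez.1⟩

theorem card_A : Nat.card P.A = 16 := by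
  rw [← inA_count, ← Nat.card_eq_finsetCard]
  exact (Nat.card_congr (Equiv.ofBijective (fun X : (Finset.univ.filter fun X : El => inA X = true : Finset El) =>
    (⟨P.ev X.1, P.ev_mem_A.2 (Finset.mem_filter.1 X.2).2⟩ : P.A))
    ⟨fun X Y h => Subtype.ext (P.inj (congrArg Subtype.val h)), fun ⟨x, X, hX, hX'⟩ =>
      ⟨⟨X, Finset.mem_filter.2 ⟨Finset.mem_univ _, hX'⟩⟩, Subtype.ext hX⟩⟩)).symm

theorem A_self_cent {x : G} (h : ∀ a ∈ P.A, a * x = x * a) : x ∈ P.A := by
  obtain ⟨X, rfl⟩ := (P.mem x).1 (h z P.z_mem_A).symm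
  exact P.ev_mem_A.2 (inA_self_cent X fun a l ha => (P.comm_iff _ _).1 (h _ (P.ev_mem_A.2 ha)))

/-- the normaliser of the subgroup of order sixteen -/
def NA : Subgroup G := Subgroup.normalizer (P.A : Set G)

theorem mem_NA [Finite G] {g : G} (h : ∀ a ∈ P.A, g * a * g⁻¹ ∈ P.A) : g ∈ P.NA := by
  refine Subgroup.mem_set_normalizer_iff.2 fun a => ⟨h a, fun ha => ?_⟩
  have hs : Function.Surjective fun b : P.A => (⟨g * b * g⁻¹, h b b.2⟩ : P.A) :=
    Finite.injective_iff_surjective.1 fun b c e =>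
      Subtype.ext (mul_left_cancel (mul_right_cancel (congrArg Subtype.val e)))
  obtain ⟨b, hb⟩ := hs ⟨g * a * g⁻¹, ha⟩
  have := mul_left_cancel (mul_right_cancel (congrArg Subtype.val hb : g * b * g⁻¹ = g * a * g⁻¹))
  exact this ▸ b.2

theorem NA_conj {g a : G} (hg : g ∈ P.NA) (ha : a ∈ P.A) : g * a * g⁻¹ ∈ P.A :=
  (Subgroup.mem_set_normalizer_iff.1 hg a).1 ha

theorem NA_cent [Finite G] {g : G} (hg : g * z = z * g) : g ∈ P.NA ↔ ∃ X, P.ev X = g ∧ inS X = true := by
  obtain ⟨X, rfl⟩ := (P.mem g).1 hg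
  constructor
  · intro h
    refine ⟨X, rfl, inS_of_conj X fun l => ?_⟩
    have hl : inA ((false, 1, 1), 0, l) = true := by cases l <;> decide
    have := P.NA_conj h (P.ev_mem_A.2 hl)
    rwa [P.ev_cj, P.ev_mem_A] at this
  · rintro ⟨Y, hY, hYS⟩
    refine P.mem_NA ?_
    rintro _ ⟨W, rfl, hW⟩
    rw [← hY, P.ev_cj, P.ev_mem_A]
    have eW := (inA_shape W hW).1
    rw [eW] at hW ⊢
    exact inS_conj Y hYS _ _ hW

/-- Elementary subgroups of order sixteen of the centraliser are conjugate in it. -/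
theorem elem_conj [Finite G] (B : Subgroup G) (hB : Nat.card B = 16) (hz : ∀ b ∈ B, b * z = z * b)
    (hab : ∀ x ∈ B, ∀ y ∈ B, x * y = y * x) (hsq : ∀ x ∈ B, x * x = 1) :
    ∃ l, l * z = z * l ∧ ∀ x, x ∈ B ↔ l⁻¹ * x * l ∈ P.A := by
  classical
  obtain ⟨y, hy, s, hys⟩ : ∃ y ∈ B, ∃ s : Bool, P.Lb (lab (repT s)) y := by
    by_contra hcon
    push Not at hcon
    have hcore : ∀ x ∈ B, x = 1 ∨ x = z ∨ ∃ m, P.Lb (clC m) x := by
      intro x hx
      rcases P.lb_of_invol (hz x hx) (hsq x hx) with e | e | e | e | e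
      · exact Or.inl e
      · exact Or.inr (Or.inl e)
      · exact Or.inr (Or.inr e)
      · exact absurd (lab_repT.1.symm ▸ e) (hcon x hx false)
      · exact absurd (lab_repT.2.symm ▸ e) (hcon x hx true)
    obtain ⟨y, hy, m, hym⟩ : ∃ y ∈ B, ∃ m, P.Lb (clC m) y := by
      by_contra hcon2
      push Not at hcon2
      have : Nat.card B ≤ 2 := by
        calc Nat.card B ≤ Nat.card ({1, z} : Finset G) := Nat.card_le_card_of_injective
              (fun x : B => (⟨x, by
                rcases hcore x x.2 with e | e | ⟨m, e⟩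
                · simp [e]
                · simp [e]
                · exact absurd e (hcon2 x x.2 m)⟩ : ({1, z} : Finset G)))
              fun a b h => Subtype.ext (congrArg Subtype.val h :)
          _ ≤ 2 := by rw [Nat.card_eq_finsetCard]; exact Finset.card_le_two
      omega
    obtain ⟨l, hl, hly⟩ := P.conj_repC hym
    have hli : Commute l⁻¹ z := (show Commute l z from hl).inv_left
    have hmap : ∀ x ∈ B, ∃ q : Q5, (em (inl q) (inl q) = e1 ∧ comm (repC m) (inl q) = true) ∧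
        P.ev (inl q) = l⁻¹ * x * l := by
      intro x hx
      obtain ⟨X, hX⟩ := (P.mem (l⁻¹ * x * l)).1 ((hli.mul_left (hz x hx)).mul_left hl).eq
      have hXq : X = inl X.1 := by
        have hlab : lab X = 0 ∨ lab X = 1 ∨ ∃ m, lab X = clC m := by
          rcases hcore x hx with e | e | ⟨m', e⟩
          · exact Or.inl ((lab_zero X).2 (P.inj (by rw [hX, e, P.ev_one]; group)))
          · exact Or.inr (Or.inl ((lab_one X).2 (P.inj (by rw [hX, e, P.ev_z, hli.eq]; group))))
          · refine Or.inr (Or.inr ⟨m', ?_⟩)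
            have h2 := P.lb_conj e hli.eq
            rw [inv_inv] at h2
            obtain ⟨Y, hY, hY'⟩ := h2
            rwa [P.inj (hX.trans hY.symm)]
        rcases hlab with e | e | ⟨m', e⟩
        · rw [(lab_zero X).1 e]; rfl
        · rw [(lab_one X).1 e]; rfl
        · exact (inE_core m' X (by simp [inE, e])).1
      refine ⟨X.1, ⟨?_, ?_⟩, by rw [← hXq, hX]⟩
      · rw [← hXq, ← P.sq_iff, hX, show l⁻¹ * x * l * (l⁻¹ * x * l) = l⁻¹ * (x * x) * l by group, hsq x hx]
        group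
      · rw [← hXq, ← P.comm_iff, hX]
        calc P.ev (repC m) * (l⁻¹ * x * l) = l⁻¹ * ((l * P.ev (repC m) * l⁻¹) * x) * l := by group
          _ = l⁻¹ * (x * (l * P.ev (repC m) * l⁻¹)) * l := by rw [hly, hab y hy x hx]
          _ = _ := by group
    choose q hq hq' using hmap
    have hle : Nat.card B ≤
        (Finset.univ.filter fun q : Q5 => em (inl q) (inl q) = e1 ∧ comm (repC m) (inl q) = true).card := by
      rw [← Nat.card_eq_finsetCard]
      refine Nat.card_le_card_of_injective (fun x : B => (⟨q x x.2, Finset.mem_filter.2 ⟨Finset.mem_univ _, hq x x.2⟩⟩ :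
        (Finset.univ.filter fun q : Q5 => em (inl q) (inl q) = e1 ∧ comm (repC m) (inl q) = true : Finset Q5)))
        fun a b h => Subtype.ext ?_
      have h1 : P.ev (inl (q a a.2)) = P.ev (inl (q b b.2)) :=
        congrArg (fun w => P.ev (inl w)) (congrArg Subtype.val h)
      rw [hq', hq'] at h1
      exact mul_left_cancel (mul_right_cancel h1)
    have := core_small m
    omega
  obtain ⟨l, hl, hly⟩ := P.conj_repT hys
  have hli : Commute l⁻¹ z := (show Commute l z from hl).inv_left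
  have hsub : ∀ x ∈ B, l⁻¹ * x * l ∈ P.A := by
    intro x hx
    obtain ⟨X, hX⟩ := (P.mem (l⁻¹ * x * l)).1 ((hli.mul_left (hz x hx)).mul_left hl).eq
    rw [← hX, P.ev_mem_A]
    refine inA_of_comm s X ?_ ?_
    · rw [← P.sq_iff, hX, show l⁻¹ * x * l * (l⁻¹ * x * l) = l⁻¹ * (x * x) * l by group, hsq x hx]
      group
    · rw [← P.comm_iff, hX]
      calc P.ev (repT s) * (l⁻¹ * x * l) = l⁻¹ * ((l * P.ev (repT s) * l⁻¹) * x) * l := by group
        _ = l⁻¹ * (x * (l * P.ev (repT s) * l⁻¹)) * l := by rw [hly, hab y hy x hx]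
        _ = _ := by group
  refine ⟨l, hl, fun x => ⟨hsub x, fun hx => ?_⟩⟩
  have hbij : Function.Bijective fun b : B => (⟨l⁻¹ * b * l, hsub b b.2⟩ : P.A) :=
    (Nat.bijective_iff_injective_and_card _).2
      ⟨fun a b h => Subtype.ext (mul_left_cancel (mul_right_cancel (congrArg Subtype.val h))), hB.trans P.card_A.symm⟩
  obtain ⟨b, hb⟩ := hbij.2 ⟨_, hx⟩
  have := mul_left_cancel (mul_right_cancel (congrArg Subtype.val hb : l⁻¹ * b * l = l⁻¹ * x * l))
  exact this ▸ b.2

/-- Fusion of the central involution inside the elementary subgroup happens in its normaliser. -/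
theorem fuse_A [Finite G] {e : G} (he : e ∈ P.A) (hX : IsX z e) : ∃ h ∈ P.NA, h * z * h⁻¹ = e := by
  obtain ⟨g, rfl⟩ := hX
  set B := P.A.map (MulAut.conj g⁻¹).toMonoidHom
  have hmem : ∀ x, x ∈ B ↔ g * x * g⁻¹ ∈ P.A := by
    intro x
    rw [Subgroup.mem_map]
    refine ⟨?_, fun h => ⟨g * x * g⁻¹, h, by simp [mul_assoc]⟩⟩
    rintro ⟨a, ha, rfl⟩
    simpa [mul_assoc] using ha
  obtain ⟨l, hl, hlB⟩ := P.elem_conj B
    (by rw [Subgroup.card_map_of_injective (MulAut.conj g⁻¹).injective, P.card_A])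
    (fun b hb => by
      have h := P.A_comm ((hmem b).1 hb) he
      rw [show g * b * g⁻¹ * (g * z * g⁻¹) = g * (b * z) * g⁻¹ by group,
        show g * z * g⁻¹ * (g * b * g⁻¹) = g * (z * b) * g⁻¹ by group] at h
      exact mul_left_cancel (mul_right_cancel h))
    (fun x hx y hy => by
      have h := P.A_comm ((hmem x).1 hx) ((hmem y).1 hy)
      rw [show g * x * g⁻¹ * (g * y * g⁻¹) = g * (x * y) * g⁻¹ by group,
        show g * y * g⁻¹ * (g * x * g⁻¹) = g * (y * x) * g⁻¹ by group] at h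
      exact mul_left_cancel (mul_right_cancel h))
    (fun x hx => by
      have h := P.A_sq ((hmem x).1 hx)
      rw [show g * x * g⁻¹ * (g * x * g⁻¹) = g * (x * x) * g⁻¹ by group] at h
      exact conj_eq_one_iff.1 h)
  refine ⟨g * l, P.mem_NA fun a ha => ?_, by
    rw [show g * l * z * (g * l)⁻¹ = g * (l * z * l⁻¹) * g⁻¹ by group, hl, mul_inv_cancel_right]⟩
  have h1 : l * a * l⁻¹ ∈ B := (hlB _).2 (by simpa [mul_assoc] using ha)
  have h2 := (hmem _).1 h1
  rwa [show g * l * a * (g * l)⁻¹ = g * (l * a * l⁻¹) * g⁻¹ by group]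

/-- the conjugates of the central involution in the subgroup of order sixteen -/
def orbA : Set G := {x | x ∈ P.A ∧ IsX z x}

theorem card_NA [Finite G] : Nat.card P.NA = P.orbA.ncard * 64 := by
  let act : MulAction P.NA G := MulAction.compHom G ((MulAut.conj).comp P.NA.subtype)
  letI := act
  have hsmul : ∀ (h : P.NA) (x : G), h • x = (h : G) * x * (h : G)⁻¹ := fun h x => rfl
  have horb : MulAction.orbit P.NA z = P.orbA := by
    ext x
    constructor
    · rintro ⟨h, rfl⟩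
      exact ⟨P.NA_conj h.2 P.z_mem_A, h, rfl⟩
    · rintro ⟨hx, hX⟩
      obtain ⟨h, hh, rfl⟩ := P.fuse_A hx hX
      exact ⟨⟨h, hh⟩, rfl⟩
  have hst : Nat.card (MulAction.stabilizer P.NA z) = 64 := by
    rw [← inS_count, ← Nat.card_eq_finsetCard]
    refine (Nat.card_congr (Equiv.ofBijective (fun X : (Finset.univ.filter fun X : El => inS X = true : Finset El) =>
      (⟨⟨P.ev X.1, (P.NA_cent (P.commute_z _)).2 ⟨X.1, rfl, (Finset.mem_filter.1 X.2).2⟩⟩, ?_⟩ :
        MulAction.stabilizer P.NA z)) ⟨fun X Y h => Subtype.ext (P.inj (congrArg (fun w : MulAction.stabilizer P.NA z => ((w : P.NA) : G)) h)), ?_⟩)).symm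
    · rw [MulAction.mem_stabilizer_iff, hsmul]
      show P.ev X.1 * z * (P.ev X.1)⁻¹ = z
      rw [P.commute_z, mul_inv_cancel_right]
    · rintro ⟨⟨g, hg⟩, hgz⟩
      rw [MulAction.mem_stabilizer_iff, hsmul] at hgz
      obtain ⟨X, hX, hXS⟩ := (P.NA_cent (mul_inv_eq_iff_eq_mul.1 hgz)).1 hg
      exact ⟨⟨X, Finset.mem_filter.2 ⟨Finset.mem_univ _, hXS⟩⟩, Subtype.ext (Subtype.ext hX)⟩
  have := Subgroup.card_mul_index (MulAction.stabilizer P.NA z)
  rw [MulAction.index_stabilizer, horb, hst] at this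
  omega

/-- counting in the subgroup of order sixteen -/
theorem ncard_A_filter [Finite G] (q : El → Bool) (s : Set G) (hs : ∀ X, inA X = true → (P.ev X ∈ s ↔ q X = true))
    (hsA : s ⊆ P.A) : s.ncard = (Finset.univ.filter fun X : El => inA X = true ∧ q X = true).card := by
  classical
  have : s = ↑((Finset.univ.filter fun X : El => inA X = true ∧ q X = true).image P.ev) := by
    ext x
    simp only [Finset.coe_image, Finset.coe_filter, Finset.mem_univ, true_and, Set.mem_image, Set.mem_setOf_eq]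
    constructor
    · intro hx
      obtain ⟨X, rfl, hX⟩ := hsA hx
      exact ⟨X, ⟨hX, (hs X hX).1 hx⟩, rfl⟩
    · rintro ⟨X, ⟨hX, hq⟩, rfl⟩
      exact (hs X hX).2 hq
  rw [this, Set.ncard_coe_finset, Finset.card_image_of_injective _ P.inj]

end Par

end Cfsg.Agent.MTwelve.SwapCase
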