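import Cfsg.Agent.Lib.Spor.MTwelve.SwapCase.Local
import Cfsg.Agent.Lib.Lead.GLFourTwo

/-!
A normal elementary subgroup of order eight with fused involutions has quotient the linear group of dimension three.
-/

set_option autoImplicit false
set_option maxRecDepth 100000

namespace Cfsg.Agent.MTwelve.SwapCase

open CentShape OrderFront

universe u

/-- coordinates on the elementary subgroup -/
def vecEl (n : Fin 3) (v : Fin 3 → ZMod 2) : El :=
  em (em (if v 0 = 0 then e1 else ez) (if v 1 = 0 then e1 else repC n))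
    (if v 2 = 0 then e1 else inl (false, 2, (rot^[n.val]) 2))

theorem vecEl_add : ∀ n : Fin 3, ∀ u v : Fin 3 → ZMod 2, vecEl n (u + v) = em (vecEl n u) (vecEl n v) := by
  decide +kernel

theorem vecEl_mem : ∀ n : Fin 3, ∀ v : Fin 3 → ZMod 2, inE n (vecEl n v) = true := by decide +kernel

theorem vecEl_zero : ∀ n : Fin 3, ∀ v : Fin 3 → ZMod 2, vecEl n v = e1 → v = 0 := by decide +kernel

namespace Par

variable {G : Type u} [Group G] [Finite G] {z : G} (P : Par z) {n : Fin 3}

theorem coord_bij : Function.Bijective fun v => (⟨P.ev (vecEl n v), ⟨_, rfl, vecEl_mem n v⟩⟩ : P.E n) := by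
  refine (Nat.bijective_iff_injective_and_card _).2 ⟨fun u v h => ?_, ?_⟩
  · have h' : vecEl n u = vecEl n v := P.inj (congrArg Subtype.val h)
    have h0 : vecEl n (u + v) = e1 := by
      rw [vecEl_add, h']
      exact (inE_core n _ (vecEl_mem n v)).2
    have := vecEl_zero n _ h0
    funext i
    have hi := congrFun this i
    revert hi
    simp only [Pi.add_apply, Pi.zero_apply]
    generalize u i = a
    generalize v i = b
    revert a b
    decide
  · rw [P.card_E, Nat.card_eq_fintype_card]
    rfl

/-- The quotient by a normal elementary subgroup of order eight with fused involutions. -/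
theorem quotient_iso (F : P.Fused n) (hN : (P.E n).Normal) :
    Nonempty (G ⧸ P.E n ≃* Matrix.ProjectiveSpecialLinearGroup (Fin 3) (ZMod 2)) := by
  classical
  haveI := hN
  set c : (Fin 3 → ZMod 2) → G := fun v => P.ev (vecEl n v) with hc
  have hc_add : ∀ u v, c (u + v) = c u * c v := fun u v => by simp only [hc, vecEl_add, P.mul]
  have hc_inj : Function.Injective c := fun u v h => P.coord_bij.1 (Subtype.ext h)
  let e := Equiv.ofBijective _ (P.coord_bij (n := n))
  have hce : ∀ x : P.E n, c (e.symm x) = x := fun x => congrArg Subtype.val (e.apply_symm_apply x)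
  let f : G → (Fin 3 → ZMod 2) →+ (Fin 3 → ZMod 2) := fun h => AddMonoidHom.mk'
    (fun v => e.symm ⟨h * c v * h⁻¹, hN.conj_mem _ ⟨_, rfl, vecEl_mem n v⟩ h⟩) fun u v => hc_inj (by
      simp only [hce, hc_add]
      group)
  have hf : ∀ h v, c (f h v) = h * c v * h⁻¹ := fun h v => hce _
  let M : G → Matrix (Fin 3) (Fin 3) (ZMod 2) := fun h => LinearMap.toMatrix' ((f h).toZModLinearMap 2)
  have hM : ∀ h k, M (h * k) = M h * M k := by
    intro h k
    show LinearMap.toMatrix' _ = _
    rw [← LinearMap.toMatrix'_comp]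
    refine congrArg LinearMap.toMatrix' (LinearMap.ext fun v => hc_inj ?_)
    show c (f (h * k) v) = c (f h (f k v))
    rw [hf, hf, hf]
    group
  have hM1 : M 1 = 1 := by
    show LinearMap.toMatrix' _ = _
    rw [← LinearMap.toMatrix'_id]
    refine congrArg LinearMap.toMatrix' (LinearMap.ext fun v => hc_inj ?_)
    show c (f 1 v) = c v
    rw [hf]
    group
  let M0 : G →* Matrix (Fin 3) (Fin 3) (ZMod 2) := { toFun := M, map_one' := hM1, map_mul' := hM }
  let ρ : G →* GL (Fin 3) (ZMod 2) := M0.toHomUnits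
  have hker : ρ.ker = P.E n := by
    ext h
    rw [MonoidHom.mem_ker]
    constructor
    · intro hh
      refine P.E_self_cent fun x hx => ?_
      have h1 : M h = 1 := congrArg Units.val hh
      have h2 : (f h).toZModLinearMap 2 = LinearMap.id :=
        LinearMap.toMatrix'.injective (h1.trans LinearMap.toMatrix'_id.symm)
      have h3 := congrArg c (LinearMap.congr_fun h2 (e.symm ⟨x, hx⟩))
      change c (f h _) = c (e.symm ⟨x, hx⟩) at h3
      rw [hf, hce] at h3
      exact (mul_inv_eq_iff_eq_mul.1 h3).symm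
    · intro hh
      refine Units.ext ?_
      show M h = 1
      show LinearMap.toMatrix' _ = _
      rw [← LinearMap.toMatrix'_id]
      refine congrArg LinearMap.toMatrix' (LinearMap.ext fun v => hc_inj ?_)
      show c (f h v) = c v
      rw [hf, P.E_comm hh ⟨_, rfl, vecEl_mem n v⟩, mul_inv_cancel_right]
  have hL : Nat.card (Subgroup.centralizer ({z} : Set G)) = 192 := by
    rw [← Gens.card_el]
    exact (Nat.card_congr (Equiv.ofBijective (fun X : El => (⟨P.ev X,
      Subgroup.mem_centralizer_singleton_iff.2 (P.commute_z X)⟩ : Subgroup.centralizer ({z} : Set G)))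
      ⟨fun X Y h => P.inj (congrArg Subtype.val h), fun ⟨g, hg⟩ => by
        obtain ⟨X, rfl⟩ := (P.mem g).1 (Subgroup.mem_centralizer_singleton_iff.1 hg)
        exact ⟨X, rfl⟩⟩)).symm
  have hG : Nat.card G = 1344 := by
    have hst : MulAction.stabilizer (ConjAct G) z = (Subgroup.centralizer ({z} : Set G)).map
        ConjAct.toConjAct.toMonoidHom := by
      ext g
      rw [MulAction.mem_stabilizer_iff]
      constructor
      · intro hg
        refine ⟨ConjAct.ofConjAct g, ?_, ConjAct.toConjAct_ofConjAct g⟩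
        rw [ConjAct.smul_def, mul_inv_eq_iff_eq_mul] at hg
        exact Subgroup.mem_centralizer_singleton_iff.2 hg
      · rintro ⟨k, hk, rfl⟩
        rw [ConjAct.smul_def]
        show k * z * k⁻¹ = z
        exact mul_inv_eq_iff_eq_mul.2 (Subgroup.mem_centralizer_singleton_iff.1 hk)
    have hcl : MulAction.orbit (ConjAct G) z = (P.E n : Set G) \ {1} := by
      ext x
      constructor
      · rintro ⟨g, rfl⟩
        refine ⟨hN.conj_mem _ (P.z_mem_E n) _, fun hx => P.z_ne ?_⟩
        exact conj_eq_one_iff.1 (hx : ConjAct.ofConjAct g * z * (ConjAct.ofConjAct g)⁻¹ = 1)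
      · rintro ⟨hx, hx1⟩
        obtain ⟨h, -, rfl⟩ := P.trans_E F hx hx1
        exact ⟨ConjAct.toConjAct h, by simp [ConjAct.smul_def]⟩
    have h7 : (MulAction.orbit (ConjAct G) z).ncard = 7 := by
      rw [hcl, Set.ncard_sdiff_singleton_of_mem (show (1 : G) ∈ (P.E n : Set G) from one_mem _),
        ← Nat.card_coe_set_eq]
      show Nat.card (P.E n) - 1 = 7
      rw [P.card_E]
    have hsc := Subgroup.card_mul_index (MulAction.stabilizer (ConjAct G) z)
    have hcm : Nat.card (MulAction.stabilizer (ConjAct G) z) = 192 := by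
      rw [hst, ← hL]
      exact Subgroup.card_map_of_injective (f := (ConjAct.toConjAct (G := G)).toMonoidHom) ConjAct.toConjAct.injective
    rw [MulAction.index_stabilizer, h7, hcm] at hsc
    exact hsc.symm
  haveI : Fact (Nat.Prime 2) := ⟨Nat.prime_two⟩
  have h168 : Nat.card (GL (Fin 3) (ZMod 2)) = 168 := by
    rw [Matrix.card_GL_field, ZMod.card]
    decide
  have hq : Nat.card (G ⧸ P.E n) = 168 := by
    have := (P.E n).card_eq_card_quotient_mul_card_subgroup
    rw [hG, P.card_E] at this
    omega
  let φ : G ⧸ P.E n →* GL (Fin 3) (ZMod 2) := QuotientGroup.lift (P.E n) ρ hker.ge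
  have hφ : Function.Injective φ := by
    rw [← MonoidHom.ker_eq_bot_iff, eq_bot_iff]
    intro q hq
    obtain ⟨g, rfl⟩ := QuotientGroup.mk_surjective q
    have : g ∈ P.E n := hker ▸ (MonoidHom.mem_ker.2 hq : g ∈ ρ.ker)
    exact Subgroup.mem_bot.2 ((QuotientGroup.eq_one_iff g).2 this)
  obtain ⟨i⟩ := Lead.GLFourTwo.gl_psl (n := Fin 3)
  exact ⟨(MulEquiv.ofBijective φ ((Nat.bijective_iff_injective_and_card φ).2 ⟨hφ, hq.trans h168.symm⟩)).trans i⟩

end Par

end Cfsg.Agent.MTwelve.SwapCase
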