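import Cfsg.Prelude
import Cfsg.Agent.S0111

/-!
Subgroups of index two from the transfer lemma, inside a subgroup and modulo a central involution.
-/

set_option autoImplicit false
set_option linter.style.haveILetI false

namespace Cfsg.Agent.MTwelve.SwapCase

universe u

variable {G : Type u} [Group G]

/-- Products and membership in a subgroup of relative index two. -/
theorem parity {H M : Subgroup G} (hi : M.relIndex H = 2) {a c : G} (ha : a ∈ H) (hc : c ∈ H) :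
    a * c ∈ M ↔ (a ∈ M ↔ c ∈ M) :=
  Subgroup.mul_mem_iff_of_index_two (H := M.subgroupOf H) hi (a := ⟨a, ha⟩) (b := ⟨c, hc⟩)

theorem odd_mem {H M : Subgroup G} (hi : M.relIndex H = 2) {a : G} (ha : a ∈ H) (hodd : Odd (orderOf a)) : a ∈ M := by
  have h2 : a ^ 2 ∈ M := by
    rw [sq]
    exact (parity hi ha ha).2 Iff.rfl
  obtain ⟨k, hk⟩ := hodd
  have h1 : a = (a ^ 2) ^ (k + 1) := by
    rw [← pow_mul, show 2 * (k + 1) = orderOf a + 1 by omega, pow_succ, pow_orderOf_eq_one, one_mul]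
  rw [h1]
  exact pow_mem h2 _

variable [Finite G]

theorem exists_index_two (H S Q : Subgroup G) (hSH : S ≤ H) (hodd : ¬ 2 ∣ S.relIndex H) (hS : IsPGroup 2 S)
    (hQS : Q ≤ S) (hQi : Q.relIndex S = 2) (u : G) (huS : u ∈ S) (hu2 : u * u = 1) (huQ : u ∉ Q)
    (hnf : ∀ h ∈ H, h * u * h⁻¹ ∉ Q) :
    ∃ M, M ≤ H ∧ M.relIndex H = 2 ∧ (∀ h ∈ H, ∀ m ∈ M, h * m * h⁻¹ ∈ M) ∧ u ∉ M := by
  haveI : Fact (Nat.Prime 2) := ⟨Nat.prime_two⟩
  let P : Sylow 2 H := IsPGroup.toSylow (P := S.subgroupOf H) (hS.comap_of_injective H.subtype H.subtype_injective) hodd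
  have hP : (P : Subgroup H) = S.subgroupOf H := rfl
  have hu1 : u ≠ 1 := fun e => huQ (e ▸ one_mem Q)
  rcases S0111.result P (Q.subgroupOf H) (hP.symm ▸ fun x hx => hQS hx)
    (by
      rw [hP]
      have h := Subgroup.relIndex_comap (f := H.subtype) (H := Q) (K := S.subgroupOf H)
      rw [Subgroup.map_subgroupOf_eq_of_le hSH] at h
      rw [← hQi]
      exact h)
    ⟨u, hSH huS⟩ (by rw [Subgroup.orderOf_mk]; exact orderOf_eq_prime (by rw [sq, hu2]) hu1)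
    (hP.symm ▸ huS) huQ with ⟨M, hM, hMi, huM⟩ | ⟨g, hg⟩
  · refine ⟨M.map H.subtype, Subgroup.map_subtype_le M, ?_, ?_, ?_⟩
    · show ((M.map H.subtype).subgroupOf H).index = 2
      rw [Subgroup.subgroupOf, Subgroup.comap_map_eq_self_of_injective H.subtype_injective, hMi]
    · rintro h hh _ ⟨m, hm, rfl⟩
      exact ⟨⟨h, hh⟩ * m * ⟨h, hh⟩⁻¹, hM.conj_mem m hm _, rfl⟩
    · rintro ⟨m, hm, hmu⟩
      exact huM ((Subtype.ext hmu : m = ⟨u, hSH huS⟩) ▸ hm)
  · exact absurd hg (hnf g g.2)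

theorem exists_index_two_mod (H S Q : Subgroup G) (b : G) (hbH : b ∈ H) (hbc : ∀ h ∈ H, h * b = b * h)
    (hbQ : b ∈ Q) (hSH : S ≤ H) (hodd : ¬ 2 ∣ S.relIndex H) (hS : IsPGroup 2 S)
    (hQS : Q ≤ S) (hQi : Q.relIndex S = 2) (w : G) (hwS : w ∈ S) (hw2 : w * w ∈ Subgroup.zpowers b) (hwQ : w ∉ Q)
    (hnf : ∀ h ∈ H, h * w * h⁻¹ ∉ Q) :
    ∃ M, M ≤ H ∧ M.relIndex H = 2 ∧ (∀ h ∈ H, ∀ m ∈ M, h * m * h⁻¹ ∈ M) ∧ b ∈ M ∧ w ∉ M := by
  haveI : Fact (Nat.Prime 2) := ⟨Nat.prime_two⟩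
  set B0 := (Subgroup.zpowers b).subgroupOf H
  haveI : B0.Normal := ⟨fun a ha g => by
    obtain ⟨k, hk⟩ := Subgroup.mem_zpowers_iff.1 (show (a : G) ∈ Subgroup.zpowers b from ha)
    show ((g * a * g⁻¹ : H) : G) ∈ Subgroup.zpowers b
    push_cast
    rw [← hk, ((show Commute (g : G) b from hbc g g.2).zpow_right k).eq, mul_inv_cancel_right]
    exact Subgroup.mem_zpowers_iff.2 ⟨k, rfl⟩⟩
  set π := QuotientGroup.mk' B0
  have hπ : Function.Surjective π := QuotientGroup.mk'_surjective B0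
  have hBQ : B0 ≤ Q.subgroupOf H := fun a ha => (Subgroup.zpowers_le.2 hbQ) ha
  have hcom : ∀ R : Subgroup G, Q ≤ R → ((R.subgroupOf H).map π).comap π = R.subgroupOf H := fun R hR => by
    rw [Subgroup.comap_map_eq, QuotientGroup.ker_mk', sup_eq_left.2 (hBQ.trans fun a ha => hR ha)]
  have hodd' : ¬ 2 ∣ ((S.subgroupOf H).map π).index := by
    rw [← Subgroup.index_comap_of_surjective _ hπ, hcom S hQS]
    exact hodd
  let P : Sylow 2 (H ⧸ B0) := IsPGroup.toSylow (P := (S.subgroupOf H).map π)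
    ((hS.comap_of_injective H.subtype H.subtype_injective).map π) hodd'
  have hmemQ : ∀ a : H, π a ∈ (Q.subgroupOf H).map π ↔ (a : G) ∈ Q := fun a => by
    rw [← Subgroup.mem_comap, hcom Q le_rfl]; rfl
  have hwH := hSH hwS
  rcases S0111.result P ((Q.subgroupOf H).map π) (Subgroup.map_mono fun a ha => hQS ha)
    (by
      show ((Q.subgroupOf H).map π).relIndex ((S.subgroupOf H).map π) = 2
      have h := Subgroup.relIndex_comap (f := π) (H := (Q.subgroupOf H).map π) (K := S.subgroupOf H)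
      rw [hcom Q le_rfl] at h
      rw [← h, ← hQi]
      have h' := Subgroup.relIndex_comap (f := H.subtype) (H := Q) (K := S.subgroupOf H)
      rw [Subgroup.map_subgroupOf_eq_of_le hSH] at h'
      exact h')
    (π ⟨w, hwH⟩) (orderOf_eq_prime (by
        rw [sq, ← map_mul]
        exact (QuotientGroup.eq_one_iff (N := B0) _).2 hw2) fun e => hwQ
          ((Subgroup.zpowers_le.2 hbQ) ((QuotientGroup.eq_one_iff (N := B0) ⟨w, hwH⟩).1 e)))
    ⟨⟨w, hwH⟩, hwS, rfl⟩ (fun e => hwQ ((hmemQ _).1 e)) with ⟨M, hM, hMi, hwM⟩ | ⟨g, hg⟩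
  · refine ⟨(M.comap π).map H.subtype, Subgroup.map_subtype_le _, ?_, ?_, ?_, ?_⟩
    · show (((M.comap π).map H.subtype).subgroupOf H).index = 2
      rw [Subgroup.subgroupOf, Subgroup.comap_map_eq_self_of_injective H.subtype_injective,
        Subgroup.index_comap_of_surjective _ hπ, hMi]
    · rintro h hh _ ⟨m, hm, rfl⟩
      refine ⟨⟨h, hh⟩ * m * ⟨h, hh⟩⁻¹, ?_, rfl⟩
      show π _ ∈ M
      rw [map_mul, map_mul, map_inv]
      exact hM.conj_mem _ hm _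
    · refine ⟨⟨b, hbH⟩, ?_, rfl⟩
      show π ⟨b, hbH⟩ ∈ M
      rw [show π ⟨b, hbH⟩ = 1 from (QuotientGroup.eq_one_iff (N := B0) _).2 (Subgroup.mem_zpowers b)]
      exact one_mem M
    · rintro ⟨m, hm, hmw⟩
      exact hwM ((Subtype.ext hmw : m = ⟨w, hwH⟩) ▸ hm)
  · obtain ⟨g0, rfl⟩ := hπ g
    rw [← map_inv, ← map_mul, ← map_mul, hmemQ] at hg
    exact absurd hg (hnf g0 g0.2)

end Cfsg.Agent.MTwelve.SwapCase
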