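import Cfsg.Agent.Lib.Spor.MTwelve.SwapCase.TwoA
import Cfsg.Agent.Lib.Spor.MTwelve.SwapCase.Transfer

/-!
The centraliser of an involution of the second class: subgroups of index two and four.
-/

set_option autoImplicit false
set_option linter.style.haveILetI false

namespace Cfsg.Agent.MTwelve.SwapCase

open CentShape OrderFront

universe u

variable {G : Type u} [Group G] [Finite G] {z : G} {P : Par z}

namespace Two

variable (T : Two P)

/-- the centraliser of the involution of the second class -/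
def C : Subgroup G := Subgroup.centralizer ({T.b} : Set G)

theorem mem_C {g : G} : g ∈ T.C ↔ g * T.b = T.b * g := Subgroup.mem_centralizer_singleton_iff

theorem b_eq : T.b = P.ev eb := rfl

theorem ev_mem_C {X : El} : P.ev X ∈ T.C ↔ comm eb X = true := by
  rw [mem_C, b_eq, ← P.comm_iff]
  exact eq_comm

omit [Finite G] in
theorem pow_one_sq {x : G} (h : x * x = 1) : x⁻¹ = x := inv_eq_of_mul_eq_one_right h

/-- the intersection with the centraliser of the central involution -/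
def R : Subgroup G := T.C ⊓ Subgroup.centralizer ({z} : Set G)

theorem mem_R {g : G} : g ∈ T.R ↔ ∃ X, P.ev X = g ∧ comm eb X = true := by
  constructor
  · rintro ⟨h1, h2⟩
    obtain ⟨X, rfl⟩ := (P.mem g).1 (Subgroup.mem_centralizer_singleton_iff.1 h2)
    exact ⟨X, rfl, T.ev_mem_C.1 h1⟩
  · rintro ⟨X, rfl, hX⟩
    exact ⟨T.ev_mem_C.2 hX, Subgroup.mem_centralizer_singleton_iff.2 (P.commute_z X)⟩

theorem card_R : Nat.card T.R = 32 := by
  rw [← cent_eb_count, R, inf_comm]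
  exact P.card_cent eb

theorem A_le_R : P.A ≤ T.R := by
  rintro _ ⟨X, rfl, hX⟩
  exact T.mem_R.2 ⟨X, rfl, inA_comm_eb X hX⟩

theorem uu_mem_R : T.uu ∈ T.R := T.mem_R.2 ⟨eu, rfl, eu_facts.2.2.2.1⟩

/-- The centraliser of the central involution gives the Sylow subgroup of two-power order. -/
theorem relIndex_R : ¬ 2 ∣ T.R.relIndex T.C := by
  classical
  haveI : Fact (Nat.Prime 2) := ⟨Nat.prime_two⟩
  let act : MulAction T.C G := MulAction.compHom G ((MulAut.conj).comp T.C.subtype)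
  letI := act
  have hsmul : ∀ (h : T.C) (x : G), h • x = (h : G) * x * (h : G)⁻¹ := fun h x => rfl
  have hst : MulAction.stabilizer T.C z = T.R.subgroupOf T.C := by
    ext g
    rw [MulAction.mem_stabilizer_iff, hsmul, mul_inv_eq_iff_eq_mul]
    exact ⟨fun h => ⟨g.2, Subgroup.mem_centralizer_singleton_iff.2 h⟩,
      fun h => Subgroup.mem_centralizer_singleton_iff.1 h.2⟩
  set O := MulAction.orbit T.C z
  have hidx : T.R.relIndex T.C = O.ncard := by
    rw [Subgroup.relIndex, ← hst, MulAction.index_stabilizer]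
  rw [hidx]
  let act2 : MulAction T.R O :=
    { smul := fun r x => (⟨r, r.2.1⟩ : T.C) • x
      one_smul := fun x => one_smul T.C x
      mul_smul := fun r r' x => mul_smul (⟨r, r.2.1⟩ : T.C) ⟨r', r'.2.1⟩ x }
  letI := act2
  have h1 : Nat.card (MulAction.fixedPoints T.R O) = 1 := by
    refine Nat.card_eq_one_iff_unique.2 ⟨⟨?_⟩, ⟨⟨⟨z, MulAction.mem_orbit_self z⟩, fun r => Subtype.ext ?_⟩⟩⟩
    · have key : ∀ x : MulAction.fixedPoints T.R O, ((x : O) : G) = z := by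
        rintro ⟨⟨x, hxO⟩, hx⟩
        obtain ⟨c, hc⟩ := hxO
        show x = z
        have hfix : ∀ r ∈ T.R, r * x * r⁻¹ = x := fun r hr => congrArg Subtype.val (hx ⟨r, hr⟩)
        have hxz : x * z = z * x :=
          (mul_inv_eq_iff_eq_mul.1 (hfix z (T.A_le_R P.z_mem_A))).symm
        obtain ⟨X, rfl⟩ := (P.mem x).1 hxz
        have hXb : comm eb X = true := (P.comm_iff _ _).1
          (mul_inv_eq_iff_eq_mul.1 (hfix T.b (T.A_le_R T.bmem.1)))
        have hIs : IsX z (P.ev X) := ⟨c, hc⟩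
        rcases cent_centre X hXb (fun q l hq => (P.comm_iff _ _).1
          (mul_inv_eq_iff_eq_mul.1 (hfix _ (T.mem_R.2 ⟨_, rfl, hq⟩))).symm) with e | e | e | e
        · exfalso
          obtain ⟨g, hg⟩ := hIs
          rw [e, P.ev_one] at hg
          exact P.z_ne (conj_eq_one_iff.1 hg)
        · exact absurd hIs (e ▸ T.notX_of_bLab table_A.2.2.2.2.2.2.2.2.2.2.1)
        · exact absurd hIs (e ▸ T.notX_of_bLab table_A.2.2.2.2.2.2.2.2.2.2.2.1)
        · rw [e, P.ev_z]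
      exact fun a c => Subtype.ext (Subtype.ext ((key a).trans (key c).symm))
    · show (r : G) * z * (r : G)⁻¹ = z
      rw [Subgroup.mem_centralizer_singleton_iff.1 r.2.2, mul_inv_cancel_right]
  have hR : IsPGroup 2 T.R := IsPGroup.of_card (n := 5) (by rw [T.card_R]; rfl)
  have hmod := hR.card_modEq_card_fixedPoints O
  rw [h1, Nat.card_coe_set_eq] at hmod
  intro h2
  rw [Nat.ModEq, Nat.dvd_iff_mod_eq_zero.1 h2] at hmod
  norm_num at hmod

/-- A subgroup given by a closed set of normal forms. -/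
def ofEl (f : El → Bool) (h1 : f e1 = true) (hi : ∀ X, f X = true → f (einv X) = true)
    (hm : ∀ X Y, f X = true → f Y = true → f (em X Y) = true) (_ : Two P) : Subgroup G where
  carrier := {x | ∃ X, P.ev X = x ∧ f X = true}
  one_mem' := ⟨e1, P.ev_one, h1⟩
  mul_mem' := by
    rintro _ _ ⟨X, rfl, hX⟩ ⟨Y, rfl, hY⟩
    exact ⟨_, (P.mul X Y).symm, hm X Y hX hY⟩
  inv_mem' := by
    rintro _ ⟨X, rfl, hX⟩
    exact ⟨_, (P.ev_inv X).symm, hi X hX⟩

/-- the four-group of the second triangle times the involution -/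
def A1 : Subgroup G := ofEl inA1 (by decide) (fun X h => ((inM_facts X).2 h).2.2.1)
  (fun X Y hX hY => by
    obtain ⟨hM, -⟩ := (inM_facts X).2 hX
    obtain ⟨hM', -⟩ := (inM_facts Y).2 hY
    have eX := ((inM_facts X).1 hM).2.1
    have eY := ((inM_facts Y).1 hM').2.1
    rw [eX] at hX ⊢
    rw [eY] at hY ⊢
    exact inA1_closed _ _ _ _ hX hY) T

/-- a subgroup of index two in the Sylow subgroup -/
def M16 : Subgroup G := ofEl inM (by decide) (fun X h => ((inM_facts X).1 h).2.2)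
  (fun X Y hX hY => by
    have eX := ((inM_facts X).1 hX).2.1
    have eY := ((inM_facts Y).1 hY).2.1
    rw [eX] at hX ⊢
    rw [eY] at hY ⊢
    exact inM_closed _ _ _ _ hX hY) T

theorem card_ofEl (f : El → Bool) (h1) (hi) (hm) :
    Nat.card (ofEl (P := P) f h1 hi hm T) = (Finset.univ.filter fun X : El => f X = true).card := by
  rw [← Nat.card_eq_finsetCard]
  exact (Nat.card_congr (Equiv.ofBijective (fun X : (Finset.univ.filter fun X : El => f X = true : Finset El) =>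
    (⟨P.ev X.1, X.1, rfl, (Finset.mem_filter.1 X.2).2⟩ : ofEl (P := P) f h1 hi hm T))
    ⟨fun X Y h => Subtype.ext (P.inj (congrArg Subtype.val h)), fun ⟨x, X, hX, hX'⟩ =>
      ⟨⟨X, Finset.mem_filter.2 ⟨Finset.mem_univ _, hX'⟩⟩, Subtype.ext hX⟩⟩)).symm

theorem mem_A1 {x : G} : x ∈ T.A1 ↔ ∃ X, P.ev X = x ∧ inA1 X = true := Iff.rfl

theorem mem_M16 {x : G} : x ∈ T.M16 ↔ ∃ X, P.ev X = x ∧ inM X = true := Iff.rfl

theorem card_A1 : Nat.card T.A1 = 8 := (card_ofEl T _ _ _ _).trans inM_counts.2.1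

theorem card_M16 : Nat.card T.M16 = 16 := (card_ofEl T _ _ _ _).trans inM_counts.1

theorem A1_le_A : T.A1 ≤ P.A := by
  rintro _ ⟨X, rfl, hX⟩
  exact P.ev_mem_A.2 ((inM_facts X).2 hX).2.1

theorem M16_le : T.M16 ≤ T.R := by
  rintro _ ⟨X, rfl, hX⟩
  exact T.mem_R.2 ⟨X, rfl, ((inM_facts X).1 hX).1⟩

theorem A1_gen {M : Subgroup G} (hb : T.b ∈ M) (hb' : T.b' ∈ M) (hp : T.p ∈ M) (hp' : T.p' ∈ M) : T.A1 ≤ M := by
  rintro _ ⟨X, rfl, hX⟩
  simp only [inA1, List.contains_iff_mem, List.mem_cons, List.not_mem_nil, or_false] at hX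
  rcases hX with rfl | rfl | rfl | rfl | rfl | rfl | rfl | rfl
  · rw [P.ev_one]; exact one_mem M
  · exact hb
  · exact hb'
  · rw [← P.mul]; exact mul_mem hb hb'
  · exact hp
  · rw [← P.mul]; exact mul_mem hb hp
  · exact hp'
  · rw [← P.mul]; exact mul_mem hb hp'

/-- an element of order three cycling the second triangle -/
noncomputable def y : G := T.exists_y.choose

theorem y_spec : T.y ∈ P.NA ∧ orderOf T.y = 3 ∧ T.y * T.b = T.b * T.y ∧ T.y * T.v = T.v * T.y ∧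
    T.y * T.b' * T.y⁻¹ = T.p ∧ T.y * T.p * T.y⁻¹ = T.p' ∧ T.y * T.p' * T.y⁻¹ = T.b' := T.exists_y.choose_spec

theorem y_mem_C : T.y ∈ T.C := T.mem_C.2 T.y_spec.2.2.1

/-- A subgroup of index two containing the involution contains the whole of its translate. -/
theorem A1_le_of {H M : Subgroup G} (hi : M.relIndex H = 2) (hM : ∀ h ∈ H, ∀ m ∈ M, h * m * h⁻¹ ∈ M)
    (hy : T.y ∈ H) (hA : T.A1 ≤ H) (hbM : T.b ∈ M) : T.A1 ≤ M := by
  have hA' : T.b' ∈ H ∧ T.p ∈ H ∧ T.p' ∈ H :=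
    ⟨hA ⟨eb', rfl, by decide⟩, hA ⟨ep0, rfl, by decide⟩, hA ⟨ep1, rfl, by decide⟩⟩
  obtain ⟨-, -, -, -, y1, y2, y3⟩ := T.y_spec
  have hiff : ∀ {a c : G}, a ∈ H → T.y * a * T.y⁻¹ = c → (a ∈ M ↔ c ∈ M) := by
    intro a c ha hac
    refine ⟨fun h => hac ▸ hM _ hy _ h, fun h => ?_⟩
    have := hM _ (inv_mem hy) _ h
    rwa [← hac, show T.y⁻¹ * (T.y * a * T.y⁻¹) * T.y⁻¹⁻¹ = a by group] at this
  have hpp : T.p ∈ M ↔ T.p' ∈ M := hiff hA'.2.1 y2
  have hb' : T.b' ∈ M := T.p_mul_p' ▸ (parity hi hA'.2.1 hA'.2.2).2 hpp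
  have hp := (hiff hA'.1 y1).1 hb'
  exact T.A1_gen hbM hb' hp (hpp.1 hp)

theorem b_ne : T.b ≠ 1 := T.tri_b.2

theorem v_mem_R : T.v ∈ T.R := T.A_le_R T.bmem.2.2.1

theorem b_central {h : G} (hh : h ∈ T.C) : h * T.b = T.b * h := T.mem_C.1 hh

theorem labels_conj {h : G} (hh : h ∈ T.C) {X Y : El} (he : h * P.ev X * h⁻¹ = P.ev Y)
    (hY : em Y Y = e1) (hX : bLab X = true) (hX' : bLab (em eb X) = true) :
    bLab Y = true ∧ bLab (em eb Y) = true ∨ Y = e1 ∨ Y = eb := by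
  have h1 : ¬ IsX z (P.ev Y) := fun h => T.notX_of_bLab hX (he ▸ h).of_conj
  have hb : h * P.ev (em eb X) * h⁻¹ = P.ev (em eb Y) := by
    rw [← P.mul, ← P.mul, ← he, ← b_eq T]
    calc h * (T.b * P.ev X) * h⁻¹ = (h * T.b) * P.ev X * h⁻¹ := by group
      _ = T.b * (h * P.ev X * h⁻¹) := by rw [T.b_central hh]; group
  have h2 : ¬ IsX z (P.ev (em eb Y)) := fun h => T.notX_of_bLab hX' (hb ▸ h).of_conj
  have conv : ∀ W : El, em W W = e1 → ¬ IsX z (P.ev W) → bLab W = true ∨ W = e1 := by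
    intro W hW hnW
    have h7 := (SwapCase.sq_iff W).1 hW
    have cases8 : ∀ k : Fin 8, k < 7 → k = 0 ∨ (k == 2 || k == 5) = true ∨ (k = 1 ∨ k = 3 ∨ k = 4 ∨ k = 6) := by
      decide
    rcases cases8 _ h7 with e | e | e
    · exact Or.inr ((lab_zero W).1 e)
    · exact Or.inl e
    · exact absurd (T.isX ⟨W, rfl, rfl⟩ e) hnW
  rcases conv Y hY h1 with e | e
  · have hbY : em (em eb Y) (em eb Y) = e1 := by
      have hYb : P.ev Y * T.b = T.b * P.ev Y := by
        rw [← he, show h * P.ev X * h⁻¹ * T.b = h * (P.ev X * (h⁻¹ * T.b)) by group,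
          (show Commute h⁻¹ T.b from (show Commute h T.b from T.b_central hh).inv_left).eq]
        by_cases hc : P.ev X * T.b = T.b * P.ev X
        · rw [← mul_assoc, ← mul_assoc, mul_assoc h, hc, ← mul_assoc h, T.b_central hh]; group
        · exfalso
          apply hc
          have hX2 : P.ev X * P.ev X = 1 := by
            have h3 : h * P.ev X * h⁻¹ * (h * P.ev X * h⁻¹) = 1 := by rw [he]; exact (P.sq_iff Y).2 hY
            rw [show h * P.ev X * h⁻¹ * (h * P.ev X * h⁻¹) = h * (P.ev X * P.ev X) * h⁻¹ by group] at h3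
            exact conj_eq_one_iff.1 h3
          have h4 : P.ev (em eb X) * P.ev (em eb X) = 1 := by
            have h7' := (SwapCase.sq_iff (em eb X)).2 (by
              simp only [bLab, Bool.or_eq_true, beq_iff_eq] at hX'
              rcases hX' with e | e <;> rw [e] <;> decide)
            exact (P.sq_iff _).2 h7'
          rw [← P.mul, ← b_eq T] at h4
          have hb2 : T.b * T.b = 1 := P.A_sq T.bmem.1
          calc P.ev X * T.b = (T.b * T.b) * (P.ev X * T.b) * (P.ev X * P.ev X) := by rw [hb2, hX2, one_mul, mul_one]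
            _ = T.b * (T.b * P.ev X * (T.b * P.ev X)) * P.ev X := by group
            _ = T.b * P.ev X := by rw [h4, mul_one]
      rw [← P.sq_iff, ← P.mul, ← b_eq T]
      calc T.b * P.ev Y * (T.b * P.ev Y) = T.b * (P.ev Y * T.b) * P.ev Y := by group
        _ = (T.b * T.b) * (P.ev Y * P.ev Y) := by rw [hYb]; group
        _ = 1 := by rw [show T.b * T.b = 1 from P.A_sq T.bmem.1, (P.sq_iff Y).2 hY, one_mul]
    rcases conv _ hbY h2 with e' | e'
    · exact Or.inl ⟨e, e'⟩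
    · refine Or.inr (Or.inr (P.inj ?_))
      have h5 := congrArg P.ev e'
      rw [← P.mul, ← b_eq T, P.ev_one] at h5
      rw [← b_eq T]
      exact (eq_inv_of_mul_eq_one_right h5).trans (pow_one_sq (P.A_sq T.bmem.1))
  · exact Or.inr (Or.inl e)

theorem conj_label_ne {h : G} (hh : h ∈ T.C) {X Y : El} (he : h * P.ev X * h⁻¹ = P.ev Y) (hXe : X ≠ e1)
    (hXb : X ≠ eb) : Y ≠ e1 ∧ Y ≠ eb := by
  constructor <;> intro e <;> rw [e] at he
  · rw [P.ev_one] at he
    exact hXe (P.inj ((conj_eq_one_iff.1 he).trans P.ev_one.symm))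
  · rw [← b_eq T, mul_inv_eq_iff_eq_mul, ← T.b_central hh] at he
    exact hXb (P.inj (mul_left_cancel he))

theorem exists_C1 : ∃ C1, C1 ≤ T.C ∧ C1.relIndex T.C = 2 ∧ (∀ h ∈ T.C, ∀ m ∈ C1, h * m * h⁻¹ ∈ C1) ∧
    T.v ∉ C1 ∧ T.b ∈ C1 ∧ T.A1 ≤ C1 := by
  have hQi : T.M16.relIndex T.R = 2 := by
    have h := (T.M16.subgroupOf T.R).card_mul_index
    rw [Nat.card_congr (Subgroup.subgroupOfEquivOfLe T.M16_le).toEquiv, T.card_M16, T.card_R] at h
    show (T.M16.subgroupOf T.R).index = 2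
    omega
  have hv : T.v ∉ T.M16 := fun ⟨X, hX, hX'⟩ => by
    rw [P.inj hX, inM_counts.2.2.1] at hX'
    exact absurd hX' (by decide)
  obtain ⟨C1, h1, h2, h3, h4⟩ := exists_index_two T.C T.R T.M16 inf_le_left T.relIndex_R
    (IsPGroup.of_card (n := 5) (by rw [T.card_R]; rfl)) T.M16_le hQi T.v T.v_mem_R (P.A_sq T.bmem.2.2.1) hv
    (fun h hh hc => by
      obtain ⟨Y, hY, hYM⟩ := hc
      have hY2 : em Y Y = e1 := (P.sq_iff Y).1 (by
        rw [hY, show h * T.v * h⁻¹ * (h * T.v * h⁻¹) = h * (T.v * T.v) * h⁻¹ by group, P.A_sq T.bmem.2.2.1]; group)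
      obtain ⟨n1, n2⟩ := T.conj_label_ne hh (X := ev0) hY.symm (by decide) (by decide)
      rcases T.labels_conj hh (X := ev0) hY.symm hY2 (by decide +kernel) (by decide +kernel) with e | e | e
      · exact inM_invol Y hYM hY2 e
      · exact n1 e
      · exact n2 e)
  have hbC : T.b ∈ T.C := T.mem_C.2 rfl
  have hbsq : T.b = P.ev (em ev0 eu) * P.ev (em ev0 eu) := by
    rw [P.mul, eu_facts.2.2.2.2.2.2.2.2.2]
    rfl
  have hw : P.ev (em ev0 eu) ∈ T.C := T.ev_mem_C.2 (by decide +kernel)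
  have hb : T.b ∈ C1 := hbsq ▸ (parity h2 hw hw).2 Iff.rfl
  exact ⟨C1, h1, h2, h3, h4, hb, T.A1_le_of h2 h3 T.y_mem_C (T.A1_le_A.trans (T.A_le_R.trans inf_le_left)) hb⟩

theorem R_split {g : G} (hg : g ∈ T.R) : ∃ a c : Bool, g * cond a T.v 1 * cond c T.uu 1 ∈ T.A1 := by
  obtain ⟨X, rfl, hX⟩ := T.mem_R.1 hg
  obtain ⟨a, c, h⟩ := cent_split X hX
  refine ⟨a, c, _, ?_, h⟩
  rw [← P.mul, ← P.mul]
  cases a <;> cases c <;> simp only [cond_true, cond_false, P.ev_one] <;> rfl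

/-- The subgroup of index four with the second four-group as Sylow quotient. -/
theorem exists_C2 : ∃ C2, C2 ≤ T.C ∧ C2 ⊓ T.R = T.A1 ∧ T.y ∈ C2 ∧ (∀ a ∈ T.C, Odd (orderOf a) → a ∈ C2) ∧
    C2.relIndex T.C = 4 ∧ ¬ 2 ∣ T.A1.relIndex C2 := by
  obtain ⟨C1, h1, h2, h3, hv, hb, hA1⟩ := T.exists_C1
  set S1 := C1 ⊓ T.R
  have hS1 : S1.relIndex T.R = 2 := by
    show (S1.subgroupOf T.R).index = 2
    refine Subgroup.index_eq_two_iff.2 ⟨⟨T.v, T.v_mem_R⟩, fun g => ?_⟩
    show Xor' ((g : G) * T.v ∈ S1) ((g : G) ∈ S1)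
    have h := parity h2 g.2.1 T.v_mem_R.1
    have hgv : (g : G) * T.v ∈ T.R := mul_mem g.2 T.v_mem_R
    by_cases hg : (g : G) ∈ C1
    · exact Or.inr ⟨⟨hg, g.2⟩, fun hc => hv ((h.1 hc.1).1 hg)⟩
    · exact Or.inl ⟨⟨h.2 (iff_of_false hg hv), hgv⟩, fun hc => hg hc.1⟩
  have hS1c : Nat.card S1 = 16 := by
    have h := (S1.subgroupOf T.R).card_mul_index
    rw [Nat.card_congr (Subgroup.subgroupOfEquivOfLe inf_le_right).toEquiv, T.card_R,
      show (S1.subgroupOf T.R).index = 2 from hS1] at h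
    have h' : Nat.card S1 * 2 = 32 := h
    omega
  have huC : T.uu ∈ T.C := T.uu_mem_R.1
  have hvC : T.v ∈ T.C := T.v_mem_R.1
  obtain ⟨w, hw, hwA, hwsq, hwl⟩ : ∃ w ∈ S1, w ∉ T.A1 ∧ w * w ∈ Subgroup.zpowers T.b ∧
      ∀ h ∈ T.C, h * w * h⁻¹ ∉ T.A1 := by
    by_cases hu : T.uu ∈ C1
    · refine ⟨T.uu, ⟨hu, T.uu_mem_R⟩, ?_, ?_, ?_⟩
      · rintro ⟨X, hX, hX'⟩
        rw [P.inj hX, inM_counts.2.2.2.1] at hX'
        exact absurd hX' (by decide)
      · rw [uu, P.mul, eu_facts.1, P.ev_one]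
        exact one_mem _
      · rintro h hh ⟨Y, hY, hYA⟩
        have hY2 : em Y Y = e1 := (inA_shape Y ((inM_facts Y).2 hYA).2.1).2
        obtain ⟨n1, n2⟩ := T.conj_label_ne hh (X := eu) hY.symm (by decide) (by decide)
        rcases T.labels_conj hh (X := eu) hY.symm hY2 eu_facts.2.2.2.2.2.1 eu_facts.2.2.2.2.2.2.1 with e | e | e
        · exact ((inM_facts Y).2 hYA).2.2.2 e
        · exact n1 e
        · exact n2 e
    · refine ⟨T.v * T.uu, ⟨(parity h2 hvC huC).2 (iff_of_false hv hu), mul_mem T.v_mem_R T.uu_mem_R⟩, ?_, ?_, ?_⟩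
      · rintro ⟨X, hX, hX'⟩
        rw [v, uu, P.mul] at hX
        rw [P.inj hX, inM_counts.2.2.2.2.1] at hX'
        exact absurd hX' (by decide)
      · rw [v, uu, P.mul, P.mul, eu_facts.2.2.2.2.2.2.2.2.2]
        exact Subgroup.mem_zpowers _
      · intro h hh hc
        have h2' : (h * (T.v * T.uu) * h⁻¹) * (h * (T.v * T.uu) * h⁻¹) = 1 := P.A_sq (T.A1_le_A hc)
        rw [show h * (T.v * T.uu) * h⁻¹ * (h * (T.v * T.uu) * h⁻¹) = h * (T.v * T.uu * (T.v * T.uu)) * h⁻¹ by group]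
          at h2'
        have h5 := conj_eq_one_iff.1 h2'
        rw [v, uu, P.mul, P.mul, eu_facts.2.2.2.2.2.2.2.2.2] at h5
        exact T.b_ne h5
  have hA1S : T.A1 ≤ S1 := le_inf hA1 (T.A1_le_A.trans T.A_le_R)
  have hA1i : T.A1.relIndex S1 = 2 := by
    have h := (T.A1.subgroupOf S1).card_mul_index
    rw [Nat.card_congr (Subgroup.subgroupOfEquivOfLe hA1S).toEquiv, T.card_A1, hS1c] at h
    show (T.A1.subgroupOf S1).index = 2
    omega
  have hodd : ¬ 2 ∣ S1.relIndex C1 := by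
    have e1' := Subgroup.relIndex_mul_relIndex S1 C1 T.C inf_le_left h1
    have e2 := Subgroup.relIndex_mul_relIndex S1 T.R T.C inf_le_right inf_le_left
    rw [h2] at e1'
    rw [hS1] at e2
    intro hd
    apply T.relIndex_R
    obtain ⟨k, hk⟩ := hd
    exact ⟨k, by omega⟩
  obtain ⟨M, hMle, hMi, hMc, hbM, hwM⟩ := exists_index_two_mod C1 S1 T.A1 T.b hb
    (fun h hh => T.b_central (h1 hh)) ⟨eb, rfl, by decide⟩ inf_le_left hodd
    (IsPGroup.of_card (n := 4) (by rw [hS1c]; rfl)) hA1S hA1i w hw hwsq hwA (fun h hh => hwl h (h1 hh))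
  have hy1 : T.y ∈ C1 := odd_mem h2 T.y_mem_C (by rw [T.y_spec.2.1]; decide)
  have hy2 : T.y ∈ M := odd_mem hMi hy1 (by rw [T.y_spec.2.1]; decide)
  have hAM : T.A1 ≤ M := T.A1_le_of hMi hMc hy1 hA1 hbM
  have hMR : M ⊓ T.R = T.A1 := by
    refine le_antisymm ?_ (le_inf hAM (T.A1_le_A.trans T.A_le_R))
    rintro g ⟨hgM, hgR⟩
    have hgS : g ∈ S1 := ⟨hMle hgM, hgR⟩
    by_contra hg
    have hwg : w * g ∈ T.A1 := by
      have h := (Subgroup.mul_mem_iff_of_index_two (H := T.A1.subgroupOf S1) hA1i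
        (a := ⟨w, hw⟩) (b := ⟨g, hgS⟩)).2 (iff_of_false hwA hg)
      exact h
    exact hwM (by simpa using mul_mem (hAM hwg) (inv_mem hgM))
  refine ⟨M, hMle.trans h1, hMR, hy2, fun a ha ho => odd_mem hMi (odd_mem h2 ha ho) ho, ?_, ?_⟩
  · rw [← Subgroup.relIndex_mul_relIndex M C1 T.C hMle h1, hMi, h2]
  · have e2 := Subgroup.relIndex_mul_relIndex T.A1 S1 C1 hA1S inf_le_left
    have e1' := Subgroup.relIndex_mul_relIndex T.A1 M C1 hAM hMle
    rw [hA1i] at e2
    rw [hMi] at e1'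
    intro hd
    apply hodd
    obtain ⟨k, hk⟩ := hd
    exact ⟨k, by omega⟩

end Two

end Cfsg.Agent.MTwelve.SwapCase
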