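import Cfsg.Agent.Lib.Spor.MTwelve.SwapCase.ModelB

/-!
Finite checks: involutions exchanging the two triangles, centralisers of elements of order three.
-/

set_option autoImplicit false
set_option maxRecDepth 100000
set_option synthInstance.maxHeartbeats 400000
set_option synthInstance.maxSize 1024

namespace Cfsg.Agent.MTwelve.SwapCase

open CentShape

theorem exists_exch : ∃ X : El, inS X = true ∧ cj X eb = eb' := by decide +kernel

theorem exch_facts : ∀ X : El, inS X = true → cj X eb = eb' → em X X = e1 → xLab X = true := by decide +kernel

theorem invol_labels : ∀ X : El, em X X = e1 →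
    X = e1 ∨ xLab X = true ∨ lab X = clC 0 ∨ lab X = lab (repT false) := by decide +kernel

theorem three_shape : ∀ X : El, em (em X X) X = e1 → X ≠ e1 → X.2.1 ≠ 0 ∧ X.2.2 = false := by decide +kernel

theorem three_rep : ∀ i : Fin 3, i ≠ 0 → ∀ q : Q5, em (em (q, i, false) (q, i, false)) (q, i, false) = e1 →
    ∃ r : Q5, cj (inl r) (q1, i, false) = (q, i, false) := by decide +kernel

theorem three_cent_rep : ∀ i : Fin 3, i ≠ 0 →
    (Finset.univ.filter fun Y : El => comm (q1, i, false) Y = true).card = 6 := by decide +kernel

end Cfsg.Agent.MTwelve.SwapCase
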