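import Cfsg.Agent.Lib.Spor.MTwelve.SwapCase.Struct
import Cfsg.Agent.Lib.Spor.MTwelve.SwapCase.ModelC
import Cfsg.Agent.Lib.Lie.InvCentralizerFour

/-!
Two classes of involutions; elements of order three commuting with involutions of the first class.
-/

set_option autoImplicit false
set_option linter.style.haveILetI false
set_option maxRecDepth 100000

namespace Cfsg.Agent.MTwelve.SwapCase

open CentShape OrderFront

universe u

theorem IsX.transport {G : Type u} [Group G] {z x y : G} (hx : IsX z x) (h : ∃ g, g * x * g⁻¹ = y) : IsX z y := by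
  obtain ⟨g, rfl⟩ := h
  exact hx.conj g

variable {G : Type u} [Group G] [Finite G] {z : G} {P : Par z}

namespace Two

variable (T : Two P)

theorem z_isX : IsX z z := ⟨1, by simp⟩

theorem conj_of_lab {X : El} (h : lab X = clC 0 ∨ lab X = lab (repT false)) : ∃ g, g * T.b * g⁻¹ = P.ev X := by
  obtain ⟨-, -, -, hx⟩ := T.b_to_b'
  rcases h with h | h
  · obtain ⟨l, -, hl⟩ := P.conj_repC (x := P.ev X) ⟨X, rfl, h⟩
    exact ⟨l, hl⟩
  · obtain ⟨l, -, hl⟩ := P.conj_repT (x := P.ev X) ⟨X, rfl, h⟩
    obtain ⟨h', -, hh'⟩ := hx T.v (Or.inl (Or.inr (Or.inl rfl)))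
    exact ⟨l * h', by rw [← hl, ← show T.v = P.ev (repT false) from rfl, ← hh']; group⟩

theorem class_of_comm_z {t : G} (hz : t * z = z * t) (h2 : t * t = 1) (h1 : t ≠ 1) :
    IsX z t ∨ ∃ g, g * T.b * g⁻¹ = t := by
  obtain ⟨X, rfl⟩ := (P.mem t).1 hz
  rcases invol_labels X ((P.sq_iff X).1 h2) with e | e | e
  · exact absurd (e ▸ P.ev_one) h1
  · exact Or.inl (T.isX_of_xLab e)
  · exact Or.inr (T.conj_of_lab e)

include T in
/-- An element of order three and a second involution cannot both commute with an involution of the first class. -/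
theorem no_three {t s a : G} (ht : IsX z t) (hs : s * s = 1) (hs1 : s ≠ 1) (hst : s ≠ t) (hts : s * t = t * s)
    (hat : a * t = t * a) (has : a * s = s * a) (ha : orderOf a = 3) : False := by
  obtain ⟨h, rfl⟩ := ht
  set c := MulAut.conj h⁻¹ with hc
  have hcz : c (h * z * h⁻¹) = z := by simp [hc, mul_assoc]
  have e1'' : c s * z = z * c s := by rw [← hcz, ← map_mul, hts, map_mul]
  have e2 : c a * z = z * c a := by rw [← hcz, ← map_mul, hat, map_mul]
  have e3 : c a * c s = c s * c a := by rw [← map_mul, has, map_mul]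
  have e4 : c s * c s = 1 := by rw [← map_mul, hs, map_one]
  have h8 : (c a) ^ 8 = 1 := by
    have cl : ∀ k : Fin 8, P.Lb k (c s) → 2 ≤ k.val → k.val ≤ 6 → (c a) ^ 8 = 1 :=
      fun k hk h2 h6 => P.cent_exponent hk h2 h6 e2 e3
    rcases P.lb_of_invol e1'' e4 with e | e | ⟨m, e⟩ | e | e
    · exact absurd (c.map_eq_one_iff.1 e) hs1
    · exact absurd (c.injective (e.trans hcz.symm)) hst
    · exact cl _ e (by simp [clC]) (by simp [clC]; omega)
    · exact cl _ e (by decide +kernel) (by decide +kernel)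
    · exact cl _ e (by decide +kernel) (by decide +kernel)
  have := orderOf_dvd_of_pow_eq_one h8
  rw [MulEquiv.orderOf_eq, ha] at this
  norm_num at this

include T in
/-- The centraliser of an element of order three in the centraliser of an involution of the first class. -/
theorem card_three_cent {t a : G} (ht : IsX z t) (ha : orderOf a = 3) (hat : a * t = t * a) :
    Nat.card ↥(Subgroup.centralizer ({t} : Set G) ⊓ Subgroup.centralizer ({a} : Set G)) = 6 := by
  obtain ⟨h, rfl⟩ := ht
  set c := MulAut.conj h⁻¹ with hc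
  have hcz : c (h * z * h⁻¹) = z := by simp [hc, mul_assoc]
  have e2 : c a * z = z * c a := by rw [← hcz, ← map_mul, hat, map_mul]
  obtain ⟨⟨q, i, l⟩, hX⟩ := (P.mem (c a)).1 e2
  have h3 : em (em (q, i, l) (q, i, l)) (q, i, l) = e1 := P.inj (by
    rw [← P.mul, ← P.mul, hX, P.ev_one, ← map_mul, ← map_mul, ← pow_three', ← ha, pow_orderOf_eq_one, map_one])
  have h1 : (q, i, l) ≠ e1 := fun e => by
    rw [e, P.ev_one] at hX
    rw [c.map_eq_one_iff.1 hX.symm, orderOf_one] at ha
    omega
  obtain ⟨hi, hl⟩ := three_shape _ h3 h1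
  simp only at hi hl
  subst hl
  obtain ⟨r, hr⟩ := three_rep i hi q h3
  set d := MulAut.conj (P.ev (inl r))⁻¹ * c with hd
  have hda : d a = P.ev (q1, i, false) := by
    rw [hd, MulAut.mul_apply, ← hX, ← hr, ← P.ev_cj]
    simp [mul_assoc]
  have hdz : d (h * z * h⁻¹) = z := by
    rw [hd, MulAut.mul_apply, hcz, MulAut.conj_apply, inv_inv, mul_assoc, ← P.commute_z, inv_mul_cancel_left]
  have hmap : (Subgroup.centralizer ({h * z * h⁻¹} : Set G) ⊓ Subgroup.centralizer ({a} : Set G)).map d.toMonoidHom =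
      Subgroup.centralizer ({z} : Set G) ⊓ Subgroup.centralizer ({P.ev (q1, i, false)} : Set G) := by
    ext x
    simp only [Subgroup.mem_map, Subgroup.mem_inf, Subgroup.mem_centralizer_singleton_iff, MulEquiv.coe_toMonoidHom]
    constructor
    · rintro ⟨y, ⟨hy1, hy2⟩, rfl⟩
      exact ⟨by rw [← hdz, ← map_mul, hy1, map_mul], by rw [← hda, ← map_mul, hy2, map_mul]⟩
    · rintro ⟨hx1, hx2⟩
      refine ⟨d.symm x, ⟨d.injective ?_, d.injective ?_⟩, d.apply_symm_apply x⟩
      · rw [map_mul d (d.symm x), map_mul d _ (d.symm x), d.apply_symm_apply, hdz]; exact hx1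
      · rw [map_mul, map_mul, d.apply_symm_apply, hda]; exact hx2
  rw [← Subgroup.card_map_of_injective (f := d.toMonoidHom) d.injective, hmap, P.card_cent]
  exact three_cent_rep i hi

/-- No involution of the first class centralises an element of order three centralising a conjugate of `b`. -/
theorem not_X_of_three {t a : G} (hat : a * t = t * a) (ha : orderOf a = 3) (hab : a * T.b = T.b * a) :
    ¬ IsX z t := by
  intro ht
  obtain ⟨g, hg⟩ := ht
  have hb2 : T.b * T.b = 1 := P.A_sq T.bmem.1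
  have ht2 : t * t = 1 := by
    rw [← hg, show g * z * g⁻¹ * (g * z * g⁻¹) = g * (z * z) * g⁻¹ by group, P.z_sq]; group
  have hnc : ¬ IsConj t T.b := fun hc => by
    obtain ⟨h, hh⟩ := isConj_iff.1 hc
    exact T.tri_b.1 (IsX.transport ⟨g, hg⟩ ⟨h, hh⟩)
  obtain ⟨w1, w2, wt, wb⟩ := Lie.InvFour.mid_spec ht2 hb2 hnc
  have haw : a * Lie.InvFour.mid t T.b = Lie.InvFour.mid t T.b * a :=
    ((show Commute a t from hat).mul_right hab).pow_right _
  by_cases e : Lie.InvFour.mid t T.b = t
  · refine T.no_three ⟨g, hg⟩ hb2 T.b_ne (fun e' => T.tri_b.1 (e' ▸ ⟨g, hg⟩)) ?_ hat hab ha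
    rw [e] at wb
    exact wb.symm
  · exact T.no_three ⟨g, hg⟩ w2 w1 e wt hat haw ha

end Two

end Cfsg.Agent.MTwelve.SwapCase
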