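import Cfsg.Agent.Lib.Spor.MTwelve.SwapCase.CentB
import Cfsg.Agent.Lib.Lie.InvCentralizerFour

/-!
The centraliser of an involution of the second class has a normal subgroup isomorphic to the alternating group of
degree four or five.
-/

set_option autoImplicit false
set_option linter.style.haveILetI false

namespace Cfsg.Agent.MTwelve.SwapCase

open CentShape OrderFront

universe u

variable {G : Type u} [Group G] [Finite G] {z : G} {P : Par z}

/-- membership in the second four-group -/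
def inV2 (X : El) : Bool := [e1, eb', ep0, ep1].contains X

theorem inV2_facts : ∀ X : El, inV2 X = true →
    inA1 X = true ∧ inV2 (einv X) = true ∧ X ≠ eb ∧ inA1 (em eb X) = true := by decide +kernel

theorem inV2_closed : ∀ X ∈ [e1, eb', ep0, ep1], ∀ Y ∈ [e1, eb', ep0, ep1], inV2 (em X Y) = true := by
  decide +kernel

theorem inV2_count : (Finset.univ.filter fun X : El => inV2 X = true).card = 4 := by decide +kernel

theorem inA1_split : ∀ X : El, inA1 X = true → inV2 X = true ∨ inV2 (em eb X) = true := by decide +kernel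

namespace Two

variable (T : Two P)

/-- the second four-group -/
def V2 : Subgroup G := ofEl inV2 (by decide) (fun X h => (inV2_facts X h).2.1)
  (fun _ _ hX hY => inV2_closed _ (List.contains_iff_mem.1 hX) _ (List.contains_iff_mem.1 hY)) T

theorem mem_V2 {x : G} : x ∈ T.V2 ↔ ∃ X, P.ev X = x ∧ inV2 X = true := Iff.rfl

theorem card_V2 : Nat.card T.V2 = 4 := (card_ofEl T _ _ _ _).trans inV2_count

theorem V2_cases {x : G} (h : x ∈ T.V2) : x = 1 ∨ T.Tri2 x := by
  obtain ⟨X, rfl, hX⟩ := h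
  simp only [inV2, List.contains_iff_mem, List.mem_cons, List.not_mem_nil, or_false] at hX
  rcases hX with rfl | rfl | rfl | rfl
  exacts [Or.inl P.ev_one, Or.inr (Or.inl rfl), Or.inr (Or.inr (Or.inl rfl)), Or.inr (Or.inr (Or.inr rfl))]

theorem tri2_mem_V2 {x : G} (h : T.Tri2 x) : x ∈ T.V2 := by
  rcases h with rfl | rfl | rfl
  exacts [⟨eb', rfl, by decide⟩, ⟨ep0, rfl, by decide⟩, ⟨ep1, rfl, by decide⟩]

theorem V2_le_A1 : T.V2 ≤ T.A1 := by
  rintro _ ⟨X, rfl, hX⟩
  exact ⟨X, rfl, (inV2_facts X hX).1⟩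

/-- the subgroup generated by the elements of odd order of the centraliser -/
def K0 : Subgroup G := Subgroup.closure {a | a ∈ T.C ∧ Odd (orderOf a)}

theorem K0_le_C : T.K0 ≤ T.C := (Subgroup.closure_le _).2 fun _ h => h.1

theorem odd_mem_K0 {a : G} (ha : a ∈ T.C) (ho : Odd (orderOf a)) : a ∈ T.K0 := Subgroup.subset_closure ⟨ha, ho⟩

theorem K0_conj {h a : G} (hh : h ∈ T.C) (ha : a ∈ T.K0) : h * a * h⁻¹ ∈ T.K0 := by
  have : T.K0.map (MulAut.conj h).toMonoidHom ≤ T.K0 := by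
    rw [K0, MonoidHom.map_closure]
    refine (Subgroup.closure_le _).2 ?_
    rintro _ ⟨x, ⟨hx, ho⟩, rfl⟩
    refine Subgroup.subset_closure ⟨mul_mem (mul_mem hh hx) (inv_mem hh), ?_⟩
    show Odd (orderOf ((MulAut.conj h) x))
    rwa [MulEquiv.orderOf_eq]
  exact this ⟨a, ha, rfl⟩

theorem y_mem_K0 : T.y ∈ T.K0 := T.odd_mem_K0 T.y_mem_C (by rw [T.y_spec.2.1]; decide)

theorem tri2_mem_K0 {x : G} (h : T.Tri2 x) : x ∈ T.K0 := by
  obtain ⟨-, ho, -, -, y1, y2, y3⟩ := T.y_spec
  have hbC : T.b' ∈ T.C := (T.A_le_R T.bmem.2.1).1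
  have hp' : T.p' ∈ T.K0 := by
    have e : T.y * (T.b' * T.y⁻¹ * T.b'⁻¹) = T.p' := by
      rw [show T.y * (T.b' * T.y⁻¹ * T.b'⁻¹) = T.y * T.b' * T.y⁻¹ * T.b'⁻¹ by group, y1,
        inv_eq_of_mul_eq_one_right (P.A_sq T.bmem.2.1), P.A_comm T.bmem.2.2.2.2.1 T.bmem.2.1]
      show P.ev eb' * P.ev ep0 = P.ev ep1
      rw [P.mul, table_A.2.2.1]
    rw [← e]
    exact mul_mem T.y_mem_K0 (T.K0_conj hbC (inv_mem T.y_mem_K0))
  have hb' : T.b' ∈ T.K0 := y3 ▸ T.K0_conj T.y_mem_C hp'
  rcases h with rfl | rfl | rfl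
  exacts [hb', y1 ▸ T.K0_conj T.y_mem_C hb', hp']

theorem V2_le_K0 : T.V2 ≤ T.K0 := fun x hx => by
  rcases T.V2_cases hx with rfl | h
  exacts [one_mem _, T.tri2_mem_K0 h]

/-- The facts on the normal subgroup. -/
theorem K0_facts : T.b ∉ T.K0 ∧ Nat.card T.C = 8 * Nat.card T.K0 ∧ T.K0 ⊓ T.R ≤ T.V2 ∧
    (Nat.card T.K0 = 12 ∨ (Nat.card T.K0 = 60 ∧ IsSimpleGroup T.K0)) := by
  classical
  haveI : Fact (Nat.Prime 2) := ⟨Nat.prime_two⟩
  obtain ⟨C2, h1, hR, hy, hoddC, hidx, hodd⟩ := T.exists_C2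
  have hA1 : T.A1 ≤ C2 := hR ▸ inf_le_left
  have hbA : T.b ∈ T.A1 := ⟨eb, rfl, by decide⟩
  -- split off the central involution
  have hV2i : T.V2.relIndex T.A1 = 2 := by
    have h := (T.V2.subgroupOf T.A1).card_mul_index
    rw [Nat.card_congr (Subgroup.subgroupOfEquivOfLe T.V2_le_A1).toEquiv, T.card_V2, T.card_A1] at h
    show (T.V2.subgroupOf T.A1).index = 2
    omega
  obtain ⟨M0, hM0, hM0i, hM0c, hbM0⟩ := exists_index_two C2 T.A1 T.V2 hA1 hodd
    (IsPGroup.of_card (n := 3) (by rw [T.card_A1]; rfl)) T.V2_le_A1 hV2i T.b hbA (P.A_sq T.bmem.1)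
    (fun ⟨X, hX, hX'⟩ => (inV2_facts X hX').2.2.1 (P.inj hX))
    (fun h hh ⟨X, hX, hX'⟩ => (inV2_facts X hX').2.2.1 (P.inj (by
      rw [hX, T.b_central (h1 hh), mul_inv_cancel_right]; rfl)))
  have hK0M : T.K0 ≤ M0 := (Subgroup.closure_le _).2 fun a ha => odd_mem hM0i (hoddC a ha.1 ha.2) ha.2
  have hK0R : T.K0 ⊓ T.R ≤ T.V2 := by
    rintro g ⟨hgK, hgR⟩
    have hgA : g ∈ T.A1 := hR ▸ ⟨hM0 (hK0M hgK), hgR⟩
    obtain ⟨X, rfl, hX⟩ := hgA
    rcases inA1_split X hX with e | e
    · exact ⟨X, rfl, e⟩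
    · exfalso
      have : P.ev (em eb X) ∈ M0 := hK0M (T.V2_le_K0 ⟨_, rfl, e⟩)
      rw [← P.mul] at this
      apply hbM0
      have h2 := mul_mem this (inv_mem (hK0M hgK))
      rwa [mul_inv_cancel_right] at h2
  -- the quotient
  set B0 := (Subgroup.zpowers T.b).subgroupOf C2
  haveI : B0.Normal := ⟨fun a ha g => by
    obtain ⟨k, hk⟩ := Subgroup.mem_zpowers_iff.1 (show (a : G) ∈ Subgroup.zpowers T.b from ha)
    show ((g * a * g⁻¹ : C2) : G) ∈ Subgroup.zpowers T.b
    push_cast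
    rw [← hk, ((show Commute (g : G) T.b from T.b_central (h1 g.2)).zpow_right k).eq, mul_inv_cancel_right]
    exact Subgroup.mem_zpowers_iff.2 ⟨k, rfl⟩⟩
  set π := QuotientGroup.mk' B0
  have hπ : Function.Surjective π := QuotientGroup.mk'_surjective B0
  have hb2 : T.b * T.b = 1 := P.A_sq T.bmem.1
  have hzpow : ∀ x ∈ Subgroup.zpowers T.b, x = 1 ∨ x = T.b := fun x hx =>
    zpowers_two (orderOf_eq_prime (by rw [sq, hb2]) T.b_ne) hx
  have hπeq : ∀ a c : C2, π a = π c ↔ (c : G) = a ∨ (c : G) = a * T.b := by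
    intro a c
    rw [QuotientGroup.mk'_eq_mk']
    constructor
    · rintro ⟨x, hx, rfl⟩
      rcases hzpow _ hx with e | e
      · have e' : (x : G) = 1 := e
        exact Or.inl (by rw [Subgroup.coe_mul, e', mul_one])
      · have e' : (x : G) = T.b := e
        exact Or.inr (by rw [Subgroup.coe_mul, e'])
    · rintro (e | e)
      · exact ⟨1, one_mem _, Subtype.ext (by rw [mul_one, e])⟩
      · exact ⟨⟨T.b, hA1 hbA⟩, Subgroup.mem_zpowers _, Subtype.ext e.symm⟩
  have hzA1 : z ∈ T.A1 := by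
    have h := mul_mem hbA (T.V2_le_A1 (T.tri2_mem_V2 (Or.inl rfl)))
    rwa [T.b_mul_b'] at h
  have hzb : z * T.b = T.b' := by
    have h : T.b * T.b' * T.b = T.b' := by
      rw [mul_assoc, P.A_comm T.bmem.2.1 T.bmem.1, ← mul_assoc, hb2, one_mul]
    simpa only [T.b_mul_b'] using h
  let zq : C2 := ⟨z, hA1 hzA1⟩
  let A1q := (T.A1.subgroupOf C2).map π
  have hA1q : Nat.card A1q = 4 := by
    have hcm : A1q.comap π = T.A1.subgroupOf C2 := by
      rw [Subgroup.comap_map_eq, QuotientGroup.ker_mk', sup_eq_left.2 fun a ha => (Subgroup.zpowers_le.2 hbA) ha]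
    have h := (T.A1.subgroupOf C2).card_mul_index
    rw [Nat.card_congr (Subgroup.subgroupOfEquivOfLe hA1).toEquiv, T.card_A1, ← hcm,
      Subgroup.index_comap_of_surjective _ hπ] at h
    have h' := A1q.card_mul_index
    have h'' := B0.card_eq_card_quotient_mul_card_subgroup
    rw [Nat.card_congr (Subgroup.subgroupOfEquivOfLe (Subgroup.zpowers_le.2 (hA1 hbA))).toEquiv,
      Nat.card_zpowers, orderOf_eq_prime (by rw [sq, hb2]) T.b_ne] at h''
    have hpos : 0 < A1q.index := Nat.pos_of_ne_zero Subgroup.FiniteIndex.index_ne_zero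
    have e1' : Nat.card A1q * A1q.index * 2 = 8 * A1q.index := by rw [h', ← h'', ← h]
    nlinarith
  have hcent : ∀ q, q * π zq = π zq * q → q ∈ A1q := by
    intro q hq
    obtain ⟨c, rfl⟩ := hπ q
    rw [← map_mul, ← map_mul] at hq
    refine ⟨c, ?_, rfl⟩
    show (c : G) ∈ T.A1
    rw [← hR]
    refine ⟨c.2, h1 c.2, Subgroup.mem_centralizer_singleton_iff.2 ?_⟩
    rcases (hπeq _ _).1 hq with e | e
    · exact e.symm
    · exfalso
      have e' : (z : G) * c = c * (z * T.b) := e.trans (mul_assoc _ _ _)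
      rw [hzb] at e'
      have hIs : IsX z T.b' := ⟨(c : G)⁻¹, by rw [inv_inv, mul_assoc, e', inv_mul_cancel_left]⟩
      exact (T.six.2 (Or.inr (Or.inl rfl))).2.2 hIs
  have hA1sq : ∀ q ∈ A1q, q * q = 1 := by
    rintro _ ⟨a, ha, rfl⟩
    rw [← map_mul, show a * a = 1 from Subtype.ext (P.A_sq (T.A1_le_A ha)), map_one]
  have hA1comm : ∀ q ∈ A1q, ∀ q' ∈ A1q, q * q' = q' * q := by
    rintro _ ⟨a, ha, rfl⟩ _ ⟨c, hc, rfl⟩
    rw [← map_mul, ← map_mul, show a * c = c * a from Subtype.ext (P.A_comm (T.A1_le_A ha) (T.A1_le_A hc))]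
  have hzq : π zq ∈ A1q := ⟨zq, hzA1, rfl⟩
  have hCe : Subgroup.centralizer ({π zq} : Set (C2 ⧸ B0)) = A1q := by
    ext q
    rw [Subgroup.mem_centralizer_singleton_iff]
    exact ⟨hcent q, fun h => hA1comm q h _ hzq⟩
  -- images of the involutions of the second triangle
  obtain ⟨-, hyo, -, -, y1, y2, y3⟩ := T.y_spec
  let bq : C2 := ⟨T.b', hA1 (T.V2_le_A1 (T.tri2_mem_V2 (Or.inl rfl)))⟩
  let pq : C2 := ⟨T.p, hA1 (T.V2_le_A1 (T.tri2_mem_V2 (Or.inr (Or.inl rfl))))⟩
  let yq : C2 := ⟨T.y, hy⟩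
  have hyb : π yq * π bq * (π yq)⁻¹ = π pq := by
    rw [← map_inv, ← map_mul, ← map_mul]
    exact congrArg π (Subtype.ext y1)
  have hbp : π bq ≠ π pq := by
    intro e
    rcases (hπeq _ _).1 e with h | h
    · exact absurd (P.inj h) (by decide)
    · have h' : P.ev ep0 = P.ev (em eb' eb) := by rw [← P.mul]; exact h
      exact absurd (P.inj h') (by decide)
  have hzbq : π zq = π bq := by
    rw [hπeq]
    right
    show T.b' = z * T.b
    exact hzb.symm
  have hbq1 : π bq ≠ 1 := by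
    intro e
    rw [← map_one π, hπeq] at e
    rcases e with h | h
    · exact (T.six.2 (Or.inr (Or.inl rfl))).2.1 h.symm
    · have h' : P.ev e1 = P.ev (em eb' eb) := by
        rw [P.ev_one, ← P.mul]
        exact h
      exact absurd (P.inj h') (by decide)
  have hnc : ¬ Cfsg.HasNormalPComplement 2 (C2 ⧸ B0) := by
    rintro ⟨S, N, hN, hNS⟩
    have hNodd : Odd (Nat.card N) := by
      rw [← Nat.not_even_iff_odd, even_iff_two_dvd, ← hNS.index_eq_card]
      exact S.not_dvd_index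
    have hyN : π yq ∈ N := by
      have hindex : N.index = Nat.card (S : Subgroup (C2 ⧸ B0)) := hNS.symm.index_eq_card
      obtain ⟨k, hk⟩ := IsPGroup.iff_card.1 S.isPGroup'
      have h3 : (π yq) ^ 3 = 1 := by
        rw [← map_pow, show yq ^ 3 = 1 from Subtype.ext (by show T.y ^ 3 = 1; rw [← hyo, pow_orderOf_eq_one]), map_one]
      have h2 : (π yq) ^ N.index ∈ N := Subgroup.pow_index_mem N _
      have hyq : orderOf (π yq : C2 ⧸ B0) ∣ 3 := orderOf_dvd_of_pow_eq_one h3
      rw [← QuotientGroup.eq_one_iff (N := N)] at h2 ⊢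
      rw [QuotientGroup.mk_pow, hindex, hk] at h2
      have h3' : ((π yq : C2 ⧸ B0) : (C2 ⧸ B0) ⧸ N) ^ 3 = 1 := by rw [← QuotientGroup.mk_pow, h3, QuotientGroup.mk_one]
      exact orderOf_eq_one_iff.1 (Nat.eq_one_of_dvd_coprimes (Nat.Coprime.pow_left k (by norm_num : Nat.Coprime 2 3))
        (orderOf_dvd_of_pow_eq_one h2) (orderOf_dvd_of_pow_eq_one h3'))
    have hmem : π yq * (π bq * (π yq)⁻¹ * (π bq)⁻¹) ∈ N := mul_mem hyN (hN.conj_mem _ (inv_mem hyN) _)
    rw [show π yq * (π bq * (π yq)⁻¹ * (π bq)⁻¹) = π yq * π bq * (π yq)⁻¹ * (π bq)⁻¹ by group, hyb] at hmem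
    have hpA : π pq * (π bq)⁻¹ ∈ A1q := mul_mem ⟨pq, T.V2_le_A1 (T.tri2_mem_V2 (Or.inr (Or.inl rfl))), rfl⟩
      (inv_mem (hzbq ▸ hzq))
    have hd := N.orderOf_dvd_natCard hmem
    rw [orderOf_eq_prime (by rw [sq]; exact hA1sq _ hpA) (fun e => hbp (mul_inv_eq_one.1 e).symm)] at hd
    exact Nat.not_even_iff_odd.2 hNodd (even_iff_two_dvd.2 hd)
  have hxo : orderOf (π zq) = 2 := orderOf_eq_prime (by rw [sq]; exact hA1sq _ hzq) (hzbq ▸ hbq1)
  have hcase : Nat.card (C2 ⧸ B0) = 12 ∨ Nonempty ((C2 ⧸ B0) ≃* ↥(alternatingGroup (Fin 5))) := by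
    by_cases hne : ∀ E : Subgroup (C2 ⧸ B0), E.Normal → Cfsg.IsElementaryAbelian 2 E →
        Nat.card E ≠ 2 ∧ Nat.card E ≠ 4
    · exact Or.inr (Lie.InvFour.alt_five_of_centralizer_four (π zq) hxo (by rw [hCe, hA1q])
        (fun c hc => by rw [sq]; exact hA1sq c (hCe ▸ hc)) hnc hne)
    left
    push Not at hne
    obtain ⟨E, hEn, hEe, hE⟩ := hne
    let S : Sylow 2 (C2 ⧸ B0) := IsPGroup.toSylow (P := A1q) (IsPGroup.of_card (n := 2) (by rw [hA1q]; rfl)) (by
      show ¬ 2 ∣ A1q.index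
      rw [← Subgroup.index_comap_of_surjective A1q hπ, Subgroup.comap_map_eq, QuotientGroup.ker_mk',
        sup_eq_left.2 fun a ha => (Subgroup.zpowers_le.2 hbA) ha]
      exact hodd)
    have hEp : IsPGroup 2 E := fun e => ⟨1, Subtype.ext (by simpa using hEe.2 e e.2)⟩
    have hEle : E ≤ A1q := le_sup_left.trans (S.is_maximal' (hEp.to_sup_of_normal_left S.isPGroup') le_sup_right).le
    have hE4 : Nat.card E = 4 := by
      by_contra h4
      have h2 : Nat.card E = 2 := by tauto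
      obtain ⟨e, he, he1⟩ : ∃ e ∈ E, e ≠ 1 := by
        by_contra hcon
        push Not at hcon
        have := (Subgroup.eq_bot_iff_forall E).2 hcon
        rw [this, Subgroup.card_bot] at h2
        omega
      have huniq : ∀ f ∈ E, f ≠ 1 → f = e := by
        intro f hf hf1
        haveI : Fintype E := Fintype.ofFinite E
        by_contra hfe
        have h3 : 3 ≤ Fintype.card E := by
          have hc : ({1, ⟨e, he⟩, ⟨f, hf⟩} : Finset E).card = 3 := Finset.card_eq_three.2 ⟨1, ⟨e, he⟩, ⟨f, hf⟩,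
            fun h => he1 (congrArg Subtype.val h).symm, fun h => hf1 (congrArg Subtype.val h).symm,
            fun h => hfe (congrArg Subtype.val h).symm, rfl⟩
          rw [← hc]
          exact Finset.card_le_univ _
        rw [← Nat.card_eq_fintype_card, h2] at h3
        omega
      have hcentral : ∀ w, w * e = e * w := fun w => mul_inv_eq_iff_eq_mul.1
        (huniq _ (hEn.conj_mem e he w) fun h => he1 (conj_eq_one_iff.1 h))
      obtain ⟨a, ha, hae⟩ := hEle he
      have haV : ∃ x, T.Tri2 x ∧ ((a : G) = x ∨ (a : G) = T.b * x) := by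
        obtain ⟨X, hX, hX'⟩ := (show (a : G) ∈ T.A1 from ha)
        have hne : ∀ w : G, (w = 1 ∨ w = T.b) → (a : G) ≠ w := by
          intro w hw e0
          apply he1
          rw [← hae, ← map_one π, hπeq]
          rcases hw with rfl | rfl
          · exact Or.inl (by rw [e0]; rfl)
          · exact Or.inr (by rw [e0]; show (1 : G) = T.b * T.b; exact hb2.symm)
        rcases inA1_split X hX' with h | h
        · rcases T.V2_cases ⟨X, rfl, h⟩ with h' | h'
          · exact absurd (hX.symm.trans h') (hne 1 (Or.inl rfl))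
          · exact ⟨_, h', Or.inl hX.symm⟩
        · rcases T.V2_cases ⟨_, rfl, h⟩ with h' | h'
          · refine absurd ?_ (hne T.b (Or.inr rfl))
            rw [← hX]
            rw [← P.mul] at h'
            exact (eq_inv_of_mul_eq_one_right h').trans (pow_one_sq hb2)
          · exact ⟨_, h', Or.inr (by rw [← hX, b_eq, ← P.mul, ← mul_assoc, ← b_eq T, hb2, one_mul])⟩
      obtain ⟨x, hx, hax⟩ := haV
      -- the element of order three moves every candidate
      have hmove : T.y * x * T.y⁻¹ ≠ x ∧ T.y * x * T.y⁻¹ ≠ x * T.b := by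
        have hd : ∀ X ∈ [eb', ep0, ep1], ∀ Y ∈ [eb', ep0, ep1], Y ≠ em X eb := by decide
        rcases hx with rfl | rfl | rfl
        · rw [y1]; exact ⟨fun h => absurd (P.inj h) (by decide), fun h => hd eb' (by simp) ep0 (by simp)
            (P.inj (h.trans (P.mul _ _)))⟩
        · rw [y2]; exact ⟨fun h => absurd (P.inj h) (by decide), fun h => hd ep0 (by simp) ep1 (by simp)
            (P.inj (h.trans (P.mul _ _)))⟩
        · rw [y3]; exact ⟨fun h => absurd (P.inj h) (by decide), fun h => hd ep1 (by simp) eb' (by simp)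
            (P.inj (h.trans (P.mul _ _)))⟩
      have hyx : ∀ w : G, ∀ hw : w ∈ C2, π ⟨w, hw⟩ = e → π yq * π ⟨w, hw⟩ = π ⟨w, hw⟩ * π yq := fun w hw h => by
        rw [h]; exact hcentral _
      have hxC : x ∈ C2 := hA1 (T.V2_le_A1 (T.tri2_mem_V2 hx))
      have hxe : π ⟨x, hxC⟩ = e := by
        rw [← hae, hπeq]
        rcases hax with h | h
        · exact Or.inl h
        · exact Or.inr (by rw [h, T.b_central (h1 hxC)])
      have hy4 := hyx x hxC hxe
      rw [← mul_inv_eq_iff_eq_mul, ← map_inv, ← map_mul, ← map_mul, hπeq] at hy4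
      rcases hy4 with h | h
      · exact hmove.1 h.symm
      · apply hmove.2
        show T.y * x * T.y⁻¹ = x * T.b
        have h' : x = T.y * x * T.y⁻¹ * T.b := h
        conv_rhs => rw [h', mul_assoc, hb2, mul_one]
    have hEA : E = A1q := Subgroup.eq_of_le_of_card_ge hEle (by rw [hE4, hA1q])
    -- the orbit of the image
    have hst : MulAction.stabilizer (ConjAct (C2 ⧸ B0)) (π zq) = A1q.map ConjAct.toConjAct.toMonoidHom := by
      ext g
      rw [MulAction.mem_stabilizer_iff, ConjAct.smul_def, mul_inv_eq_iff_eq_mul]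
      constructor
      · intro hg
        exact ⟨ConjAct.ofConjAct g, hcent _ hg, ConjAct.toConjAct_ofConjAct g⟩
      · rintro ⟨k, hk, rfl⟩
        exact hA1comm k hk _ hzq
    have horb : (MulAction.orbit (ConjAct (C2 ⧸ B0)) (π zq)).ncard ≤ 3 := by
      have hsub : MulAction.orbit (ConjAct (C2 ⧸ B0)) (π zq) ⊆ (A1q : Set (C2 ⧸ B0)) \ {1} := by
        rintro _ ⟨g, rfl⟩
        refine ⟨?_, fun h => (hzbq ▸ hbq1) (conj_eq_one_iff.1 (h : _ = (1 : C2 ⧸ B0)))⟩
        rw [← hEA] at hzq ⊢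
        exact hEn.conj_mem _ hzq _
      refine (Set.ncard_le_ncard hsub (Set.toFinite _)).trans ?_
      rw [Set.ncard_sdiff_singleton_of_mem (show (1 : C2 ⧸ B0) ∈ (A1q : Set _) from one_mem _), ← Nat.card_coe_set_eq]
      show Nat.card A1q - 1 ≤ 3
      rw [hA1q]
    have hcard := Subgroup.card_mul_index (MulAction.stabilizer (ConjAct (C2 ⧸ B0)) (π zq))
    rw [MulAction.index_stabilizer] at hcard
    have hc4 : Nat.card (MulAction.stabilizer (ConjAct (C2 ⧸ B0)) (π zq)) = 4 := by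
      rw [hst, ← hA1q]
      exact Subgroup.card_map_of_injective (f := (ConjAct.toConjAct (G := C2 ⧸ B0)).toMonoidHom)
        ConjAct.toConjAct.injective
    have h3 : 3 ∣ Nat.card (C2 ⧸ B0) := by
      have h : orderOf (π yq) = 3 := by
        haveI : Fact (Nat.Prime 3) := ⟨Nat.prime_three⟩
        refine orderOf_eq_prime (by rw [← map_pow, show yq ^ 3 = 1 from Subtype.ext (by
          show T.y ^ 3 = 1; rw [← hyo, pow_orderOf_eq_one]), map_one]) fun e => hbp ?_
        rw [← hyb, e]; group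
      exact h ▸ orderOf_dvd_natCard _
    rw [hc4] at hcard
    have hcard' : 4 * (MulAction.orbit (ConjAct (C2 ⧸ B0)) (π zq)).ncard = Nat.card (C2 ⧸ B0) := hcard
    have hpos : 0 < (MulAction.orbit (ConjAct (C2 ⧸ B0)) (π zq)).ncard :=
      (Set.ncard_pos (Set.toFinite _)).2 ⟨_, MulAction.mem_orbit_self _⟩
    omega
  -- the index two subgroup is the wanted one
  have hB0c : Nat.card B0 = 2 := by
    rw [Nat.card_congr (Subgroup.subgroupOfEquivOfLe (Subgroup.zpowers_le.2 (hA1 hbA))).toEquiv, Nat.card_zpowers,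
      orderOf_eq_prime (by rw [sq, hb2]) T.b_ne]
  have hC2c : Nat.card C2 = Nat.card (C2 ⧸ B0) * 2 := by
    rw [B0.card_eq_card_quotient_mul_card_subgroup, hB0c]
  have hM0card : Nat.card C2 = 2 * Nat.card M0 := by
    have h := (M0.subgroupOf C2).card_mul_index
    rw [Nat.card_congr (Subgroup.subgroupOfEquivOfLe hM0).toEquiv,
      show (M0.subgroupOf C2).index = 2 from hM0i] at h
    omega
  have hMbij : Function.Bijective (π.comp (Subgroup.inclusion hM0)) := by
    refine (Nat.bijective_iff_injective_and_card _).2 ⟨(injective_iff_map_eq_one _).2 fun a ha => ?_, by omega⟩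
    rcases hzpow _ (show ((Subgroup.inclusion hM0 a : C2) : G) ∈ Subgroup.zpowers T.b from
      (QuotientGroup.eq_one_iff (N := B0) _).1 ha) with h | h
    · exact Subtype.ext h
    · exact absurd ((show (a : G) = T.b from h) ▸ a.2) hbM0
  have hbK : T.b ∉ T.K0 := fun h => hbM0 (hK0M h)
  have hKM : T.K0 = M0 := by
    rcases hcase with h12 | he
    · refine Subgroup.eq_of_le_of_card_ge hK0M ?_
      have h4 : 4 ∣ Nat.card T.K0 := T.card_V2 ▸ Subgroup.card_dvd_of_le T.V2_le_K0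
      have h3 : 3 ∣ Nat.card T.K0 := hyo ▸ T.K0.orderOf_dvd_natCard T.y_mem_K0
      have hle := Nat.le_of_dvd Nat.card_pos (Nat.Coprime.mul_dvd_of_dvd_of_dvd (by norm_num : Nat.Coprime 4 3) h4 h3)
      omega
    · obtain ⟨e⟩ := he
      haveI : IsSimpleGroup (alternatingGroup (Fin 5)) := alternatingGroup.isSimpleGroup (by simp)
      haveI : IsSimpleGroup M0 := ((MulEquiv.ofBijective _ hMbij).trans e).isSimpleGroup
      haveI : (T.K0.subgroupOf M0).Normal := ⟨fun a ha g => T.K0_conj (h1 (hM0 g.2)) ha⟩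
      rcases IsSimpleGroup.eq_bot_or_eq_top_of_normal (T.K0.subgroupOf M0) inferInstance with h | h
      · exfalso
        have h' := (Subgroup.subgroupOf_eq_bot.1 h).le_bot ⟨T.y_mem_K0, hK0M T.y_mem_K0⟩
        rw [Subgroup.mem_bot] at h'
        rw [h', orderOf_one] at hyo
        omega
      · exact le_antisymm hK0M (Subgroup.subgroupOf_eq_top.1 h)
  have hCc : Nat.card T.C = 8 * Nat.card T.K0 := by
    have h := (C2.subgroupOf T.C).card_mul_index
    rw [Nat.card_congr (Subgroup.subgroupOfEquivOfLe h1).toEquiv,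
      show (C2.subgroupOf T.C).index = 4 from hidx] at h
    rw [hKM]
    omega
  refine ⟨hbK, hCc, hK0R, ?_⟩
  rcases hcase with h12 | he
  · left
    rw [hKM]
    omega
  · right
    obtain ⟨e⟩ := he
    haveI : IsSimpleGroup (alternatingGroup (Fin 5)) := alternatingGroup.isSimpleGroup (by simp)
    have hc60 : Nat.card (C2 ⧸ B0) = 60 := by
      rw [Nat.card_congr e.toEquiv, Nat.card_eq_fintype_card]; decide +kernel
    rw [hKM]
    exact ⟨by omega, ((MulEquiv.ofBijective _ hMbij).trans e).isSimpleGroup⟩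

end Two

end Cfsg.Agent.MTwelve.SwapCase
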