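import Cfsg.Agent.Lib.Spor.MTwelve.SwapCase.FourCent

/-!
Four letters: counting conjugates of the central involution excludes the small centraliser.
-/

set_option autoImplicit false
set_option linter.style.haveILetI false
set_option maxRecDepth 100000

namespace Cfsg.Agent.MTwelve.SwapCase

open CentShape OrderFront Equiv

universe u

theorem three_cases (i : ℕ) : i % 3 = 0 ∨ i % 3 = 1 ∨ i % 3 = 2 := by omega

theorem pow_mod_three {G : Type u} [Group G] {x : G} (h : x * x * x = 1) (i : ℕ) :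
    x ^ i = 1 ∨ x ^ i = x ∨ x ^ i = x⁻¹ := by
  have h3 : x ^ 3 = 1 := by rw [pow_three', h]
  rw [← Nat.div_add_mod i 3, pow_add, pow_mul, h3, one_pow, one_mul]
  rcases three_cases i with e | e | e <;> rw [e]
  · exact Or.inl (pow_zero x)
  · exact Or.inr (Or.inl (pow_one x))
  · exact Or.inr (Or.inr (eq_inv_of_mul_eq_one_left (by rw [← pow_succ, h3])))

theorem sum_fixed {H : Type u} [Group H] [Finite H] (X : Type u) [Finite X] [MulAction H X] [Fintype H] :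
    Nat.card H ∣ ∑ g : H, Nat.card (MulAction.fixedBy X g) :=
  ⟨Nat.card (Quotient (MulAction.orbitRel H X)), by
    rw [← Nat.card_sigma, Nat.card_congr (MulAction.sigmaFixedByEquivOrbitsProdGroup H X), Nat.card_prod, mul_comm]⟩

variable {G : Type u} [Group G] [Finite G] {z : G} {P : Par z}

namespace Two

variable (T : Two P)

/-- the powers -/
noncomputable def pw (i : Fin 3 × Fin 3) : G := T.k ^ i.1.val * T.y ^ i.2.val

theorem pw_inj : Function.Injective T.pw := by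
  have hkC : ∀ i : Fin 3, T.k ^ i.val ∈ T.C → i = 0 := by
    intro i hi
    have hk : T.k ∉ T.C := fun h => T.k_moves (Or.inl rfl) (by rw [T.b_central h, mul_inv_cancel_right])
    fin_cases i
    · rfl
    · exact absurd (by simpa using hi) hk
    · refine absurd ?_ hk
      have := mul_mem hi hi
      rw [← pow_add, show (2 : ℕ) + 2 = 3 + 1 from rfl, pow_add, pow_one, pow_three', T.k_cube, one_mul] at this
      exact this
  rintro ⟨i, j⟩ ⟨i', j'⟩ e
  simp only [pw] at e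
  have hyC : ∀ n : ℕ, T.y ^ n ∈ T.C := fun n => pow_mem T.y_mem_C n
  have h1 : (T.k ^ i'.val)⁻¹ * T.k ^ i.val ∈ T.C := by
    have : (T.k ^ i'.val)⁻¹ * T.k ^ i.val = T.y ^ j'.val * (T.y ^ j.val)⁻¹ := by
      rw [eq_mul_inv_iff_mul_eq, mul_assoc, e, inv_mul_cancel_left]
    rw [this]
    exact mul_mem (hyC _) (inv_mem (hyC _))
  have h3 : T.k ^ 3 = 1 := by rw [pow_three', T.k_cube]
  have hii : i = i' := by
    have h := hkC (i - i') ?_
    · exact sub_eq_zero.1 h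
    · have e2 : (T.k ^ i'.val)⁻¹ * T.k ^ i.val = T.k ^ (i - i').val := by
        rw [inv_mul_eq_iff_eq_mul, ← pow_add, Fin.val_sub]
        rw [pow_eq_pow_iff_modEq, T.k_spec.1]
        unfold Nat.ModEq
        omega
      exact e2 ▸ h1
  subst hii
  have h := mul_left_cancel e
  rw [pow_eq_pow_iff_modEq, T.y_spec.2.1] at h
  have : j.val = j'.val := by
    unfold Nat.ModEq at h
    omega
  rw [Fin.ext this]

/-- the abelian subgroup of order nine -/
def Pg : Subgroup G where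
  carrier := {x | ∃ i j : ℕ, x = T.k ^ i * T.y ^ j}
  one_mem' := ⟨0, 0, by simp⟩
  mul_mem' := by
    rintro _ _ ⟨i, j, rfl⟩ ⟨i', j', rfl⟩
    have hc : Commute (T.y ^ j) (T.k ^ i') := ((show Commute T.k T.y from T.k_y).symm.pow_left j).pow_right i'
    exact ⟨i + i', j + j', by rw [pow_add, pow_add, mul_assoc, ← mul_assoc (T.y ^ j), hc.eq]; group⟩
  inv_mem' := by
    rintro _ ⟨i, j, rfl⟩
    have hk : ∀ (x : G), x * x * x = 1 → ∀ n : ℕ, (x ^ n)⁻¹ = x ^ (2 * n) := fun x hx n => by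
      refine inv_eq_of_mul_eq_one_right ?_
      rw [← pow_add, show n + 2 * n = 3 * n by omega, pow_mul, pow_three', hx, one_pow]
    refine ⟨2 * i, 2 * j, ?_⟩
    rw [mul_inv_rev, hk _ T.k_cube, hk _ T.y_cube]
    exact (((show Commute T.k T.y from T.k_y).symm.pow_left _).pow_right _).eq

theorem mem_Pg {x : G} : x ∈ T.Pg ↔ ∃ i, T.pw i = x := by
  constructor
  · rintro ⟨i, j, rfl⟩
    refine ⟨(Fin.ofNat 3 i, Fin.ofNat 3 j), ?_⟩
    simp only [pw, Fin.val_ofNat]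
    rw [← pow_mod_orderOf T.k i, ← pow_mod_orderOf T.y j, T.k_spec.1, T.y_spec.2.1]
  · rintro ⟨i, rfl⟩
    exact ⟨_, _, rfl⟩

theorem card_Pg : Nat.card T.Pg = 9 := by
  rw [← Nat.card_congr (Equiv.ofBijective (fun i => (⟨T.pw i, T.mem_Pg.2 ⟨i, rfl⟩⟩ : T.Pg))
    ⟨fun a c e => T.pw_inj (congrArg Subtype.val e), fun ⟨x, hx⟩ => by
      obtain ⟨i, rfl⟩ := T.mem_Pg.1 hx
      exact ⟨i, rfl⟩⟩)]
  simp

theorem k_mem_Pg : T.k ∈ T.Pg := ⟨1, 0, by simp⟩

theorem y_mem_Pg : T.y ∈ T.Pg := ⟨0, 1, by simp⟩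

theorem Pg_comm {p x : G} (hp : p ∈ T.Pg) (hk : Commute x T.k) (hy : Commute x T.y) : Commute x p := by
  obtain ⟨i, j, rfl⟩ := hp
  exact (hk.pow_right i).mul_right (hy.pow_right j)

theorem cubic_four : T.k⁻¹ ≠ T.k ∧ T.y⁻¹ ≠ T.y ∧ T.k ≠ T.y ∧ T.k ≠ T.y⁻¹ ∧ T.k⁻¹ ≠ T.y ∧ T.k⁻¹ ≠ T.y⁻¹ := by
  have hk : T.k⁻¹ = T.pw (2, 0) := by
    simp only [pw, Fin.val_zero, pow_zero, mul_one]
    exact inv_eq_of_mul_eq_one_right (by rw [← pow_succ']; show T.k ^ 3 = 1; rw [pow_three', T.k_cube])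
  have hy : T.y⁻¹ = T.pw (0, 2) := by
    simp only [pw, Fin.val_zero, pow_zero, one_mul]
    exact inv_eq_of_mul_eq_one_right (by rw [← pow_succ']; show T.y ^ 3 = 1; rw [pow_three', T.y_cube])
  have hk1 : T.k = T.pw (1, 0) := by simp [pw]
  have hy1 : T.y = T.pw (0, 1) := by simp [pw]
  refine ⟨?_, ?_, ?_, ?_, ?_, ?_⟩ <;> intro e
  · exact absurd (T.pw_inj (hk.symm.trans (e.trans hk1))) (by decide)
  · exact absurd (T.pw_inj (hy.symm.trans (e.trans hy1))) (by decide)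
  · exact absurd (T.pw_inj (hk1.symm.trans (e.trans hy1))) (by decide)
  · exact absurd (T.pw_inj (hk1.symm.trans (e.trans hy))) (by decide)
  · exact absurd (T.pw_inj (hk.symm.trans (e.trans hy1))) (by decide)
  · exact absurd (T.pw_inj (hk.symm.trans (e.trans hy))) (by decide)

theorem img_cases {x : G} (hx : x ∈ T.Pg) (h : ∃ g, g * T.y * g⁻¹ = x) :
    x = T.y ∨ x = T.y⁻¹ ∨ x = T.k ∨ x = T.k⁻¹ := by
  obtain ⟨g, hg⟩ := h
  obtain ⟨i, j, rfl⟩ := hx
  have hx1 : T.k ^ i * T.y ^ j ≠ 1 := fun e => T.y_ne (conj_eq_one_iff.1 (hg.trans e))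
  have hc := (show Commute T.k T.y from T.k_y)
  rcases pow_mod_three T.k_cube i with e | e | e <;> rcases pow_mod_three T.y_cube j with f | f | f <;>
    rw [e, f] at hg hx1 ⊢ <;> (try simp only [one_mul, mul_one, true_or, or_true] at hg hx1 ⊢) <;>
    first
      | exact absurd rfl hx1
      | exact absurd hg (T.not_conj_mixed (Or.inl rfl) g).1
      | exact absurd hg (T.not_conj_mixed (Or.inr rfl) g).1
      | exact absurd (hg.trans (by rw [hc.inv_left.eq, mul_inv_rev, inv_inv] : T.k⁻¹ * T.y = (T.k * T.y⁻¹)⁻¹))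
          (T.not_conj_mixed (Or.inr rfl) g).2
      | exact absurd (hg.trans (by rw [hc.inv_inv.eq, mul_inv_rev] : T.k⁻¹ * T.y⁻¹ = (T.k * T.y)⁻¹))
          (T.not_conj_mixed (Or.inl rfl) g).2

theorem small_cases (hS : T.Small) {c : G} (hy : c * T.y = T.y * c) :
    (c * T.k * c⁻¹ = T.k → c ∈ T.Pg) ∧ c * T.k * c⁻¹ ≠ T.k⁻¹ := by
  obtain ⟨j, i, t, ht, rfl⟩ := hS c hy
  have hA : t ∈ P.A := by
    rcases ht with rfl | ht
    exacts [one_mem _, (T.six.2 (Or.inl ht)).1]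
  have hti : t⁻¹ = t := inv_eq_of_mul_eq_one_right (P.A_sq hA)
  have e : T.k ^ j * t * T.y ^ i * T.k * (T.k ^ j * t * T.y ^ i)⁻¹ = T.k ^ j * (t * T.k * t) * (T.k ^ j)⁻¹ := by
    have hc : Commute (T.y ^ i) T.k := (show Commute T.k T.y from T.k_y).symm.pow_left i
    rw [mul_assoc (T.k ^ j * t) (T.y ^ i) T.k, hc.eq, mul_inv_rev, mul_inv_rev, hti]
    group
  rw [e]
  refine ⟨fun h => ?_, fun h => ?_⟩
  · have h' : t * T.k * t = T.k := by
      calc t * T.k * t = (T.k ^ j)⁻¹ * (T.k ^ j * (t * T.k * t) * (T.k ^ j)⁻¹) * T.k ^ j := by group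
        _ = T.k := by rw [h, mul_assoc, ((Commute.refl T.k).pow_right j).eq, ← mul_assoc, inv_mul_cancel, one_mul]
    have ht1 : t = 1 := T.A_fix hA (T.four_comm ht T.y_mem_K0) (by
      have := congrArg (· * t) h'
      simp only [mul_assoc, P.A_sq hA, mul_one] at this
      exact this)
    subst ht1
    exact ⟨j, i, by rw [mul_one]⟩
  · have h' : t * T.k * t = T.k⁻¹ := by
      calc t * T.k * t = (T.k ^ j)⁻¹ * (T.k ^ j * (t * T.k * t) * (T.k ^ j)⁻¹) * T.k ^ j := by group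
        _ = T.k⁻¹ := by
          rw [h, mul_assoc, ((Commute.refl T.k).inv_left.pow_right j).eq, ← mul_assoc, inv_mul_cancel, one_mul]
    have hr : ∀ x ∈ P.A, t * T.k * t * x * (t * T.k * t)⁻¹ = T.k * x * T.k⁻¹ := fun x hx => by
      rw [mul_inv_rev, mul_inv_rev, hti]
      calc t * T.k * t * x * (t * (T.k⁻¹ * t)) = t * (T.k * (t * x * t) * T.k⁻¹) * t := by group
        _ = t * (T.k * x * T.k⁻¹) * t := by rw [P.A_comm hA hx, mul_assoc x t t, P.A_sq hA, mul_one]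
        _ = T.k * x * T.k⁻¹ := by rw [P.A_comm hA (P.NA_conj T.k_spec.2.1 hx), mul_assoc, P.A_sq hA, mul_one]
    have h2 := hr T.b T.bmem.1
    rw [h', inv_inv] at h2
    refine T.k_moves (Or.inl rfl : T.Tri1 T.b) ?_
    have h4 : (T.k * T.k) * T.b * (T.k * T.k)⁻¹ = T.b := by
      calc (T.k * T.k) * T.b * (T.k * T.k)⁻¹ = T.k * (T.k * T.b * T.k⁻¹) * T.k⁻¹ := by group
        _ = T.b := by rw [← h2]; group
    calc T.k * T.b * T.k⁻¹ = T.k * ((T.k * T.k) * T.b * (T.k * T.k)⁻¹) * T.k⁻¹ := by rw [h4]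
      _ = (T.k * T.k * T.k) * T.b * (T.k * T.k * T.k)⁻¹ := by group
      _ = T.b := by rw [T.k_cube]; group

/-- the normaliser of the subgroup of order nine -/
def NP : Subgroup G := Subgroup.normalizer (T.Pg : Set G)

theorem mem_NP {n : G} (hy : n * T.y * n⁻¹ ∈ T.Pg) (hk : n * T.k * n⁻¹ ∈ T.Pg) : n ∈ T.NP := by
  have hle : ∀ x ∈ T.Pg, n * x * n⁻¹ ∈ T.Pg := by
    rintro _ ⟨i, j, rfl⟩
    rw [show n * (T.k ^ i * T.y ^ j) * n⁻¹ = (n * T.k ^ i * n⁻¹) * (n * T.y ^ j * n⁻¹) by group, ← conj_pow, ← conj_pow]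
    exact mul_mem (pow_mem hk i) (pow_mem hy j)
  refine Subgroup.mem_set_normalizer_iff.2 fun x => ⟨hle x, fun hx => ?_⟩
  have hs : Function.Surjective fun p : T.Pg => (⟨n * p * n⁻¹, hle p p.2⟩ : T.Pg) :=
    Finite.injective_iff_surjective.1 fun a c e =>
      Subtype.ext (mul_left_cancel (mul_right_cancel (congrArg Subtype.val e)))
  obtain ⟨p, hp⟩ := hs ⟨_, hx⟩
  exact (mul_left_cancel (mul_right_cancel (congrArg Subtype.val hp : n * p * n⁻¹ = n * x * n⁻¹))) ▸ p.2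

theorem NP_fix (hS : T.Small) {n : G} (hn : n ∈ T.NP) (hy : n * T.y * n⁻¹ = T.y) : n ∈ T.Pg := by
  have hk : n * T.k * n⁻¹ ∈ T.Pg := (Subgroup.mem_set_normalizer_iff.1 hn _).1 T.k_mem_Pg
  obtain ⟨h, hh⟩ := T.k_conj_y
  obtain ⟨c1, c2⟩ := T.small_cases hS (mul_inv_eq_iff_eq_mul.1 hy)
  rcases T.img_cases hk ⟨n * h, by rw [← hh]; group⟩ with e | e | e | e
  · exact absurd (mul_left_cancel (mul_right_cancel (e.trans hy.symm))) T.cubic_four.2.2.1
  · refine absurd ?_ T.cubic_four.2.2.2.1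
    have h2 : n * T.k * n⁻¹ = n * T.y⁻¹ * n⁻¹ := by
      rw [e]; nth_rw 1 [← hy]; group
    exact mul_left_cancel (mul_right_cancel h2)
  · exact c1 e
  · exact absurd e c2

/-- representatives of the cosets in the normaliser -/
def rep (τ s : G) (i : Fin 4) : G := (![1, s, τ, τ * s] : Fin 4 → G) i

theorem small_false (hS : T.Small) : False := by
  classical
  haveI : Fact (Nat.Prime 3) := ⟨Nat.prime_three⟩
  letI : Fintype G := Fintype.ofFinite G
  obtain ⟨τ, s, hs2, -, hsy, hsk, ht2, hty, htk, htX, hts2, htsX⟩ := T.exists_swap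
  obtain ⟨q4a, q4b, q4c, q4d, q4e, q4f⟩ := T.cubic_four
  have hky : Commute T.k T.y := T.k_y
  have htsy : τ * s * T.y * (τ * s)⁻¹ = T.k⁻¹ := by
    rw [show τ * s * T.y * (τ * s)⁻¹ = τ * (s * T.y * s⁻¹) * τ⁻¹ by group, hsy, ← hty]; group
  have htsk : τ * s * T.k * (τ * s)⁻¹ = T.y⁻¹ := by
    rw [show τ * s * T.k * (τ * s)⁻¹ = τ * (s * T.k * s⁻¹) * τ⁻¹ by group, hsk, ← htk]; group
  have hrepy : ∀ i, rep τ s i * T.y * (rep τ s i)⁻¹ = (![T.y, T.y⁻¹, T.k, T.k⁻¹] : Fin 4 → G) i := by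
    intro i; fin_cases i
    exacts [by simp [rep], hsy, hty, htsy]
  have hrepk : ∀ i, rep τ s i * T.k * (rep τ s i)⁻¹ = (![T.k, T.k⁻¹, T.y, T.y⁻¹] : Fin 4 → G) i := by
    intro i; fin_cases i
    exacts [by simp [rep], hsk, htk, htsk]
  have hfour : Function.Injective (![T.y, T.y⁻¹, T.k, T.k⁻¹] : Fin 4 → G) := by
    intro a c e
    fin_cases a <;> fin_cases c <;> simp at e ⊢ <;>
      first
        | exact absurd e q4b | exact absurd e.symm q4b | exact absurd e q4a | exact absurd e.symm q4a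
        | exact absurd e q4c | exact absurd e.symm q4c | exact absurd e q4d | exact absurd e.symm q4d
        | exact absurd e q4e | exact absurd e.symm q4e | exact absurd e q4f | exact absurd e.symm q4f
  have hPy : ∀ p ∈ T.Pg, Commute p T.y ∧ Commute p T.k := fun p hp =>
    ⟨(T.Pg_comm hp hky.symm (Commute.refl _)).symm, (T.Pg_comm hp (Commute.refl _) hky).symm⟩
  have hrepN : ∀ i, rep τ s i ∈ T.NP := by
    intro i
    refine T.mem_NP ?_ ?_
    · rw [hrepy]; fin_cases i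
      exacts [T.y_mem_Pg, inv_mem T.y_mem_Pg, T.k_mem_Pg, inv_mem T.k_mem_Pg]
    · rw [hrepk]; fin_cases i
      exacts [T.k_mem_Pg, inv_mem T.k_mem_Pg, T.y_mem_Pg, inv_mem T.y_mem_Pg]
  -- decomposition of the normaliser
  have hdec : ∀ n ∈ T.NP, ∃ i, ∃ p ∈ T.Pg, n = rep τ s i * p := by
    intro n hn
    obtain ⟨i, hi⟩ : ∃ i, (![T.y, T.y⁻¹, T.k, T.k⁻¹] : Fin 4 → G) i = n * T.y * n⁻¹ := by
      rcases T.img_cases ((Subgroup.mem_set_normalizer_iff.1 hn _).1 T.y_mem_Pg) ⟨n, rfl⟩ with e | e | e | e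
      exacts [⟨0, e.symm⟩, ⟨1, e.symm⟩, ⟨2, e.symm⟩, ⟨3, e.symm⟩]
    refine ⟨i, (rep τ s i)⁻¹ * n, T.NP_fix hS (mul_mem (inv_mem (hrepN i)) hn) ?_, by rw [mul_inv_cancel_left]⟩
    calc (rep τ s i)⁻¹ * n * T.y * ((rep τ s i)⁻¹ * n)⁻¹ = (rep τ s i)⁻¹ * (n * T.y * n⁻¹) * rep τ s i := by group
      _ = T.y := by rw [← hi, ← hrepy]; group
  have huniq : ∀ i i', ∀ p ∈ T.Pg, ∀ p' ∈ T.Pg, rep τ s i * p = rep τ s i' * p' → i = i' ∧ p = p' := by
    intro i i' p hp p' hp' e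
    have hii : i = i' := by
      refine hfour ?_
      rw [← hrepy, ← hrepy]
      calc rep τ s i * T.y * (rep τ s i)⁻¹ = rep τ s i * (p * T.y * p⁻¹) * (rep τ s i)⁻¹ := by
            rw [(hPy p hp).1.eq, mul_inv_cancel_right]
        _ = (rep τ s i * p) * T.y * (rep τ s i * p)⁻¹ := by group
        _ = rep τ s i' * (p' * T.y * p'⁻¹) * (rep τ s i')⁻¹ := by rw [e]; group
        _ = _ := by rw [(hPy p' hp').1.eq, mul_inv_cancel_right]
    subst hii
    exact ⟨rfl, mul_left_cancel e⟩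
  have hcard : ∀ (H : Subgroup G) (I : Finset (Fin 4)),
      (∀ i, ∀ p ∈ T.Pg, rep τ s i * p ∈ H ↔ i ∈ I) → Nat.card ↥(T.NP ⊓ H) = I.card * 9 := by
    intro H I hI
    rw [← T.card_Pg, ← Nat.card_eq_finsetCard, ← Nat.card_prod]
    refine (Nat.card_congr (Equiv.ofBijective (fun x : I × T.Pg => (⟨rep τ s x.1 * x.2,
      mul_mem (hrepN _) (Subgroup.le_normalizer x.2.2), (hI _ _ x.2.2).2 x.1.2⟩ : ↥(T.NP ⊓ H))) ⟨?_, ?_⟩)).symm
    · rintro ⟨i, p⟩ ⟨i', p'⟩ e
      obtain ⟨h1, h2⟩ := huniq _ _ _ p.2 _ p'.2 (congrArg Subtype.val e)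
      exact Prod.ext (Subtype.ext h1) (Subtype.ext h2)
    · rintro ⟨n, hn, hnH⟩
      obtain ⟨i, p, hp, rfl⟩ := hdec n hn
      exact ⟨(⟨i, (hI i p hp).1 hnH⟩, ⟨p, hp⟩), rfl⟩
  have hN36 : Nat.card T.NP = 36 := by
    have := hcard ⊤ Finset.univ fun i p hp => by simp
    rwa [inf_top_eq, Finset.card_univ, Fintype.card_fin] at this
  -- fixed points of a mixed element
  have hfix : ∀ (q t : G) (I : Finset (Fin 4)), I.card = 2 → IsX z t → Commute q t → q ∈ T.Pg → orderOf q = 3 →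
      (∀ i, Commute (rep τ s i) q ↔ i ∈ I) →
      {x | IsX z x ∧ Commute q x}.ncard % 9 = 3 := by
    intro q t I hIc htX hqt hqP hqo hI
    set H := Subgroup.centralizer ({q} : Set G) with hH
    have hmemH : ∀ x, x ∈ H ↔ Commute x q := fun x => Subgroup.mem_centralizer_singleton_iff
    have hPH : T.Pg ≤ H := fun p hp => (hmemH p).2 (T.Pg_comm hqP (hPy p hp).2 (hPy p hp).1)
    have hNH : Nat.card ↥(T.NP ⊓ H) = 18 := by
      rw [hcard H I fun i p hp => ?_, hIc]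
      rw [H.mul_mem_cancel_right (hPH hp), hmemH]
      exact hI i
    set Q := T.Pg.subgroupOf H
    have hQ9 : Nat.card Q = 3 ^ 2 := by rw [Nat.card_congr (Subgroup.subgroupOfEquivOfLe hPH).toEquiv, T.card_Pg]; rfl
    have hnorm : Nat.card ↥(Subgroup.normalizer (Q : Set H)) = 18 := by
      rw [← hNH]
      refine (Subgroup.card_map_of_injective (f := H.subtype) H.subtype_injective).symm.trans ?_
      congr 1
      refine congrArg _ ?_
      ext x
      constructor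
      · rintro ⟨⟨a, ha⟩, hn, rfl⟩
        refine ⟨T.mem_NP ?_ ?_, ha⟩
        · exact (Subgroup.mem_set_normalizer_iff.1 hn ⟨T.y, hPH T.y_mem_Pg⟩).1 T.y_mem_Pg
        · exact (Subgroup.mem_set_normalizer_iff.1 hn ⟨T.k, hPH T.k_mem_Pg⟩).1 T.k_mem_Pg
      · rintro ⟨hn, hxH⟩
        exact ⟨⟨x, hxH⟩, Subgroup.mem_set_normalizer_iff.2 fun p => Subgroup.mem_set_normalizer_iff.1 hn p, rfl⟩
    obtain ⟨S, hQS⟩ := (IsPGroup.of_card hQ9).exists_le_sylow
    obtain ⟨n, hn⟩ := IsPGroup.iff_card.1 S.isPGroup'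
    have hn2 : n ≤ 2 := by
      by_contra h
      have h27 : 3 ^ (2 + 1) ∣ Nat.card H := (pow_dvd_pow 3 (by omega)).trans (hn ▸ S.card_subgroup_dvd_card)
      have := Sylow.prime_pow_dvd_card_normalizer h27 hQ9
      rw [hnorm] at this
      norm_num at this
    have hSQ : Q = (S : Subgroup H) := Subgroup.eq_of_le_of_card_ge hQS (by
      rw [hn, hQ9]; exact Nat.pow_le_pow_right (by norm_num) hn2)
    have hn3 := card_sylow_modEq_one 3 H
    rw [S.card_eq_index_normalizer, show (S : Set H) = (Q : Set H) by rw [hSQ]; rfl] at hn3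
    have hidx := (Subgroup.normalizer (Q : Set H)).card_mul_index
    rw [hnorm] at hidx
    -- the orbit
    letI : MulAction H G := MulAction.compHom G ((MulAut.conj).comp H.subtype)
    have hsmul : ∀ (h : H) (x : G), h • x = (h : G) * x * (h : G)⁻¹ := fun h x => rfl
    have hst : Nat.card (MulAction.stabilizer H t) = 6 := by
      rw [← T.card_three_cent htX hqo hqt]
      refine (Subgroup.card_map_of_injective (f := H.subtype) H.subtype_injective).symm.trans ?_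
      congr 1
      refine congrArg _ ?_
      ext x
      constructor
      · rintro ⟨⟨a, ha⟩, hs', rfl⟩
        exact ⟨Subgroup.mem_centralizer_singleton_iff.2 (mul_inv_eq_iff_eq_mul.1 hs'), ha⟩
      · rintro ⟨hx1, hx2⟩
        exact ⟨⟨x, hx2⟩, show x * t * x⁻¹ = t from
          mul_inv_eq_iff_eq_mul.2 (Subgroup.mem_centralizer_singleton_iff.1 hx1), rfl⟩
    have horb : MulAction.orbit H t = {x | IsX z x ∧ Commute q x} := by
      have hsq : ∀ x, IsX z x → x * x = 1 ∧ x ≠ 1 := by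
        rintro x ⟨g, rfl⟩
        exact ⟨by rw [show g * z * g⁻¹ * (g * z * g⁻¹) = g * (z * z) * g⁻¹ by group, P.z_sq]; group,
          fun e => P.z_ne (conj_eq_one_iff.1 e)⟩
      ext x
      constructor
      · rintro ⟨h, rfl⟩
        refine ⟨htX.conj _, ?_⟩
        show Commute q ((h : G) * t * (h : G)⁻¹)
        have hhq : Commute q (h : G) := ((hmemH _).1 h.2).symm
        exact (hhq.mul_right hqt).mul_right hhq.inv_right
      · rintro ⟨hxX, hqx⟩
        by_contra hno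
        obtain ⟨t2, t1⟩ := hsq t htX
        obtain ⟨x2, x1⟩ := hsq x hxX
        let tH : H := ⟨t, (hmemH t).2 hqt.symm⟩
        let xH : H := ⟨x, (hmemH x).2 hqx.symm⟩
        have hnc : ¬ IsConj tH xH := fun hc => by
          obtain ⟨h, hh⟩ := isConj_iff.1 hc
          exact hno ⟨h, congrArg Subtype.val hh⟩
        obtain ⟨w1, w2, wt, wx⟩ := Lie.InvFour.mid_spec (u := tH) (v := xH) (Subtype.ext t2) (Subtype.ext x2) hnc
        set w := Lie.InvFour.mid tH xH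
        have w1' : (w : G) ≠ 1 := fun e => w1 (Subtype.ext e)
        have w2' : (w : G) * w = 1 := congrArg Subtype.val w2
        have wt' : (w : G) * t = t * w := congrArg Subtype.val wt
        have hqw : q * w = w * q := ((hmemH _).1 w.2).symm.eq
        have hwt : (w : G) = t := by
          by_contra e
          exact T.no_three htX w2' w1' e wt' hqt hqw hqo
        have hxt : x = t := by
          by_contra e
          refine T.no_three htX x2 x1 e ?_ hqt hqx hqo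
          have := congrArg Subtype.val wx
          rw [Subgroup.coe_mul, Subgroup.coe_mul, hwt] at this
          exact this.symm
        subst hxt; exact hno (MulAction.mem_orbit_self _)
    have hc := (MulAction.stabilizer H t).card_mul_index
    rw [MulAction.index_stabilizer, horb, hst, ← hidx] at hc
    rw [Nat.ModEq] at hn3
    omega
  -- the two mixed elements
  have hord : ∀ {x : G}, x * x * x = 1 → x ≠ 1 → orderOf x = 3 := fun h h1 =>
    orderOf_eq_prime (by rw [pow_three', h]) h1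
  have hc3 : ∀ {a c : G}, Commute a c → a * a * a = 1 → c * c * c = 1 → a * c * (a * c) * (a * c) = 1 :=
    fun {a c} h ha hc => by
      rw [show a * c * (a * c) * (a * c) = (a * c) ^ 3 by rw [pow_three'], h.mul_pow, pow_three', pow_three', ha, hc,
        one_mul]
  have hy3i : T.y⁻¹ * T.y⁻¹ * T.y⁻¹ = 1 := by
    rw [← mul_inv_rev, ← mul_inv_rev, ← mul_assoc, T.y_cube, inv_one]
  have hq1ne : T.k * T.y ≠ 1 := fun e => q4d (eq_inv_of_mul_eq_one_left e)
  have hq2ne : T.k * T.y⁻¹ ≠ 1 := fun e => q4c (mul_inv_eq_one.1 e)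
  have hcomm : ∀ (n q : G), Commute n q ↔ n * q * n⁻¹ = q := fun n q => mul_inv_eq_iff_eq_mul.symm
  have e1i : ∀ i, rep τ s i * (T.k * T.y) * (rep τ s i)⁻¹ =
      (![T.k * T.y, (T.k * T.y)⁻¹, T.k * T.y, (T.k * T.y)⁻¹] : Fin 4 → G) i := fun i => by
    rw [show rep τ s i * (T.k * T.y) * (rep τ s i)⁻¹ =
      (rep τ s i * T.k * (rep τ s i)⁻¹) * (rep τ s i * T.y * (rep τ s i)⁻¹) by group, hrepk, hrepy]
    fin_cases i
    · rfl
    · show T.k⁻¹ * T.y⁻¹ = (T.k * T.y)⁻¹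
      rw [mul_inv_rev, hky.inv_inv.eq]
    · exact hky.eq.symm
    · exact (mul_inv_rev T.k T.y).symm
  have e2i : ∀ i, rep τ s i * (T.k * T.y⁻¹) * (rep τ s i)⁻¹ =
      (![T.k * T.y⁻¹, (T.k * T.y⁻¹)⁻¹, (T.k * T.y⁻¹)⁻¹, T.k * T.y⁻¹] : Fin 4 → G) i := fun i => by
    rw [show rep τ s i * (T.k * T.y⁻¹) * (rep τ s i)⁻¹ =
      (rep τ s i * T.k * (rep τ s i)⁻¹) * (rep τ s i * T.y * (rep τ s i)⁻¹)⁻¹ by group, hrepk, hrepy]
    fin_cases i
    · rfl
    · show T.k⁻¹ * T.y⁻¹⁻¹ = (T.k * T.y⁻¹)⁻¹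
      rw [mul_inv_rev, inv_inv, hky.inv_left.eq]
    · show T.y * T.k⁻¹ = (T.k * T.y⁻¹)⁻¹
      rw [mul_inv_rev, inv_inv]
    · show T.y⁻¹ * T.k⁻¹⁻¹ = T.k * T.y⁻¹
      rw [inv_inv, hky.inv_right.eq]
  have hinvne : ∀ {x : G}, x * x * x = 1 → x ≠ 1 → x⁻¹ ≠ x := fun {x} h h1 e => h1 (by
    have h2 : x * x = 1 := by nth_rw 2 [← e]; exact mul_inv_cancel x
    rwa [h2, one_mul] at h)
  have hP1 : T.k * T.y ∈ T.Pg := mul_mem T.k_mem_Pg T.y_mem_Pg
  have hP2 : T.k * T.y⁻¹ ∈ T.Pg := mul_mem T.k_mem_Pg (inv_mem T.y_mem_Pg)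
  have o1 := hc3 hky T.k_cube T.y_cube
  have o2 := hc3 hky.inv_right T.k_cube hy3i
  have F1 : {x | IsX z x ∧ Commute (T.k * T.y) x}.ncard % 9 = 3 := by
    refine hfix _ τ {0, 2} rfl htX ((hcomm τ _).2 (e1i 2)).symm hP1 (hord o1 hq1ne) fun i => ?_
    rw [hcomm, e1i]
    fin_cases i <;> simp [hinvne o1 hq1ne, -mul_inv_rev]
  have F2 : {x | IsX z x ∧ Commute (T.k * T.y⁻¹) x}.ncard % 9 = 3 := by
    refine hfix _ (τ * s) {0, 3} rfl htsX ((hcomm (τ * s) _).2 (e2i 3)).symm hP2 (hord o2 hq2ne) fun i => ?_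
    rw [hcomm, e2i]
    fin_cases i <;> simp [hinvne o2 hq2ne, -mul_inv_rev]
  -- the conjugates of the central involution
  set Xs : Set G := {x | IsX z x} with hXs
  letI : MulAction T.Pg Xs :=
    { smul := fun p x => ⟨(p : G) * x * (p : G)⁻¹, x.2.conj _⟩
      one_smul := fun x => Subtype.ext (show (1 : G) * x * (1 : G)⁻¹ = x by simp)
      mul_smul := fun p p' x => Subtype.ext (show ((p : G) * p') * x * ((p : G) * p')⁻¹ =
        (p : G) * ((p' : G) * x * (p' : G)⁻¹) * (p : G)⁻¹ by group) }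
  have hfb : ∀ p : T.Pg, Nat.card (MulAction.fixedBy Xs p) = {x | IsX z x ∧ Commute (p : G) x}.ncard := by
    intro p
    rw [← Nat.card_coe_set_eq]
    exact Nat.card_congr
      { toFun := fun x => ⟨x.1.1, x.1.2, mul_inv_eq_iff_eq_mul.1 (congrArg Subtype.val x.2)⟩
        invFun := fun x => ⟨⟨x.1, x.2.1⟩, Subtype.ext (mul_inv_eq_iff_eq_mul.2 x.2.2.eq)⟩ }
  let eP : Fin 3 × Fin 3 ≃ T.Pg := Equiv.ofBijective (fun i => ⟨T.pw i, T.mem_Pg.2 ⟨i, rfl⟩⟩)
    ⟨fun a c e => T.pw_inj (congrArg Subtype.val e), fun ⟨x, hx⟩ => by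
      obtain ⟨i, rfl⟩ := T.mem_Pg.1 hx
      exact ⟨i, rfl⟩⟩
  have hdvd := sum_fixed (H := T.Pg) Xs
  rw [T.card_Pg, ← eP.sum_comp] at hdvd
  have hzero : ∀ p : G, (∃ g, g * T.y * g⁻¹ = p ∨ g * T.y * g⁻¹ = p⁻¹) →
      {x | IsX z x ∧ Commute p x}.ncard = 0 := by
    rintro p ⟨g, hg⟩
    rw [Set.ncard_eq_zero (Set.toFinite _), Set.eq_empty_iff_forall_notMem]
    rintro x ⟨hxX, hpx⟩
    refine T.not_X_of_three (t := g⁻¹ * x * g⁻¹⁻¹) ?_ T.y_spec.2.1 T.y_spec.2.2.1 (hxX.conj _)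
    have hc : Commute (g * T.y * g⁻¹) x := by
      rcases hg with e | e <;> rw [e]
      exacts [hpx, hpx.inv_left]
    calc T.y * (g⁻¹ * x * g⁻¹⁻¹) = g⁻¹ * ((g * T.y * g⁻¹) * x) * g := by group
      _ = g⁻¹ * (x * (g * T.y * g⁻¹)) * g := by rw [hc.eq]
      _ = _ := by group
  have hsymm : ∀ p : G, {x | IsX z x ∧ Commute p⁻¹ x}.ncard = {x | IsX z x ∧ Commute p x}.ncard := fun p => by
    simp only [Commute.inv_left_iff]
  obtain ⟨gk, hgk⟩ := T.k_conj_y
  have hk3 : T.k ^ 2 = T.k⁻¹ := (eq_inv_of_mul_eq_one_left (by rw [← pow_succ, pow_three', T.k_cube]))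
  have hy3 : T.y ^ 2 = T.y⁻¹ := (eq_inv_of_mul_eq_one_left (by rw [← pow_succ, pow_three', T.y_cube]))
  simp only [Fintype.sum_prod_type, Fin.sum_univ_three, hfb, eP, Equiv.ofBijective_apply, pw, Fin.val_zero, Fin.val_one,
    Fin.val_two, pow_zero, pow_one, one_mul, mul_one, hk3, hy3] at hdvd
  rw [hzero T.k ⟨gk, Or.inl hgk⟩, hsymm T.k, hzero T.k ⟨gk, Or.inl hgk⟩, hzero T.y ⟨1, Or.inl (by simp)⟩, hsymm T.y,
    hzero T.y ⟨1, Or.inl (by simp)⟩, show T.k⁻¹ * T.y = (T.k * T.y⁻¹)⁻¹ by rw [mul_inv_rev, inv_inv, hky.inv_left.eq],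
    show T.k⁻¹ * T.y⁻¹ = (T.k * T.y)⁻¹ by rw [mul_inv_rev, hky.inv_inv.eq], hsymm, hsymm,
    show {x | IsX z x ∧ Commute (1 : G) x} = Xs by simp [hXs]] at hdvd
  -- the order of the group
  letI : MulAction (⊤ : Subgroup G) G := MulAction.compHom G ((MulAut.conj).comp (⊤ : Subgroup G).subtype)
  have hCz : Nat.card ↥(Subgroup.centralizer ({z} : Set G)) = 192 := by
    rw [← Nat.card_congr (Equiv.ofBijective (fun X : El => (⟨P.ev X,
      Subgroup.mem_centralizer_singleton_iff.2 (P.commute_z X)⟩ : Subgroup.centralizer ({z} : Set G)))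
      ⟨fun a c e => P.inj (congrArg Subtype.val e), fun ⟨g, hg⟩ => by
        obtain ⟨X, hX⟩ := (P.mem g).1 (Subgroup.mem_centralizer_singleton_iff.1 hg)
        exact ⟨X, Subtype.ext hX⟩⟩)]
    simp [Nat.card_eq_fintype_card]
  have horbz : MulAction.orbit (⊤ : Subgroup G) z = Xs := by
    ext x; exact ⟨fun ⟨g, hg⟩ => ⟨g, hg⟩, fun ⟨g, hg⟩ => ⟨⟨g, Subgroup.mem_top g⟩, hg⟩⟩
  have hG := (MulAction.stabilizer (⊤ : Subgroup G) z).card_mul_index
  rw [MulAction.index_stabilizer, horbz, Subgroup.card_top, show Nat.card (MulAction.stabilizer (⊤ : Subgroup G) z) = 192 by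
    rw [← hCz]
    refine (Subgroup.card_map_of_injective (f := (⊤ : Subgroup G).subtype) (⊤ : Subgroup G).subtype_injective).symm.trans ?_
    congr 1
    refine congrArg _ ?_
    ext g
    constructor
    · rintro ⟨⟨a, ha⟩, hs', rfl⟩
      exact Subgroup.mem_centralizer_singleton_iff.2 (mul_inv_eq_iff_eq_mul.1 hs')
    · intro hg
      exact ⟨⟨g, Subgroup.mem_top g⟩, show g * z * g⁻¹ = z from
        mul_inv_eq_iff_eq_mul.2 (Subgroup.mem_centralizer_singleton_iff.1 hg), rfl⟩] at hG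
  obtain ⟨S, hPS⟩ := (IsPGroup.of_card (n := 2) (p := 3) (by rw [T.card_Pg]; rfl) : IsPGroup 3 T.Pg).exists_le_sylow
  obtain ⟨n, hn⟩ := IsPGroup.iff_card.1 S.isPGroup'
  have hn2 : n ≤ 2 := by
    by_contra h
    have h27 : 3 ^ (2 + 1) ∣ Nat.card G := (pow_dvd_pow 3 (by omega)).trans (hn ▸ S.card_subgroup_dvd_card)
    have := Sylow.prime_pow_dvd_card_normalizer h27 (H := T.Pg) (by rw [T.card_Pg]; rfl)
    rw [show Nat.card ↥(Subgroup.normalizer (T.Pg : Set G)) = 36 from hN36] at this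
    norm_num at this
  have hSP : T.Pg = (S : Subgroup G) := Subgroup.eq_of_le_of_card_ge hPS (by
    rw [hn, T.card_Pg]; exact (Nat.pow_le_pow_right (by norm_num) hn2).trans le_rfl)
  have hsyl := card_sylow_modEq_one 3 G
  rw [S.card_eq_index_normalizer, show (S : Set G) = (T.Pg : Set G) by rw [hSP]; rfl, Nat.ModEq] at hsyl
  have hGN := (Subgroup.normalizer (T.Pg : Set G)).card_mul_index
  rw [show Nat.card ↥(Subgroup.normalizer (T.Pg : Set G)) = 36 from hN36, ← hG] at hGN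
  omega

end Two

end Cfsg.Agent.MTwelve.SwapCase
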