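import Cfsg.Agent.Lib.Spor.MTwelve.SwapCase.Count

/-!
Four letters: a subgroup isomorphic to the alternating group of degree five containing the first triangle and the
element cycling it, normalised by lifts of permutations fixing one letter.
-/

set_option autoImplicit false
set_option linter.style.haveILetI false
set_option maxRecDepth 100000
set_option synthInstance.maxHeartbeats 400000
set_option synthInstance.maxSize 8192

namespace Cfsg.Agent.MTwelve.SwapCase

open CentShape OrderFront Equiv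

universe u

theorem alt_five_inverter : ∀ σ : Perm (Fin 5), σ * σ * σ = 1 → σ ≠ 1 →
    ∃ t : Perm (Fin 5), Perm.sign t = 1 ∧ t * t = 1 ∧ t * σ * t = σ * σ := by decide +kernel

theorem perm_fix_norm : ∀ γ : Perm (Fin 4), γ * γ * γ = 1 → γ ≠ 1 → γ 0 = 0 → ∀ σ : Perm (Fin 4), σ 0 = 0 →
    σ * γ * σ⁻¹ = γ ∨ σ * γ * σ⁻¹ = γ * γ := by decide +kernel

theorem perm_three_exists : ∃ γ : Perm (Fin 4), γ * γ * γ = 1 ∧ γ ≠ 1 ∧ γ 0 = 0 ∧ Perm.sign γ = 1 := by decide +kernel

theorem alt_five_commutator : commutator (alternatingGroup (Fin 5)) = ⊤ := by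
  rcases (commutator (alternatingGroup (Fin 5))).normal_of_characteristic.eq_bot_or_eq_top with h | h
  · exfalso
    have key : ∀ a c : alternatingGroup (Fin 5), a * c = c * a := by
      intro a c
      have hmem : a * c * a⁻¹ * c⁻¹ ∈ commutator (alternatingGroup (Fin 5)) :=
        Subgroup.commutator_mem_commutator (Subgroup.mem_top a) (Subgroup.mem_top c)
      rw [h, Subgroup.mem_bot] at hmem
      calc a * c = (a * c * a⁻¹ * c⁻¹) * (c * a) := by group
        _ = c * a := by rw [hmem, one_mul]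
    exact absurd key (by decide +kernel)
  · exact h

variable {G : Type u} [Group G] [Finite G] {z : G} {P : Par z}

namespace Two

variable (T : Two P)

/-- what is needed of the subgroup on five letters -/
def HasFive : Prop :=
  ∃ e : alternatingGroup (Fin 5) →* G, Function.Injective e ∧ T.k ∈ e.range ∧ T.b ∈ e.range ∧
    ∀ σ : Perm (Fin T.ph.m), (∀ i : Fin T.ph.m, i.val = 0 → σ i = i) →
      ∀ a, T.lift σ * e a * (T.lift σ)⁻¹ ∈ e.range

theorem five_of_four (hm : T.ph.m = 4) : T.HasFive := by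
  classical
  haveI : Fact (Nat.Prime 3) := ⟨Nat.prime_three⟩
  set Cy := Subgroup.centralizer ({T.y} : Set G) with hCydef
  obtain ⟨π, hπ, hker⟩ : ∃ π : Cy →* alternatingGroup (Fin 5), Function.Surjective π ∧
      ∀ c, π c = 1 ↔ (c : G) ∈ Subgroup.zpowers T.y := (T.small_or_five hm).resolve_left T.small_false
  have hCy : ∀ c, c ∈ Cy ↔ c * T.y = T.y * c := fun c => Subgroup.mem_centralizer_singleton_iff
  let yC : Cy := ⟨T.y, (hCy _).2 rfl⟩
  let kC : Cy := ⟨T.k, (hCy _).2 T.k_y⟩
  have hcard : Nat.card Cy = 180 := by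
    have h := π.ker.card_mul_index
    rw [Subgroup.index_ker, MonoidHom.range_eq_top.2 hπ, Subgroup.card_top] at h
    have hk : π.ker = (Subgroup.zpowers T.y).subgroupOf Cy := Subgroup.ext fun c => hker c
    rw [hk, Nat.card_congr (Subgroup.subgroupOfEquivOfLe (Subgroup.zpowers_le.2 yC.2)).toEquiv, Nat.card_zpowers,
      T.y_spec.2.1] at h
    rw [← h, nat_card_alternatingGroup, Nat.card_fin]
    rfl
  have hPgC : T.Pg ≤ Cy := by
    rintro _ ⟨i, j, rfl⟩
    exact (hCy _).2 (((show Commute T.k T.y from T.k_y).pow_left i).mul_left ((Commute.refl T.y).pow_left j)).eq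
  -- the element is outside the commutator subgroup
  have hy : yC ∉ commutator Cy := by
    set S := T.Pg.subgroupOf Cy
    have hSi : S.index = 20 := by
      have h := S.card_mul_index
      rw [Nat.card_congr (Subgroup.subgroupOfEquivOfLe hPgC).toEquiv, T.card_Pg, hcard] at h
      omega
    haveI : S.FiniteIndex := ⟨by rw [hSi]; norm_num⟩
    haveI : IsMulCommutative S := ⟨⟨fun a c => by
      obtain ⟨i, j, hij⟩ := (a.2 : ((a : Cy) : G) ∈ T.Pg)
      obtain ⟨i', j', hij'⟩ := (c.2 : ((c : Cy) : G) ∈ T.Pg)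
      refine Subtype.ext (Subtype.ext ?_)
      show ((a : Cy) : G) * ((c : Cy) : G) = ((c : Cy) : G) * ((a : Cy) : G)
      rw [show ((a : Cy) : G) = T.k ^ i * T.y ^ j from hij, show ((c : Cy) : G) = T.k ^ i' * T.y ^ j' from hij']
      have hc : Commute T.k T.y := T.k_y
      exact ((((Commute.refl T.k).pow_pow i i').mul_left (hc.symm.pow_pow j i')).mul_right
        ((hc.pow_pow i j').mul_left ((Commute.refl T.y).pow_pow j j'))).eq⟩⟩
    intro hmem
    open scoped IsMulCommutative in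
    have key := MonoidHom.transfer_eq_pow (H := S) (MonoidHom.id S) yC fun k g₀ _ => by
      have hc : Commute g₀ (yC ^ k) := (show Commute g₀ yC from Subtype.ext ((hCy _).1 g₀.2)).pow_right k
      rw [mul_assoc, ← hc.eq, inv_mul_cancel_left]
    open scoped IsMulCommutative in
    have h1 : MonoidHom.transfer (MonoidHom.id S) yC = 1 :=
      (Abelianization.commutator_subset_ker (MonoidHom.transfer (MonoidHom.id S))) hmem
    rw [h1] at key
    have h20 : T.y ^ S.index = 1 := congrArg (fun q : S => ((q : Cy) : G)) key.symm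
    have := orderOf_dvd_of_pow_eq_one h20
    rw [hSi, T.y_spec.2.1] at this
    norm_num at this
  set D := commutator Cy
  have hDinj : ∀ c ∈ D, π c = 1 → c = 1 := by
    intro c hc h1
    obtain ⟨n, hn⟩ := Subgroup.mem_zpowers_iff.1 ((hker c).1 h1)
    have hc' : c = yC ^ n := Subtype.ext (by push_cast; exact hn.symm)
    by_contra hne
    apply hy
    have hy3 : yC ^ (3 : ℤ) = 1 := Subtype.ext (by
      push_cast
      rw [show (3 : ℤ) = ((3 : ℕ) : ℤ) from rfl, zpow_natCast, pow_three', T.y_cube])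
    have hmod : yC ^ n = yC ^ (n % 3) := by
      conv_lhs => rw [← Int.emod_add_mul_ediv n 3, zpow_add, zpow_mul, hy3, one_zpow, mul_one]
    have h3 : n % 3 = 0 ∨ n % 3 = 1 ∨ n % 3 = 2 := by omega
    rcases h3 with e | e | e
    · exact absurd (by rw [hc', hmod, e, zpow_zero]) hne
    · rwa [hc', hmod, e, zpow_one] at hc
    · rw [hc', hmod, e] at hc
      have h4 := mul_mem hc hc
      rwa [← zpow_add, show (2 : ℤ) + 2 = 3 + 1 from rfl, zpow_add, hy3, one_mul, zpow_one] at h4
  let ψ : D →* alternatingGroup (Fin 5) := π.comp D.subtype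
  have hψ : Function.Bijective ψ := by
    refine ⟨(injective_iff_map_eq_one ψ).2 fun c hc => Subtype.ext (hDinj c c.2 hc), fun a => ?_⟩
    have : a ∈ D.map π := by
      rw [show D = ⁅(⊤ : Subgroup Cy), ⊤⁆ from rfl, Subgroup.map_commutator, Subgroup.map_top_of_surjective π hπ]
      show a ∈ commutator (alternatingGroup (Fin 5))
      rw [alt_five_commutator]
      exact Subgroup.mem_top a
    obtain ⟨c, hc, rfl⟩ := this
    exact ⟨⟨c, hc⟩, rfl⟩
  let f : alternatingGroup (Fin 5) →* G := (Cy.subtype.comp D.subtype).comp (MulEquiv.ofBijective ψ hψ).symm.toMonoidHom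
  have hfr : ∀ x : G, x ∈ f.range ↔ x ∈ D.map Cy.subtype := by
    intro x
    constructor
    · rintro ⟨a, rfl⟩
      exact ⟨_, ((MulEquiv.ofBijective ψ hψ).symm a).2, rfl⟩
    · rintro ⟨c, hc, rfl⟩
      exact ⟨ψ ⟨c, hc⟩, by
        show ((((MulEquiv.ofBijective ψ hψ).symm (ψ ⟨c, hc⟩) : D) : Cy) : G) = c
        rw [show (MulEquiv.ofBijective ψ hψ).symm (ψ ⟨c, hc⟩) = ⟨c, hc⟩ from
          (MulEquiv.ofBijective ψ hψ).symm_apply_apply _]⟩
  -- involutions and the cycling element
  have hsplit : ∀ x : Cy, ∃ d ∈ D, ∃ i : ℕ, (x : G) = (d : G) * T.y ^ i ∧ π d = π x := by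
    intro x
    obtain ⟨⟨d, hd⟩, e⟩ := hψ.2 (π x)
    have e' : π d = π x := e
    obtain ⟨i, hi⟩ := (mem_zpowers_iff_mem_range_orderOf.1 ((hker (d⁻¹ * x)).1 (by
      rw [map_mul, map_inv, e', inv_mul_cancel])) |> fun h => Finset.mem_image.1 h)
    refine ⟨d, hd, i, ?_, e'⟩
    rw [hi.2]; push_cast; group
  let bC : Cy := ⟨T.b, (hCy _).2 (T.b_comm_K0 T.y_mem_K0)⟩
  have hbD : bC ∈ D := by
    obtain ⟨d, hd, i, he, -⟩ := hsplit bC
    have hc : Commute (d : G) (T.y ^ i) := (show Commute (d : G) T.y from (hCy _).1 d.2).pow_right i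
    have h2 : T.y ^ i * T.y ^ i ∈ D.map Cy.subtype := by
      have h := P.A_sq T.bmem.1
      rw [show T.b = (bC : G) from rfl, he, mul_assoc, ← mul_assoc (T.y ^ i), ← hc.eq, mul_assoc (d : G) (T.y ^ i),
        ← mul_assoc (d : G)] at h
      refine ⟨(d * d)⁻¹, inv_mem (mul_mem hd hd), ?_⟩
      show ((d * d)⁻¹ : Cy).val = _
      push_cast
      exact inv_eq_of_mul_eq_one_right h
    obtain ⟨u, hu, hu'⟩ := h2
    have hu1 : yC ^ (i + i) ∈ D := by
      rwa [show yC ^ (i + i) = u from Subtype.ext (by push_cast; rw [pow_add]; exact hu'.symm)]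
    have h1 := hDinj (yC ^ (i + i)) hu1 ((hker _).2 (by push_cast; exact pow_mem (Subgroup.mem_zpowers T.y) _))
    have h1' : T.y ^ (i + i) = 1 := congrArg Subtype.val h1
    have h3 := orderOf_dvd_of_pow_eq_one h1'
    rw [T.y_spec.2.1] at h3
    have hy1 : T.y ^ i = 1 := orderOf_dvd_iff_pow_eq_one.1 (by rw [T.y_spec.2.1]; omega)
    rw [show bC = d from Subtype.ext (by rw [he, hy1, mul_one])]
    exact hd
  have hkD : kC ∈ D := by
    obtain ⟨d, hd, i, he, hπd⟩ := hsplit kC
    have he' : T.k = (d : G) * T.y ^ i := he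
    rcases pow_mod_three T.y_cube i with e | e | e
    · rw [show kC = d from Subtype.ext (show T.k = _ by rw [he', e, mul_one])]
      exact hd
    all_goals exfalso
    all_goals
      have hk3 : kC ^ 3 = 1 := Subtype.ext (by push_cast; rw [pow_three']; exact T.k_cube)
      obtain ⟨t, ht1, ht2, ht3⟩ := alt_five_inverter (π kC : Perm (Fin 5))
        (by rw [← pow_three', ← Subgroup.coe_pow, ← map_pow, hk3, map_one]; rfl)
        (fun h => by
          have h' : π kC = 1 := Subtype.ext h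
          obtain ⟨n, hn⟩ := (mem_zpowers_iff_mem_range_orderOf.1 ((hker kC).1 h') |> fun h => Finset.mem_image.1 h)
          have := T.pw_inj (a₁ := (1, 0)) (a₂ := (0, Fin.ofNat 3 n)) (by
            simp only [pw, Fin.val_ofNat, Fin.val_zero, Fin.val_one, pow_zero, pow_one, one_mul, mul_one]
            rw [show T.k = (kC : G) from rfl, ← hn.2, ← pow_mod_orderOf T.y n, T.y_spec.2.1])
          exact absurd (congrArg Prod.fst this) (by simp))
      obtain ⟨⟨u, hu⟩, hu'⟩ := hψ.2 ⟨t, Perm.mem_alternatingGroup.2 ht1⟩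
      have hinv : u * d * u = d⁻¹ := by
        have h1 := hDinj (u * d * u * d) (mul_mem (mul_mem (mul_mem hu hd) hu) hd) (by
          refine Subtype.ext ?_
          rw [map_mul, map_mul, map_mul, show π u = ⟨t, Perm.mem_alternatingGroup.2 ht1⟩ from hu', hπd]
          push_cast
          rw [ht3, ← pow_three', ← Subgroup.coe_pow, ← map_pow, hk3, map_one]
          rfl)
        exact eq_inv_of_mul_eq_one_left h1
      have hu2 : (u : G) * u = 1 := congrArg Subtype.val (hDinj (u * u) (mul_mem hu hu) (by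
        rw [map_mul, show π u = ⟨t, Perm.mem_alternatingGroup.2 ht1⟩ from hu']
        exact Subtype.ext ht2))
      have hinv' : (u : G) * d * u = (d : G)⁻¹ := congrArg Subtype.val hinv
      have hcy : Commute (u : G) T.y := (hCy _).1 u.2
      have hdy : Commute (d : G) T.y := (hCy _).1 d.2
      have hd' : (d : G) = T.k * (T.y ^ i)⁻¹ := by rw [he', mul_inv_cancel_right]
      have hconj : (u : G) * T.k * (u : G)⁻¹ = (T.k * (T.y ^ i))⁻¹ := by
        rw [inv_eq_of_mul_eq_one_right hu2]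
        calc (u : G) * T.k * u = (u : G) * d * (T.y ^ i * u) := by rw [he']; group
          _ = (u : G) * d * u * T.y ^ i := by rw [← (hcy.pow_right i).eq]; group
          _ = (T.k * T.y ^ i)⁻¹ := by
            rw [hinv', hd', mul_inv_rev, inv_inv, mul_inv_rev, e, mul_assoc]
            have hc : Commute T.k T.y := T.k_y
            first
              | (rw [hc.inv_left.eq, ← mul_assoc,
                  show T.y * T.y = T.y⁻¹ from eq_inv_of_mul_eq_one_left T.y_cube])
              | (rw [inv_inv, hc.inv_inv.eq, ← mul_assoc, ← mul_inv_rev,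
                  show T.y * T.y = T.y⁻¹ from eq_inv_of_mul_eq_one_left T.y_cube, inv_inv])
      obtain ⟨g, hg⟩ := T.k_conj_y
      rw [e] at hconj
      first
        | exact (T.not_conj_mixed (Or.inl rfl) ((u : G) * g)).2 (by rw [← hconj, ← hg]; group)
        | exact (T.not_conj_mixed (Or.inr rfl) ((u : G) * g)).2 (by rw [← hconj, ← hg]; group)
  -- transport to the standard element of order three
  have key : ∀ m, m = 4 → (∃ γ : Perm (Fin m), γ * γ * γ = 1 ∧ γ ≠ 1 ∧ Perm.sign γ = 1 ∧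
      ∀ σ : Perm (Fin m), (∀ i : Fin m, i.val = 0 → σ i = i) → σ * γ * σ⁻¹ = γ ∨ σ * γ * σ⁻¹ = γ * γ) := by
    rintro m rfl
    obtain ⟨γ, h1, h2, h3, h4⟩ := perm_three_exists
    exact ⟨γ, h1, h2, h4, fun σ hσ => perm_fix_norm γ h1 h2 h3 σ (hσ 0 rfl)⟩
  obtain ⟨γ, hγ3, hγ1, hγs, hγn⟩ := key _ hm
  have hγK := T.lift_even hγs
  have hγo : orderOf (T.lift γ) = 3 := orderOf_eq_prime
    (by rw [pow_three', ← map_mul, ← map_mul, hγ3, map_one]) fun h => hγ1 (by
      rw [← T.lift_spec.2.1 γ, h, T.F_one])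
  obtain ⟨c, hcK, hc⟩ := T.three_conj T.y_mem_K0 hγK T.y_spec.2.1 hγo
  refine ⟨(MulAut.conj c).toMonoidHom.comp f,
    (MulAut.conj c).injective.comp (Subtype.val_injective.comp (Subtype.val_injective.comp
      (MulEquiv.ofBijective ψ hψ).symm.injective)), ?_, ?_, ?_⟩
  · obtain ⟨a, ha⟩ := (hfr T.k).2 ⟨kC, hkD, rfl⟩
    exact ⟨a, show c * f a * c⁻¹ = T.k by rw [ha, ← T.k_spec.2.2.1 c hcK, mul_inv_cancel_right]⟩
  · obtain ⟨a, ha⟩ := (hfr T.b).2 ⟨bC, hbD, rfl⟩
    exact ⟨a, show c * f a * c⁻¹ = T.b by rw [ha, ← T.b_comm_K0 hcK, mul_inv_cancel_right]⟩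
  intro σ hσ a
  set h := c⁻¹ * T.lift σ * c with hh
  have hl : T.lift σ * T.lift γ * (T.lift σ)⁻¹ = T.lift γ ∨ T.lift σ * T.lift γ * (T.lift σ)⁻¹ = (T.lift γ)⁻¹ := by
    have hgg : T.lift (γ * γ) = (T.lift γ)⁻¹ := by
      rw [map_mul]
      exact eq_inv_of_mul_eq_one_left (by rw [← map_mul, ← map_mul, hγ3, map_one])
    rcases hγn σ hσ with e | e
    · left; rw [← map_inv, ← map_mul, ← map_mul, e]
    · right; rw [← map_inv, ← map_mul, ← map_mul, e, hgg]
  have hy' : h * T.y * h⁻¹ = T.y ∨ h * T.y * h⁻¹ = T.y⁻¹ := by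
    have e : h * T.y * h⁻¹ = c⁻¹ * (T.lift σ * (c * T.y * c⁻¹) * (T.lift σ)⁻¹) * c := by rw [hh]; group
    rcases hc with hc | hc <;> rcases hl with hl | hl
    · left; rw [e, hc, hl, ← hc]; group
    · right; rw [e, hc, hl, ← hc]; group
    · left
      rw [e, hc, show T.lift σ * (T.lift γ)⁻¹ * (T.lift σ)⁻¹ = (T.lift σ * T.lift γ * (T.lift σ)⁻¹)⁻¹ by group, hl, ← hc]
      group
    · right
      rw [e, hc, show T.lift σ * (T.lift γ)⁻¹ * (T.lift σ)⁻¹ = (T.lift σ * T.lift γ * (T.lift σ)⁻¹)⁻¹ by group, hl,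
        inv_inv, show T.lift γ = (c * T.y * c⁻¹)⁻¹ by rw [hc, inv_inv]]
      group
  have hmapC : Cy.map (MulAut.conj h).toMonoidHom = Cy := by
    refine Subgroup.eq_of_le_of_card_ge ?_ (by rw [Subgroup.card_map_of_injective (MulAut.conj h).injective])
    rintro _ ⟨x, hx, rfl⟩
    refine (hCy _).2 ?_
    have hxy : Commute x T.y := (hCy x).1 hx
    have hgoal : Commute (h * x * h⁻¹) (h * T.y * h⁻¹) := by
      show h * x * h⁻¹ * (h * T.y * h⁻¹) = h * T.y * h⁻¹ * (h * x * h⁻¹)
      rw [show h * x * h⁻¹ * (h * T.y * h⁻¹) = h * (x * T.y) * h⁻¹ by group, hxy.eq]; group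
    rcases hy' with e | e <;> rw [e] at hgoal
    · exact hgoal.eq
    · exact (Commute.inv_right_iff.1 hgoal).eq
  have hmapD : (D.map Cy.subtype).map (MulAut.conj h).toMonoidHom = D.map Cy.subtype := by
    rw [Subgroup.map_subtype_commutator, Subgroup.map_commutator, hmapC]
  obtain ⟨a', ha'⟩ := (hfr _).2 (hmapD ▸ Subgroup.mem_map_of_mem (MulAut.conj h).toMonoidHom ((hfr _).1 ⟨a, rfl⟩))
  refine ⟨a', ?_⟩
  show c * f a' * c⁻¹ = T.lift σ * (c * f a * c⁻¹) * (T.lift σ)⁻¹
  rw [ha']
  show c * (h * f a * h⁻¹) * c⁻¹ = _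
  rw [hh]; group

end Two

end Cfsg.Agent.MTwelve.SwapCase
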