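import Cfsg.Agent.Lib.Spor.MTwelve.SwapCase.FiveA

/-!
Five letters: the subgroup isomorphic to the alternating group of degree five is a translate of the one centralising
the first triangle.
-/

set_option autoImplicit false
set_option linter.style.haveILetI false
set_option maxRecDepth 100000
set_option synthInstance.maxHeartbeats 400000
set_option synthInstance.maxSize 8192

namespace Cfsg.Agent.MTwelve.SwapCase

open CentShape OrderFront Equiv

universe u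

theorem perm_four_group_move : ∀ a c : Perm (Fin 5), a * a = 1 → c * c = 1 → a ≠ 1 → c ≠ 1 → a ≠ c →
    Perm.sign a = 1 → Perm.sign c = 1 → a * c = c * a →
    ∃ σ : Perm (Fin 5), Perm.sign σ = 1 ∧ (σ * a * σ⁻¹) 0 = 0 ∧ (σ * c * σ⁻¹) 0 = 0 := by decide +kernel

theorem perm_four_group_all : ∀ a c : Perm (Fin 5), a * a = 1 → c * c = 1 → a ≠ 1 → c ≠ 1 → a ≠ c →
    Perm.sign a = 1 → Perm.sign c = 1 → a 0 = 0 → c 0 = 0 →
    ∀ x : Perm (Fin 5), x * x = 1 → Perm.sign x = 1 → x 0 = 0 → x = 1 ∨ x = a ∨ x = c ∨ x = a * c := by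
  decide +kernel

variable {G : Type u} [Group G] [Finite G] {z : G} {P : Par z}

namespace Two

variable (T : Two P)

theorem five_of_five (hm : T.ph.m = 5) : T.HasFive := by
  classical
  obtain ⟨hgN, -, -, -, hg1, hg2⟩ := T.gx_spec
  have h0 : 0 < T.ph.m := by omega
  let o : Fin T.ph.m := ⟨0, h0⟩
  have hzero : ∀ i : Fin T.ph.m, i.val = 0 ↔ i = o := fun i => by simp [o, Fin.ext_iff]
  have hb' : T.b' ∈ T.K0 := T.tri2_mem_K0 (Or.inl rfl)
  have hp : T.p ∈ T.K0 := T.tri2_mem_K0 (Or.inr (Or.inl rfl))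
  have key1 : ∀ m, m = 5 → ∀ o : Fin m, o.val = 0 → ∀ a c : Perm (Fin m), a * a = 1 → c * c = 1 → a ≠ 1 → c ≠ 1 →
      a ≠ c → Perm.sign a = 1 → Perm.sign c = 1 → a * c = c * a →
      ∃ σ : Perm (Fin m), Perm.sign σ = 1 ∧ (σ * a * σ⁻¹) o = o ∧ (σ * c * σ⁻¹) o = o := by
    rintro m rfl o ho
    rw [show o = 0 from Fin.ext ho]
    exact perm_four_group_move
  have key2 : ∀ m, m = 5 → ∀ o : Fin m, o.val = 0 → ∀ a c : Perm (Fin m), a * a = 1 → c * c = 1 → a ≠ 1 → c ≠ 1 →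
      a ≠ c → Perm.sign a = 1 → Perm.sign c = 1 → a o = o → c o = o →
      ∀ x : Perm (Fin m), x * x = 1 → Perm.sign x = 1 → x o = o → x = 1 ∨ x = a ∨ x = c ∨ x = a * c := by
    rintro m rfl o ho
    rw [show o = 0 from Fin.ext ho]
    exact perm_four_group_all
  have hsqF : ∀ x, T.Tri2 x → T.F x * T.F x = 1 ∧ T.F x ≠ 1 ∧ Perm.sign (T.F x) = 1 := fun x hx => by
    have hK := T.tri2_mem_K0 hx
    obtain ⟨hA, h1, -⟩ := T.six.2 (Or.inr hx)
    exact ⟨by rw [← T.F_mul (T.K0_le_N0 hK) (T.K0_le_N0 hK), P.A_sq hA, T.F_one], fun e => h1 (T.F_inj hK e),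
      T.F_even hK⟩
  obtain ⟨hF1, hF2, hF3⟩ := hsqF _ (Or.inl rfl : T.Tri2 T.b')
  obtain ⟨hG1, hG2, hG3⟩ := hsqF _ (Or.inr (Or.inl rfl) : T.Tri2 T.p)
  have hne : T.F T.b' ≠ T.F T.p := fun e => by
    have := T.K0_inj hb' hp e
    exact absurd (P.inj this) (by decide)
  obtain ⟨σ, hσ, hσa, hσc⟩ := key1 _ hm o rfl _ _ hF1 hG1 hF2 hG2 hne hF3 hG3 (by
    rw [← T.F_mul (T.K0_le_N0 hb') (T.K0_le_N0 hp), ← T.F_mul (T.K0_le_N0 hp) (T.K0_le_N0 hb'),
      P.A_comm T.bmem.2.1 T.bmem.2.2.2.2.1])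
  obtain ⟨c, hcK, rfl⟩ := T.F_img hσ
  have hcN := T.K0_le_N0 hcK
  have hFc : ∀ x ∈ T.K0, T.F (c * x * c⁻¹) = T.F c * T.F x * (T.F c)⁻¹ := fun x hx => by
    rw [T.F_mul (mul_mem hcN (T.K0_le_N0 hx)) (inv_mem hcN), T.F_mul hcN (T.K0_le_N0 hx), T.F_inv hcN]
  have hmem : ∀ x, T.Tri2 x → T.F (c * x * c⁻¹) o = o := by
    rintro x (rfl | rfl | rfl)
    · rw [hFc _ hb']; exact hσa
    · rw [hFc _ hp]; exact hσc
    · have e : T.p' = T.b' * T.p := by
        rw [← T.p_mul_p', P.A_comm T.bmem.2.2.2.2.1 T.bmem.2.2.2.2.2, mul_assoc, P.A_sq T.bmem.2.2.2.2.1, mul_one]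
      rw [e, show c * (T.b' * T.p) * c⁻¹ = (c * T.b' * c⁻¹) * (c * T.p * c⁻¹) by group,
        T.F_mul (T.K0_le_N0 (T.N0_conj hcN hb')) (T.K0_le_N0 (T.N0_conj hcN hp)), hFc _ hb', hFc _ hp, Perm.mul_apply,
        hσc, hσa]
  have hall : ∀ x ∈ T.K0, x * x = 1 → x ≠ 1 → T.F x o = o → T.Tri2 (c⁻¹ * x * c) := by
    intro x hx hx2 hx1 hxo
    have hx' : c⁻¹ * x * c ∈ T.K0 := mul_mem (mul_mem (inv_mem hcK) hx) hcK
    have hconj : ∀ {a : Perm (Fin T.ph.m)}, a * a = 1 → (T.F c * a * (T.F c)⁻¹) * (T.F c * a * (T.F c)⁻¹) = 1 :=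
      fun {a} h => by
        calc T.F c * a * (T.F c)⁻¹ * (T.F c * a * (T.F c)⁻¹) = T.F c * (a * a) * (T.F c)⁻¹ := by group
          _ = 1 := by rw [h]; group
    have := key2 _ hm o rfl (T.F c * T.F T.b' * (T.F c)⁻¹) (T.F c * T.F T.p * (T.F c)⁻¹) (hconj hF1) (hconj hG1)
      (fun e => hF2 (conj_eq_one_iff.1 e)) (fun e => hG2 (conj_eq_one_iff.1 e))
      (fun e => hne (mul_left_cancel (mul_right_cancel e))) (by simp [hF3]) (by simp [hG3]) hσa hσc (T.F x)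
      (by rw [← T.F_mul (T.K0_le_N0 hx) (T.K0_le_N0 hx), hx2, T.F_one]) (T.F_even hx) hxo
    have back : ∀ w ∈ T.K0, T.F x = T.F c * T.F w * (T.F c)⁻¹ → c⁻¹ * x * c = w := fun w hw e => by
      have := T.K0_inj hx (mul_mem (mul_mem hcK hw) (inv_mem hcK)) (e.trans (hFc w hw).symm)
      rw [this]; group
    rcases this with e | e | e | e
    · exact absurd (T.F_inj hx e) hx1
    · exact Or.inl (back _ hb' e)
    · exact Or.inr (Or.inl (back _ hp e))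
    · refine Or.inr (Or.inr ?_)
      rw [back (T.b' * T.p) (mul_mem hb' hp) (by rw [T.F_mul (T.K0_le_N0 hb') (T.K0_le_N0 hp), e]; group),
        ← T.p_mul_p', P.A_comm T.bmem.2.2.2.2.1 T.bmem.2.2.2.2.2, mul_assoc, P.A_sq T.bmem.2.2.2.2.1, mul_one]
  -- the isomorphism
  let r : alternatingGroup (Fin 5) →* Perm (Fin T.ph.m) :=
    ((finCongr hm.symm).permCongrHom.toMonoidHom).comp (alternatingGroup (Fin 5)).subtype
  have hr : Function.Injective r := ((finCongr hm.symm).permCongrHom.injective).comp Subtype.val_injective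
  have hrs : ∀ a, Perm.sign (r a) = 1 := fun a => (Perm.sign_permCongr _ _).trans (Perm.mem_alternatingGroup.1 a.2)
  let e : alternatingGroup (Fin 5) →* G := (MulAut.conj (c * T.gx)).toMonoidHom.comp (T.lift.comp r)
  have hrange : ∀ x, x ∈ e.range ↔ (c * T.gx)⁻¹ * x * (c * T.gx) ∈ T.K0 := by
    intro x
    constructor
    · rintro ⟨a, rfl⟩
      show (c * T.gx)⁻¹ * (c * T.gx * T.lift (r a) * (c * T.gx)⁻¹) * (c * T.gx) ∈ T.K0
      rw [show (c * T.gx)⁻¹ * (c * T.gx * T.lift (r a) * (c * T.gx)⁻¹) * (c * T.gx) = T.lift (r a) by group]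
      exact T.lift_even (hrs a)
    · intro hx
      obtain ⟨a, ha⟩ : ∃ a, r a = T.F ((c * T.gx)⁻¹ * x * (c * T.gx)) := by
        refine ⟨⟨(finCongr hm.symm).permCongrHom.symm (T.F ((c * T.gx)⁻¹ * x * (c * T.gx))), ?_⟩, ?_⟩
        · refine Perm.mem_alternatingGroup.2 ?_
          show Perm.sign ((finCongr hm.symm).symm.permCongr _) = 1
          exact (Perm.sign_permCongr _ _).trans (T.F_even hx)
        · exact (finCongr hm.symm).permCongrHom.apply_symm_apply _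
      refine ⟨a, ?_⟩
      show c * T.gx * T.lift (r a) * (c * T.gx)⁻¹ = x
      rw [ha, T.lift_spec.2.2 _ (Or.inl hx)]; group
  have hgback : ∀ x, T.Tri1 x → T.Tri2 (T.gx⁻¹ * x * T.gx) := by
    intro x hx
    rcases T.NA_six (inv_mem hgN) (Or.inl hx) with h | h
    · rw [inv_inv] at h
      have := hg1 _ h
      rw [show T.gx * (T.gx⁻¹ * x * T.gx) * T.gx⁻¹ = x by group] at this
      exact (T.tri_disj hx this).elim
    · rwa [inv_inv] at h
  have hlift : Function.Injective T.lift := fun a c h => by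
    have := congrArg T.F h
    rwa [T.lift_spec.2.1, T.lift_spec.2.1] at this
  refine ⟨e, fun a a' h => hr (hlift ((MulAut.conj _).injective h)), ?_, ?_, ?_⟩
  · refine (hrange _).2 ?_
    rw [show (c * T.gx)⁻¹ * T.k * (c * T.gx) = T.gx⁻¹ * (c⁻¹ * T.k * c) * T.gx by group, mul_assoc c⁻¹,
      T.k_spec.2.2.1 c hcK, inv_mul_cancel_left]
    refine T.odd_mem_K0' (fun x hx => ?_) ?_
    · have h2 := T.k_spec.2.2.1 _ (T.tri2_mem_K0 (hg1 x hx))
      calc x * (T.gx⁻¹ * T.k * T.gx) = T.gx⁻¹ * ((T.gx * x * T.gx⁻¹) * T.k) * T.gx := by group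
        _ = T.gx⁻¹ * (T.k * (T.gx * x * T.gx⁻¹)) * T.gx := by rw [← h2]
        _ = _ := by group
    · rw [show T.gx⁻¹ * T.k * T.gx = MulAut.conj T.gx⁻¹ T.k by simp, MulEquiv.orderOf_eq, T.k_spec.1]
      decide
  · refine (hrange _).2 ?_
    rw [show (c * T.gx)⁻¹ * T.b * (c * T.gx) = T.gx⁻¹ * (c⁻¹ * T.b * c) * T.gx by group, mul_assoc c⁻¹,
      T.b_comm_K0 hcK, inv_mul_cancel_left]
    exact T.tri2_mem_K0 (hgback _ (Or.inl rfl))
  intro σ' hσ' a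
  rw [hrange]
  set h := (c * T.gx)⁻¹ * T.lift σ' * (c * T.gx) with hh
  have hl : T.lift σ' ∈ T.N0 := T.C_le_N0 (T.lift_mem_C σ')
  have hN : h ∈ T.N0 := T.mem_N0_of_tri fun x hx => by
    have hw := hg1 x hx
    set w := T.gx * x * T.gx⁻¹ with hw'
    have hcw : c * w * c⁻¹ ∈ T.K0 := T.N0_conj hcN (T.tri2_mem_K0 hw)
    have h1 : T.Tri2 (c⁻¹ * (T.lift σ' * (c * w * c⁻¹) * (T.lift σ')⁻¹) * c) := by
      refine hall _ (T.N0_conj hl hcw) ?_ ?_ ?_
      · rw [show T.lift σ' * (c * w * c⁻¹) * (T.lift σ')⁻¹ * (T.lift σ' * (c * w * c⁻¹) * (T.lift σ')⁻¹) =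
          T.lift σ' * c * (w * w) * c⁻¹ * (T.lift σ')⁻¹ by group, P.A_sq (T.six.2 (Or.inr hw)).1]
        group
      · intro e1'
        exact (T.six.2 (Or.inr hw)).2.1 (conj_eq_one_iff.1 (conj_eq_one_iff.1 e1'))
      · rw [T.F_mul (mul_mem hl (T.K0_le_N0 hcw)) (inv_mem hl), T.F_mul hl (T.K0_le_N0 hcw), T.F_inv hl,
          T.lift_spec.2.1, Perm.mul_apply, Perm.mul_apply,
          Perm.inv_eq_iff_eq.2 (hσ' o rfl).symm, hmem _ hw, hσ' o rfl]
    have h2 : T.Tri1 (T.gx⁻¹ * (c⁻¹ * (T.lift σ' * (c * w * c⁻¹) * (T.lift σ')⁻¹) * c) * T.gx) := by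
      rcases T.NA_six (inv_mem hgN) (Or.inr h1) with h' | h'
      · rwa [inv_inv] at h'
      · rw [inv_inv] at h'
        have := hg2 _ h'
        rw [show T.gx * (T.gx⁻¹ * (c⁻¹ * (T.lift σ' * (c * w * c⁻¹) * (T.lift σ')⁻¹) * c) * T.gx) * T.gx⁻¹ =
          c⁻¹ * (T.lift σ' * (c * w * c⁻¹) * (T.lift σ')⁻¹) * c by group] at this
        exact (T.tri_disj this h1).elim
    rw [show h * x * h⁻¹ = T.gx⁻¹ * (c⁻¹ * (T.lift σ' * (c * w * c⁻¹) * (T.lift σ')⁻¹) * c) * T.gx by rw [hh, hw']; group]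
    exact h2
  show (c * T.gx)⁻¹ * (T.lift σ' * (c * T.gx * T.lift (r a) * (c * T.gx)⁻¹) * (T.lift σ')⁻¹) * (c * T.gx) ∈ T.K0
  rw [show (c * T.gx)⁻¹ * (T.lift σ' * (c * T.gx * T.lift (r a) * (c * T.gx)⁻¹) * (T.lift σ')⁻¹) * (c * T.gx) =
    h * T.lift (r a) * h⁻¹ by rw [hh]; group]
  exact T.N0_conj hN (T.lift_even (hrs a))

theorem has_five : T.HasFive := by
  rcases T.deg with h | h
  · exact T.five_of_four h
  · exact T.five_of_five h

end Two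

end Cfsg.Agent.MTwelve.SwapCase
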