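import Cfsg.Agent.Lib.Spor.MTwelve.SwapCase.Gee
import Cfsg.Agent.S3277

/-!
Four letters: the centraliser of the element of order three modulo that element is small or alternating of degree five.
-/

set_option autoImplicit false
set_option linter.style.haveILetI false
set_option maxRecDepth 100000

namespace Cfsg.Agent.MTwelve.SwapCase

open CentShape OrderFront Equiv

universe u

theorem perm_three_cent : ∀ w : Perm (Fin 4), w * w * w = 1 → w ≠ 1 → ∀ s : Perm (Fin 4), s * w = w * s →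
    s = 1 ∨ s = w ∨ s = w * w := by decide +kernel

variable {G : Type u} [Group G] [Finite G] {z : G} {P : Par z}

namespace Two

variable (T : Two P)

theorem k_moves {t : G} (ht : T.Tri1 t) : T.k * t * T.k⁻¹ ≠ t := fun e => by
  obtain ⟨hA, h1, -⟩ := T.six.2 (Or.inl ht)
  exact h1 (T.A_fix hA (T.tri1_comm_K0 ht T.y_mem_K0) (mul_inv_eq_iff_eq_mul.1 e).symm)

theorem tri1_two {a c x : G} (ha : T.Tri1 a) (hc : T.Tri1 c) (hne : a ≠ c) (hx : T.Tri1 x) :
    x = a ∨ x = c ∨ x = a * c := by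
  have hb2 : T.b * T.b = 1 := P.A_sq T.bmem.1
  have hv2 : T.v * T.v = 1 := P.A_sq T.bmem.2.2.1
  have e3 : T.v * T.b = T.v' := by rw [P.A_comm T.bmem.2.2.1 T.bmem.1, T.b_mul_v]
  have e1' : T.b * T.v' = T.v := by rw [← T.b_mul_v, ← mul_assoc, hb2, one_mul]
  have e2 : T.v' * T.b = T.v := by rw [P.A_comm T.bmem.2.2.2.1 T.bmem.1, e1']
  have e4 : T.v * T.v' = T.b := by rw [← e3, ← mul_assoc, hv2, one_mul]
  have e5 : T.v' * T.v = T.b := by rw [P.A_comm T.bmem.2.2.2.1 T.bmem.2.2.1, e4]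
  rcases ha with rfl | rfl | rfl <;> rcases hc with rfl | rfl | rfl <;> rcases hx with rfl | rfl | rfl <;>
    first
      | exact absurd rfl hne
      | exact Or.inl rfl
      | exact Or.inr (Or.inl rfl)
      | exact Or.inr (Or.inr T.b_mul_v.symm)
      | exact Or.inr (Or.inr e1'.symm)
      | exact Or.inr (Or.inr e2.symm)
      | exact Or.inr (Or.inr e3.symm)
      | exact Or.inr (Or.inr e4.symm)
      | exact Or.inr (Or.inr e5.symm)

theorem tri1_orbit {x : G} (hx : T.Tri1 x) :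
    x = T.b ∨ x = T.k * T.b * T.k⁻¹ ∨ x = T.k * T.k * T.b * (T.k * T.k)⁻¹ := by
  have h1 := T.k_spec.2.2.2.2.2.1
  have hr := h1 _ (Or.inl rfl : T.Tri1 T.b)
  have hne : T.b ≠ T.k * T.b * T.k⁻¹ := fun e => T.k_moves (Or.inl rfl) e.symm
  have e : T.k * T.k * T.b * (T.k * T.k)⁻¹ = T.k * (T.k * T.b * T.k⁻¹) * T.k⁻¹ := by group
  rcases T.tri1_two (Or.inl rfl) hr hne hx with h | h | h
  · exact Or.inl h
  · exact Or.inr (Or.inl h)
  · right; right
    rw [e]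
    rcases T.tri1_two (Or.inl rfl) hr hne (h1 _ hr) with g | g | g
    · exfalso
      have := congrArg (fun u => T.k * u * T.k⁻¹) g
      rw [show T.k * (T.k * (T.k * T.b * T.k⁻¹) * T.k⁻¹) * T.k⁻¹ = (T.k * T.k * T.k) * T.b * (T.k * T.k * T.k)⁻¹ by group,
        T.k_cube] at this
      simp only [one_mul, inv_one, mul_one] at this
      exact hne this
    · exact absurd g (T.k_moves hr)
    · rw [g, h]

/-- The centraliser of `y` in that of `b`, for four letters. -/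
theorem cent_by (hm : T.ph.m = 4) {c : G} (hc : c ∈ T.C) (hy : c * T.y = T.y * c) :
    ∃ (t : G) (i : ℕ), (t = 1 ∨ T.Tri1 t) ∧ c = t * T.y ^ i := by
  have hyN := T.K0_le_N0 T.y_mem_K0
  have hcN := T.C_le_N0 hc
  have key : ∀ m, m = 4 → ∀ w : Perm (Fin m), w * w * w = 1 → w ≠ 1 → ∀ s : Perm (Fin m), s * w = w * s →
      s = 1 ∨ s = w ∨ s = w * w := by
    rintro m rfl
    exact perm_three_cent
  obtain ⟨i, hi⟩ : ∃ i : ℕ, T.F c = T.F (T.y ^ i) := by
    rcases key _ hm (T.F T.y) (by rw [← T.F_mul hyN hyN, ← T.F_mul (mul_mem hyN hyN) hyN, T.y_cube, T.F_one])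
      (fun e => T.y_ne (T.F_inj T.y_mem_K0 e)) (T.F c) (by rw [← T.F_mul hcN hyN, ← T.F_mul hyN hcN, hy]) with e | e | e
    · exact ⟨0, by rw [pow_zero, T.F_one, e]⟩
    · exact ⟨1, by rw [pow_one, e]⟩
    · exact ⟨2, by rw [pow_two, T.F_mul hyN hyN, e]⟩
  refine ⟨c * (T.y ^ i)⁻¹, i, T.F_ker (mul_mem hc (inv_mem (pow_mem T.y_mem_C i))) ?_, by rw [inv_mul_cancel_right]⟩
  rw [T.F_mul hcN (inv_mem (pow_mem hyN i)), T.F_inv (pow_mem hyN i), hi, mul_inv_cancel]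

/-- the small possibility for the centraliser -/
def Small : Prop :=
  ∀ c, c * T.y = T.y * c → ∃ (j i : ℕ) (t : G), (t = 1 ∨ T.Tri1 t) ∧ c = T.k ^ j * t * T.y ^ i

theorem small_or_five (hm : T.ph.m = 4) : T.Small ∨
    ∃ π : ↥(Subgroup.centralizer ({T.y} : Set G)) →* alternatingGroup (Fin 5), Function.Surjective π ∧
      ∀ c, π c = 1 ↔ (c : G) ∈ Subgroup.zpowers T.y := by
  classical
  set Cy := Subgroup.centralizer ({T.y} : Set G)
  have hCy : ∀ c, c ∈ Cy ↔ c * T.y = T.y * c := fun c => Subgroup.mem_centralizer_singleton_iff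
  set B0 := (Subgroup.zpowers T.y).subgroupOf Cy
  haveI : B0.Normal := ⟨fun a ha g => by
    obtain ⟨n, hn⟩ := Subgroup.mem_zpowers_iff.1 (show (a : G) ∈ Subgroup.zpowers T.y from ha)
    show ((g * a * g⁻¹ : Cy) : G) ∈ Subgroup.zpowers T.y
    push_cast
    rw [← hn, ((show Commute (g : G) T.y from (hCy _).1 g.2).zpow_right n).eq, mul_inv_cancel_right]
    exact Subgroup.mem_zpowers_iff.2 ⟨n, rfl⟩⟩
  set π := QuotientGroup.mk' B0
  have hker : ∀ c : Cy, π c = 1 ↔ (c : G) ∈ Subgroup.zpowers T.y := fun c => QuotientGroup.eq_one_iff c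
  have hsurj : Function.Surjective π := QuotientGroup.mk'_surjective B0
  have hsq : ∀ u : G, u ∈ Subgroup.zpowers T.y → u * u = 1 → u = 1 := by
    intro u hu h2
    have h := orderOf_dvd_of_pow_eq_one (show u ^ 2 = 1 by rw [sq, h2])
    have h' := (Subgroup.zpowers T.y).orderOf_dvd_natCard hu
    rw [Nat.card_zpowers, T.y_spec.2.1] at h'
    exact orderOf_eq_one_iff.1 (Nat.eq_one_of_dvd_one (Nat.dvd_gcd h h'))
  have htC : ∀ t, (t = 1 ∨ T.Tri1 t) → t ∈ Cy := fun t ht => (hCy _).2 (T.four_comm ht T.y_mem_K0)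
  have htA : ∀ t, (t = 1 ∨ T.Tri1 t) → t ∈ P.A := by
    rintro t (rfl | ht)
    exacts [one_mem _, (T.six.2 (Or.inl ht)).1]
  have hinj : ∀ (t t' : G) (ht : t = 1 ∨ T.Tri1 t) (ht' : t' = 1 ∨ T.Tri1 t'),
      π ⟨t, htC t ht⟩ = π ⟨t', htC t' ht'⟩ → t = t' := by
    intro t t' ht ht' e
    have h1 : π (⟨t, htC t ht⟩ * ⟨t', htC t' ht'⟩⁻¹) = 1 := by rw [map_mul, e, map_inv, mul_inv_cancel]
    have h2 := hsq (t * t'⁻¹) ((hker _).1 h1) (P.A_sq (mul_mem (htA t ht) (inv_mem (htA t' ht'))))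
    exact mul_inv_eq_one.1 h2
  let bC : Cy := ⟨T.b, htC _ (Or.inr (Or.inl rfl))⟩
  let kC : Cy := ⟨T.k, (hCy _).2 T.k_y⟩
  set x := π bC with hx
  -- the centraliser of the image of the involution
  have hcent : ∀ q, q * x = x * q → ∃ (t : G) (ht : t = 1 ∨ T.Tri1 t), q = π ⟨t, htC t ht⟩ := by
    intro q hq
    obtain ⟨c, rfl⟩ := hsurj q
    have h1 : π (c * bC * c⁻¹ * bC⁻¹) = 1 := by
      rw [map_mul, map_mul, map_mul, map_inv, map_inv, ← hx, hq, mul_inv_cancel_right, mul_inv_cancel]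
    obtain ⟨n, hn⟩ := Subgroup.mem_zpowers_iff.1 ((hker _).1 h1)
    push_cast at hn
    have hcom : Commute T.b (T.y ^ n) := (show Commute T.b T.y from T.b_comm_K0 T.y_mem_K0).zpow_right n
    have e : (c : G) * T.b * (c : G)⁻¹ = T.y ^ n * T.b := by
      rw [hn]; show _ = (c : G) * T.b * (c : G)⁻¹ * T.b⁻¹ * T.b
      group
    have h2 : T.y ^ n = 1 := by
      refine hsq _ (Subgroup.mem_zpowers_iff.2 ⟨n, rfl⟩) ?_
      have := congrArg (fun u => u * u) e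
      rw [show (c : G) * T.b * (c : G)⁻¹ * ((c : G) * T.b * (c : G)⁻¹) = (c : G) * (T.b * T.b) * (c : G)⁻¹ by group,
        P.A_sq T.bmem.1, mul_one, mul_inv_cancel, mul_assoc (T.y ^ n), ← mul_assoc T.b, hcom.eq, mul_assoc (T.y ^ n) T.b,
        P.A_sq T.bmem.1, mul_one] at this
      exact this.symm
    rw [h2, one_mul, mul_inv_eq_iff_eq_mul] at e
    obtain ⟨t, i, ht, hc⟩ := T.cent_by hm (T.mem_C.2 e) ((hCy _).1 c.2)
    refine ⟨t, ht, ?_⟩
    have : c = ⟨t, htC t ht⟩ * (⟨T.y, (hCy _).2 rfl⟩ : Cy) ^ i := Subtype.ext (by push_cast; exact hc)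
    rw [this, map_mul, map_pow, (hker ⟨T.y, (hCy _).2 rfl⟩).2 (Subgroup.mem_zpowers _), one_pow, mul_one]
  set S : Finset G := {1, T.b, T.v, T.v'} with hS
  have hSm : ∀ t, t ∈ S ↔ (t = 1 ∨ T.Tri1 t) := by intro t; simp [hS, Tri1]
  have hS4 : S.card = 4 := by
    have : S = ([e1, eb, ev0, ev1].toFinset.image P.ev) := by
      ext u
      simp [hS, b, v, v', P.ev_one, eq_comm]
    rw [this, Finset.card_image_of_injective _ P.inj]
    decide +kernel
  let j : S → ↥(Subgroup.centralizer ({x} : Set (Cy ⧸ B0))) := fun t => ⟨π ⟨t, htC t ((hSm t).1 t.2)⟩,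
    Subgroup.mem_centralizer_singleton_iff.2 (by
      rw [hx, ← map_mul, ← map_mul]
      exact congrArg π (Subtype.ext (P.A_comm (htA t ((hSm t).1 t.2)) T.bmem.1)))⟩
  have hj : Function.Bijective j := ⟨fun a c e => Subtype.ext (hinj _ _ ((hSm _).1 a.2) ((hSm _).1 c.2) (congrArg Subtype.val e)), fun ⟨q, hq⟩ => by
    obtain ⟨t, ht, rfl⟩ := hcent q (Subgroup.mem_centralizer_singleton_iff.1 hq)
    exact ⟨⟨t, (hSm t).2 ht⟩, rfl⟩⟩
  have hC4 : Nat.card ↥(Subgroup.centralizer ({x} : Set (Cy ⧸ B0))) = 4 := by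
    rw [← Nat.card_congr (Equiv.ofBijective j hj), Nat.card_eq_finsetCard, hS4]
  have hCe : ∀ q ∈ Subgroup.centralizer ({x} : Set (Cy ⧸ B0)), q ^ 2 = 1 := by
    intro q hq
    obtain ⟨t, ht, rfl⟩ := hcent q (Subgroup.mem_centralizer_singleton_iff.1 hq)
    rw [sq, ← map_mul, show (⟨t, htC t ht⟩ * ⟨t, htC t ht⟩ : Cy) = 1 from Subtype.ext (P.A_sq (htA t ht)), map_one]
  have hxo : orderOf x = 2 := by
    refine orderOf_eq_prime (hCe x (Subgroup.mem_centralizer_singleton_iff.2 rfl)) fun e => T.b_ne ?_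
    exact hinj T.b 1 (Or.inr (Or.inl rfl)) (Or.inl rfl) (e.trans (map_one π).symm)
  have hk3 : (π kC) ^ 3 = 1 := by
    rw [← map_pow, show kC ^ 3 = 1 from Subtype.ext (by push_cast; rw [pow_three']; exact T.k_cube), map_one]
  have hnc : ¬ Cfsg.HasNormalPComplement 2 (Cy ⧸ B0) := by
    haveI : Fact (Nat.Prime 2) := ⟨Nat.prime_two⟩
    rintro ⟨S2, N, hN, hc⟩
    have hkN : π kC ∈ N := by
      haveI := hN
      have h1 : (QuotientGroup.mk' N (π kC)) ^ 3 = 1 := by rw [← map_pow, hk3, map_one]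
      obtain ⟨n, hn⟩ := IsPGroup.iff_card.1 S2.isPGroup'
      have h2 : (QuotientGroup.mk' N (π kC)) ^ (2 ^ n) = 1 := by
        rw [← hn, ← hc.symm.index_eq_card]
        exact pow_card_eq_one'
      have := Nat.dvd_gcd (orderOf_dvd_of_pow_eq_one h1) (orderOf_dvd_of_pow_eq_one h2)
      rw [((show Nat.Coprime 3 2 by norm_num).pow_right n).gcd_eq_one, Nat.dvd_one, orderOf_eq_one_iff] at this
      exact (QuotientGroup.eq_one_iff _).1 this
    have hrT := T.k_spec.2.2.2.2.2.1 _ (Or.inl rfl : T.Tri1 T.b)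
    set r := T.k * T.b * T.k⁻¹ with hr
    have hq : π (⟨r, htC _ (Or.inr hrT)⟩ * bC⁻¹) ∈ N := by
      have e : (⟨r, htC _ (Or.inr hrT)⟩ * bC⁻¹ : Cy) = kC * (bC * kC⁻¹ * bC⁻¹) := Subtype.ext (by
        push_cast
        rw [hr]
        show T.k * T.b * T.k⁻¹ * T.b⁻¹ = T.k * (T.b * T.k⁻¹ * T.b⁻¹)
        group)
      rw [e, map_mul, map_mul, map_mul, map_inv, map_inv]
      exact mul_mem hkN (hN.conj_mem _ (inv_mem hkN) _)
    have hq2 : orderOf (π (⟨r, htC _ (Or.inr hrT)⟩ * bC⁻¹)) = 2 := by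
      refine orderOf_eq_prime ?_ fun e => T.k_spec.2.2.2.2.1 (hinj r T.b (Or.inr hrT) (Or.inr (Or.inl rfl)) ?_)
      · rw [← map_pow, show (⟨r, htC _ (Or.inr hrT)⟩ * bC⁻¹ : Cy) ^ 2 = 1 from Subtype.ext (by
          push_cast
          rw [sq]
          exact P.A_sq (mul_mem (htA _ (Or.inr hrT)) (inv_mem T.bmem.1))), map_one]
      · rwa [map_mul, map_inv, mul_inv_eq_one] at e
    have hd := N.orderOf_dvd_natCard hq
    rw [hq2] at hd
    exact S2.not_dvd_index (hc.index_eq_card.symm ▸ hd)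
  by_cases hne : ∀ E : Subgroup (Cy ⧸ B0), E.Normal → Cfsg.IsElementaryAbelian 2 E → Nat.card ↥E ≠ 2 ∧ Nat.card ↥E ≠ 4
  · obtain ⟨e⟩ := S3277.result x hxo hC4 hCe hnc hne
    exact Or.inr ⟨e.toMonoidHom.comp π, e.surjective.comp hsurj, fun c => by
      show e (π c) = 1 ↔ _
      rw [MulEquiv.map_eq_one_iff]; exact hker c⟩
  left
  push Not at hne
  obtain ⟨E, hEn, ⟨hEc, hE2⟩, hEcard⟩ := hne
  have hE24 : Nat.card E = 2 ∨ Nat.card E = 4 := (Classical.em (Nat.card E = 2)).imp_right hEcard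
  have hx2 : x * x = 1 := by rw [← sq]; exact hxo ▸ pow_orderOf_eq_one x
  have hxi : x⁻¹ = x := inv_eq_of_mul_eq_one_right hx2
  obtain ⟨e, heE, he1⟩ : ∃ e ∈ E, e ≠ 1 := by
    by_contra h
    push Not at h
    have : E = ⊥ := (Subgroup.eq_bot_iff_forall _).2 h
    rw [this, Subgroup.card_bot] at hE24
    omega
  have hEsq : ∀ e ∈ E, e * e = 1 := fun e he => by rw [← sq]; exact hE2 e he
  obtain ⟨f, hfE, hf1, hfx⟩ : ∃ f ∈ E, f ≠ 1 ∧ f * x = x * f := by
    have hxe : x * e * x⁻¹ ∈ E := hEn.conj_mem e heE x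
    by_cases h : x * e * x⁻¹ * e = 1
    · refine ⟨e, heE, he1, ?_⟩
      have := eq_inv_of_mul_eq_one_left h
      rw [inv_eq_of_mul_eq_one_right (hEsq e heE), mul_inv_eq_iff_eq_mul] at this
      exact this.symm
    · refine ⟨_, mul_mem hxe heE, h, ?_⟩
      have h3 := hEsq _ (mul_mem hxe heE)
      have h4 : x * (x * e * x⁻¹ * e) * x⁻¹ = x * e * x⁻¹ * e := by
        calc x * (x * e * x⁻¹ * e) * x⁻¹ = (x * x) * e * (x⁻¹ * e * x⁻¹) := by group
          _ = e * (x * e * x⁻¹) := by rw [hx2, hxi]; simp [mul_assoc]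
          _ = (x * e * x⁻¹ * e)⁻¹ := by
            rw [mul_inv_rev, inv_eq_of_mul_eq_one_right (hEsq e heE), inv_eq_of_mul_eq_one_right (hEsq _ hxe)]
          _ = _ := inv_eq_of_mul_eq_one_right h3
      rw [mul_inv_eq_iff_eq_mul] at h4
      exact h4.symm
  obtain ⟨t, ht, rfl⟩ := hcent f hfx
  have htT : T.Tri1 t := ht.resolve_left fun e => by subst e; exact hf1 (map_one π)
  have ht' := T.k_spec.2.2.2.2.2.1 _ htT
  have ht'E : π ⟨T.k * t * T.k⁻¹, htC _ (Or.inr ht')⟩ ∈ E := by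
    have e : (⟨T.k * t * T.k⁻¹, htC _ (Or.inr ht')⟩ : Cy) = kC * ⟨t, htC t ht⟩ * kC⁻¹ := Subtype.ext rfl
    rw [e, map_mul, map_mul, map_inv]
    exact hEn.conj_mem _ hfE _
  have hall : ∀ (u : G) (hu : u = 1 ∨ T.Tri1 u), π ⟨u, htC u hu⟩ ∈ E := by
    intro u hu
    rcases hu with rfl | hu
    · exact (show (⟨1, htC 1 (Or.inl rfl)⟩ : Cy) = 1 from rfl) ▸ (map_one π).symm ▸ E.one_mem
    rcases T.tri1_two htT ht' (fun e => T.k_moves htT e.symm) hu with rfl | rfl | rfl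
    · exact hfE
    · exact ht'E
    · have e : (⟨t * (T.k * t * T.k⁻¹), htC _ (Or.inr hu)⟩ : Cy) =
          ⟨t, htC t ht⟩ * ⟨T.k * t * T.k⁻¹, htC _ (Or.inr ht')⟩ := rfl
      rw [e, map_mul]
      exact mul_mem hfE ht'E
  have hle : Subgroup.centralizer ({x} : Set (Cy ⧸ B0)) ≤ E := fun q hq => by
    obtain ⟨u, hu, rfl⟩ := hcent q (Subgroup.mem_centralizer_singleton_iff.1 hq)
    exact hall u hu
  have hEeq : Subgroup.centralizer ({x} : Set (Cy ⧸ B0)) = E := by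
    refine Subgroup.eq_of_le_of_card_ge hle ?_
    rw [hC4]
    rcases hE24 with h | h <;> omega
  intro c hc
  let cC : Cy := ⟨c, (hCy c).2 hc⟩
  have h1 : π (cC * bC * cC⁻¹) ∈ E := by
    rw [map_mul, map_mul, map_inv]
    exact hEn.conj_mem _ (hle (Subgroup.mem_centralizer_singleton_iff.2 rfl)) _
  rw [← hEeq] at h1
  obtain ⟨u, hu, he⟩ := hcent _ (Subgroup.mem_centralizer_singleton_iff.1 h1)
  have h2 : π (cC * bC * cC⁻¹ * (⟨u, htC u hu⟩ : Cy)⁻¹) = 1 := by rw [map_mul, he, map_inv, mul_inv_cancel]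
  obtain ⟨n, hn⟩ := Subgroup.mem_zpowers_iff.1 ((hker _).1 h2)
  have hn' : T.y ^ n = c * T.b * c⁻¹ * u⁻¹ := by
    rw [hn]; rfl
  have hcom : Commute u (T.y ^ n) := (show Commute u T.y from T.four_comm hu T.y_mem_K0).zpow_right n
  have e' : c * T.b * c⁻¹ = T.y ^ n * u := by rw [hn', inv_mul_cancel_right]
  have h3 : T.y ^ n = 1 := by
    refine hsq _ (Subgroup.mem_zpowers_iff.2 ⟨n, rfl⟩) ?_
    have := congrArg (fun w => w * w) e'
    rw [show c * T.b * c⁻¹ * (c * T.b * c⁻¹) = c * (T.b * T.b) * c⁻¹ by group, P.A_sq T.bmem.1, mul_one,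
      mul_inv_cancel, mul_assoc (T.y ^ n), ← mul_assoc u, hcom.eq, mul_assoc (T.y ^ n) u, P.A_sq (htA u hu),
      mul_one] at this
    exact this.symm
  rw [h3, one_mul] at e'
  have huT : T.Tri1 u := hu.resolve_left fun e => by
    rw [e] at e'
    exact T.b_ne (conj_eq_one_iff.1 e')
  obtain ⟨j, hj'⟩ : ∃ j : ℕ, u = T.k ^ j * T.b * (T.k ^ j)⁻¹ := by
    rcases T.tri1_orbit huT with e | e | e
    · exact ⟨0, by simp [e]⟩
    · exact ⟨1, by simp [e]⟩
    · exact ⟨2, by rw [e, pow_two]⟩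
  have hkj : Commute (T.k ^ j) T.y := (show Commute T.k T.y from T.k_y).pow_left j
  have hd : (T.k ^ j)⁻¹ * c ∈ T.C := T.mem_C.2 (mul_inv_eq_iff_eq_mul.1 (by
    calc (T.k ^ j)⁻¹ * c * T.b * ((T.k ^ j)⁻¹ * c)⁻¹ = (T.k ^ j)⁻¹ * (c * T.b * c⁻¹) * T.k ^ j := by group
      _ = T.b := by rw [e', hj']; group))
  obtain ⟨u', i, hu', hcu⟩ := T.cent_by hm hd (hkj.inv_left.mul_left hc).eq
  exact ⟨j, i, u', hu', by rw [mul_assoc, ← hcu, mul_inv_cancel_left]⟩

end Two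

end Cfsg.Agent.MTwelve.SwapCase
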