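import Cfsg.Agent.Lib.Spor.MTwelve.SwapCase.Classes

/-!
The element of order three cycling the first triangle and centralising the A4/A5 subgroup, and the involutions of the
first class exchanging it with the element cycling the second triangle.
-/

set_option autoImplicit false
set_option linter.style.haveILetI false
set_option maxRecDepth 100000

namespace Cfsg.Agent.MTwelve.SwapCase

open CentShape OrderFront

universe u

variable {G : Type u} [Group G] [Finite G] {z : G} {P : Par z}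

namespace Two

variable (T : Two P)

/-- an element of the central centraliser exchanging the triangles -/
noncomputable def gx (_ : Two P) : G := P.ev exists_exch.choose

theorem gx_spec : T.gx ∈ P.NA ∧ T.gx * T.b * T.gx⁻¹ = T.b' ∧ T.gx * T.gx ∈ P.A ∧ T.gx * z = z * T.gx ∧
    (∀ x, T.Tri1 x → T.Tri2 (T.gx * x * T.gx⁻¹)) ∧ ∀ x, T.Tri2 x → T.Tri1 (T.gx * x * T.gx⁻¹) := by
  obtain ⟨h1, h2⟩ := exists_exch.choose_spec
  have hN : T.gx ∈ P.NA := (P.NA_cent (P.commute_z _)).2 ⟨_, rfl, h1⟩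
  have hb : T.gx * T.b * T.gx⁻¹ = T.b' := by
    rw [gx, b, P.ev_cj, h2]; rfl
  exact ⟨hN, hb, by rw [gx, P.mul]; exact P.ev_mem_A.2 (inS_sq _ h1), P.commute_z _,
    T.NA_swap hN (by rw [hb]; exact Or.inl rfl)⟩

theorem A_decomp {a : G} (ha : a ∈ P.A) : ∃ t w, (t = 1 ∨ T.Tri1 t) ∧ w ∈ T.V2 ∧ a = t * w := by
  obtain ⟨X, rfl, hX⟩ := ha
  obtain ⟨V, hV, W, hW, rfl⟩ := fourA X hX
  refine ⟨P.ev V, P.ev W, ?_, ⟨W, rfl, List.contains_iff_mem.2 hW⟩, (P.mul V W).symm⟩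
  simp only [List.mem_cons, List.not_mem_nil, or_false] at hV
  rcases hV with rfl | rfl | rfl | rfl
  exacts [Or.inl P.ev_one, Or.inr (Or.inl rfl), Or.inr (Or.inr (Or.inl rfl)), Or.inr (Or.inr (Or.inr rfl))]

theorem A_of_fix {w : G} (h1 : ∀ x, T.Tri1 x → w * x = x * w) (h2 : ∀ x, T.Tri2 x → w * x = x * w) : w ∈ P.A := by
  refine P.A_self_cent fun a ha => ?_
  obtain ⟨t, v, ht, hv, rfl⟩ := T.A_decomp ha
  have e1 : Commute t w := by
    rcases ht with rfl | ht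
    · exact Commute.one_left w
    · exact (h1 t ht).symm
  have e2 : Commute v w := by
    rcases T.V2_cases hv with rfl | hv
    · exact Commute.one_left w
    · exact (h2 v hv).symm
  exact (e1.mul_left e2).eq

theorem A_inter_K0 {a : G} (ha : a ∈ P.A) (hK : a ∈ T.K0) : a ∈ T.V2 := by
  obtain ⟨t, w, ht, hw, rfl⟩ := T.A_decomp ha
  have htK : t ∈ T.K0 := by simpa using mul_mem hK (inv_mem (T.V2_le_K0 hw))
  rw [T.F_inj htK (T.F_four ht), one_mul]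
  exact hw

theorem y_cube : T.y * T.y * T.y = 1 := by rw [← pow_three', ← T.y_spec.2.1, pow_orderOf_eq_one]

theorem y_ne : T.y ≠ 1 := fun h => by
  have := T.y_spec.2.1
  rw [h, orderOf_one] at this
  omega

theorem y_back : T.y⁻¹ * T.b' * T.y = T.p' ∧ T.y⁻¹ * T.p * T.y = T.b' ∧ T.y⁻¹ * T.p' * T.y = T.p := by
  obtain ⟨-, -, -, -, y1, y2, y3⟩ := T.y_spec
  refine ⟨?_, ?_, ?_⟩
  · rw [← y3]; group
  · rw [← y1]; group
  · rw [← y2]; group

theorem y_fix_V2 {w : G} (hw : w ∈ T.V2) (h : w * T.y = T.y * w) : w = 1 := by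
  obtain ⟨-, -, -, -, y1, y2, y3⟩ := T.y_spec
  have hne : ∀ {x x' : El}, x ≠ x' → P.ev x ≠ P.ev x' := fun hx e => hx (P.inj e)
  rcases T.V2_cases hw with e | e | e | e
  · exact e
  all_goals
    exfalso
    have h' : T.y * w * T.y⁻¹ = w := by rw [← h, mul_inv_cancel_right]
    rw [e] at h'
  · exact hne (by decide : ep0 ≠ eb') (y1.symm.trans h')
  · exact hne (by decide : ep1 ≠ ep0) (y2.symm.trans h')
  · exact hne (by decide : eb' ≠ ep1) (y3.symm.trans h')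

theorem uu_inv : T.uu⁻¹ = T.uu := inv_eq_of_mul_eq_one_right T.uu_facts.1

theorem uu_mem_NA : T.uu ∈ P.NA := (P.NA_cent (P.commute_z _)).2 ⟨_, rfl, eu_facts.2.1⟩

theorem uu_swap : T.uu * T.b * T.uu⁻¹ = T.b ∧ T.uu * T.v' * T.uu⁻¹ = T.v ∧ T.uu * T.b' * T.uu⁻¹ = T.b' ∧
    T.uu * T.p' * T.uu⁻¹ = T.p := by
  obtain ⟨h1, h2, h3, h4, -, -⟩ := T.uu_facts
  refine ⟨by rw [T.b_central T.uu_mem_C, mul_inv_cancel_right], ?_, by rw [h3, mul_inv_cancel_right], ?_⟩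
  · rw [← h2, T.uu_inv,
      show T.uu * (T.uu * T.v * T.uu) * T.uu = (T.uu * T.uu) * T.v * (T.uu * T.uu) by group, h1]; simp
  · rw [← h4, T.uu_inv,
      show T.uu * (T.uu * T.p * T.uu) * T.uu = (T.uu * T.uu) * T.p * (T.uu * T.uu) by group, h1]; simp

theorem exists_k : ∃ k t, (t = 1 ∨ t = T.v) ∧ k = t * (T.gx * T.y * T.gx⁻¹) * t ∧ orderOf k = 3 ∧ k ∈ P.NA ∧
    (∀ a ∈ T.K0, k * a = a * k) ∧ T.uu * k * T.uu⁻¹ = k⁻¹ ∧ k * T.b * k⁻¹ ≠ T.b ∧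
    (∀ x, T.Tri1 x → T.Tri1 (k * x * k⁻¹)) ∧ k * T.b * k * T.b * k * T.b = 1 := by
  classical
  obtain ⟨hgN, hgb, hgA, -, hg1, hg2⟩ := T.gx_spec
  obtain ⟨hyN, hyo, hyb, hyv, -, -, -⟩ := T.y_spec
  set k0 := T.gx * T.y * T.gx⁻¹ with hk0
  have hk0N : k0 ∈ P.NA := mul_mem (mul_mem hgN hyN) (inv_mem hgN)
  have ho : orderOf k0 = 3 := by
    rw [hk0, show T.gx * T.y * T.gx⁻¹ = MulAut.conj T.gx T.y from rfl, MulEquiv.orderOf_eq, hyo]
  have hc3 : k0 * k0 * k0 = 1 := by rw [← pow_three', ← ho, pow_orderOf_eq_one]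
  -- the second triangle is fixed
  have hfix1 : ∀ x, T.Tri1 x → T.y * x = x * T.y := by
    rintro x (rfl | rfl | rfl)
    · exact hyb
    · exact hyv
    · rw [← T.b_mul_v, ← mul_assoc, hyb, mul_assoc, hyv, mul_assoc]
  have hk2 : ∀ x, T.Tri2 x → k0 * x = x * k0 := by
    intro x hx
    have hgg : T.Tri1 (T.gx⁻¹ * x * T.gx) := by
      rcases T.NA_six (inv_mem hgN) (Or.inr hx) with h | h
      · rwa [inv_inv] at h
      · rw [inv_inv] at h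
        have := hg2 _ h
        rw [show T.gx * (T.gx⁻¹ * x * T.gx) * T.gx⁻¹ = x by group] at this
        exact (T.tri_disj this hx).elim
    calc k0 * x = T.gx * (T.y * (T.gx⁻¹ * x * T.gx)) * T.gx⁻¹ := by rw [hk0]; group
      _ = T.gx * ((T.gx⁻¹ * x * T.gx) * T.y) * T.gx⁻¹ := by rw [hfix1 _ hgg]
      _ = x * k0 := by rw [hk0]; group
  have hk1 : ∀ x, T.Tri1 x → T.Tri1 (k0 * x * k0⁻¹) := by
    intro x hx
    refine (T.NA_six hk0N (Or.inl hx)).resolve_right fun h => ?_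
    have h' := hk2 _ h
    have e : k0 * x * k0⁻¹ = x :=
      mul_left_cancel (mul_right_cancel (show k0 * (k0 * x * k0⁻¹) * k0⁻¹ = k0 * x * k0⁻¹ by
        rw [h', mul_inv_cancel_right]))
    exact T.tri_disj hx (e ▸ h)
  have hkN0 : k0 ∈ T.N0 := T.mem_N0_of_tri hk1
  have hb'K : T.b' ∈ T.K0 := T.tri2_mem_K0 (Or.inl rfl)
  have hF : T.F k0 = 1 := by
    by_contra hne
    have key : ∀ s : Equiv.Perm (Fin T.ph.m), s * s * s = 1 → s ≠ 1 →
        ∀ a : Equiv.Perm (Fin T.ph.m), s * a = a * s → a * a = 1 → Equiv.Perm.sign a = 1 → a = 1 :=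
      two_degrees (Q := fun m => ∀ s : Equiv.Perm (Fin m), s * s * s = 1 → s ≠ 1 →
        ∀ a : Equiv.Perm (Fin m), s * a = a * s → a * a = 1 → Equiv.Perm.sign a = 1 → a = 1) T.deg
        perm_three_fix.1 perm_three_fix.2
    have := key (T.F k0) (by rw [← T.F_mul hkN0 hkN0, ← T.F_mul (mul_mem hkN0 hkN0) hkN0, hc3, T.F_one]) hne
      (T.F T.b') (by rw [← T.F_mul hkN0 (T.K0_le_N0 hb'K), ← T.F_mul (T.K0_le_N0 hb'K) hkN0, hk2 _ (Or.inl rfl)])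
      (by rw [← T.F_mul (T.K0_le_N0 hb'K) (T.K0_le_N0 hb'K), P.A_sq T.bmem.2.1, T.F_one]) (T.F_even hb'K)
    exact (T.six.2 (Or.inr (Or.inl rfl))).2.1 (T.F_inj hb'K this)
  have hkK : ∀ a ∈ T.K0, k0 * a = a * k0 := fun a ha => T.comm_of_F hkN0 ha (by rw [hF, one_mul, mul_one])
  have hkb : k0 * T.b * k0⁻¹ ≠ T.b := by
    intro e
    have hK : k0 ∈ T.K0 := T.odd_mem_K0 (T.mem_C.2 (mul_inv_eq_iff_eq_mul.1 e)) (by rw [ho]; decide)
    rw [T.F_inj hK hF, orderOf_one] at ho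
    omega
  -- the cycle on the first triangle
  obtain ⟨r, hr⟩ : ∃ r, k0 * T.b * k0⁻¹ = r := ⟨_, rfl⟩
  obtain ⟨s, hs⟩ : ∃ s, k0 * r * k0⁻¹ = s := ⟨_, rfl⟩
  have hr1 : T.Tri1 r := hr ▸ hk1 _ (Or.inl rfl)
  have hs1 : T.Tri1 s := hs ▸ hk1 _ hr1
  have hrb : r ≠ T.b := hr ▸ hkb
  have h3x : ∀ x, k0 * (k0 * (k0 * x * k0⁻¹) * k0⁻¹) * k0⁻¹ = x := fun x => by
    calc k0 * (k0 * (k0 * x * k0⁻¹) * k0⁻¹) * k0⁻¹ = (k0 * k0 * k0) * x * (k0 * k0 * k0)⁻¹ := by group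
      _ = x := by rw [hc3]; group
  have hsb0 : k0 * s * k0⁻¹ = T.b := by rw [← hs, ← hr]; exact h3x T.b
  have hsb : s ≠ T.b := fun e => hrb (by rw [← hr]; rw [e] at hsb0; exact hsb0)
  have hsr : s ≠ r := fun e => hrb (by
    have := hsb0
    rw [e, hs, e] at this
    exact this)
  have huu : T.uu * r * T.uu⁻¹ = s ∧ T.uu * s * T.uu⁻¹ = r ∧ T.b * r = s ∧ r * s = T.b := by
    obtain ⟨-, hv, -, -, -, -⟩ := T.uu_facts
    have hv' := T.uu_swap.2.1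
    have hb2 : T.b * T.b = 1 := P.A_sq T.bmem.1
    have hc := P.A_comm T.bmem.1 T.bmem.2.2.1
    rcases hr1 with e | e | e
    · exact absurd e hrb
    · rcases hs1 with e' | e' | e'
      · exact absurd e' hsb
      · exact absurd (e'.trans e.symm) hsr
      · rw [e, e']
        refine ⟨hv, hv', T.b_mul_v, ?_⟩
        rw [← T.b_mul_v, ← mul_assoc, ← hc, mul_assoc, P.A_sq T.bmem.2.2.1, mul_one]
    · rcases hs1 with e' | e' | e'
      · exact absurd e' hsb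
      · rw [e, e']
        refine ⟨hv', hv, ?_, ?_⟩
        · rw [← T.b_mul_v, ← mul_assoc, hb2, one_mul]
        · rw [← T.b_mul_v, mul_assoc, P.A_sq T.bmem.2.2.1, mul_one]
      · exact absurd (e'.trans e.symm) hsr
  obtain ⟨hur, hus, hbr, hrs⟩ := huu
  -- the product
  set w := T.uu * k0 * T.uu⁻¹ * k0 with hw
  have hconj : ∀ (h x y : G), h * x * h⁻¹ = y → ∀ h' y', h' * y * h'⁻¹ = y' → (h' * h) * x * (h' * h)⁻¹ = y' := by
    intro h x y e h' y' e'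
    rw [← e', ← e]; group
  have hui : ∀ (x y : G), T.uu * x * T.uu⁻¹ = y → T.uu⁻¹ * y * T.uu⁻¹⁻¹ = x := fun x y e => by rw [← e]; group
  have hw1 : ∀ x, T.Tri1 x → w * x = x * w := by
    have wb : w * T.b * w⁻¹ = T.b := by
      rw [hw]
      exact hconj _ _ _ hr _ _ (hconj _ _ _ (hui _ _ hus) _ _ (hconj _ _ _ hsb0 _ _ T.uu_swap.1))
    have wr : w * r * w⁻¹ = r := by
      rw [hw]
      exact hconj _ _ _ hs _ _ (hconj _ _ _ (hui _ _ hur) _ _ (hconj _ _ _ hs _ _ hus))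
    rintro x hx
    have hxx : x = T.b ∨ x = r ∨ x = T.b * r := by
      rw [hbr]
      rcases hx with rfl | rfl | rfl
      · exact Or.inl rfl
      all_goals
        rcases hr1 with e | e | e
        · exact absurd e hrb
        all_goals
          rcases hs1 with e' | e' | e'
          · exact absurd e' hsb
          all_goals first
            | exact absurd (e'.trans e.symm) hsr
            | exact Or.inr (Or.inl e.symm)
            | exact Or.inr (Or.inr e'.symm)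
    rw [mul_inv_eq_iff_eq_mul] at wb wr
    rcases hxx with rfl | rfl | rfl
    · exact wb
    · exact wr
    · rw [← mul_assoc, wb, mul_assoc, wr, mul_assoc]
  have huk : ∀ x, T.Tri2 x → T.uu * k0 * T.uu⁻¹ * x = x * (T.uu * k0 * T.uu⁻¹) := by
    intro x hx
    have hx' : T.Tri2 (T.uu⁻¹ * x * T.uu) := by
      obtain ⟨-, -, -, hp, -, -⟩ := T.uu_facts
      obtain ⟨-, -, hb', hp'⟩ := T.uu_swap
      rw [T.uu_inv] at hp hb' hp' ⊢
      rcases hx with rfl | rfl | rfl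
      · rw [hb']; exact Or.inl rfl
      · rw [hp]; exact Or.inr (Or.inr rfl)
      · rw [hp']; exact Or.inr (Or.inl rfl)
    calc T.uu * k0 * T.uu⁻¹ * x = T.uu * (k0 * (T.uu⁻¹ * x * T.uu)) * T.uu⁻¹ := by group
      _ = T.uu * ((T.uu⁻¹ * x * T.uu) * k0) * T.uu⁻¹ := by rw [hk2 _ hx']
      _ = _ := by group
  have hw2 : ∀ x, T.Tri2 x → w * x = x * w := fun x hx => by
    rw [hw, mul_assoc, hk2 x hx, ← mul_assoc, huk x hx, mul_assoc]
  have hwK : ∀ a ∈ T.K0, w * a = a * w := by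
    intro a ha
    have ha' : T.uu⁻¹ * a * T.uu ∈ T.K0 := by
      have := T.N0_conj (T.C_le_N0 (inv_mem T.uu_mem_C)) ha
      rwa [inv_inv] at this
    calc w * a = T.uu * k0 * T.uu⁻¹ * (k0 * a) := by rw [hw]; group
      _ = T.uu * (k0 * (T.uu⁻¹ * a * T.uu)) * T.uu⁻¹ * k0 := by rw [hkK a ha]; group
      _ = T.uu * ((T.uu⁻¹ * a * T.uu) * k0) * T.uu⁻¹ * k0 := by rw [hkK _ ha']
      _ = a * w := by rw [hw]; group
  obtain ⟨t, u, ht, hu, htu⟩ := T.A_decomp (T.A_of_fix hw1 hw2)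
  have hu1 : u = 1 := by
    refine T.y_fix_V2 hu ?_
    have h := hwK _ T.y_mem_K0
    rw [htu, mul_assoc, ← mul_assoc T.y, ← T.four_comm ht T.y_mem_K0, mul_assoc] at h
    exact mul_left_cancel h
  rw [hu1, mul_one] at htu
  have hmain : ∀ t₀ : G, (t₀ = 1 ∨ t₀ = T.v) → T.uu * (t₀ * k0 * t₀) * T.uu⁻¹ = (t₀ * k0 * t₀)⁻¹ →
      ∃ k t, (t = 1 ∨ t = T.v) ∧ k = t * k0 * t ∧ orderOf k = 3 ∧ k ∈ P.NA ∧
      (∀ a ∈ T.K0, k * a = a * k) ∧ T.uu * k * T.uu⁻¹ = k⁻¹ ∧ k * T.b * k⁻¹ ≠ T.b ∧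
      (∀ x, T.Tri1 x → T.Tri1 (k * x * k⁻¹)) ∧ k * T.b * k * T.b * k * T.b = 1 := by
    intro t₀ ht0 hinv
    have htA : t₀ ∈ P.A := by
      rcases ht0 with rfl | rfl
      exacts [one_mem _, T.bmem.2.2.1]
    have htN : t₀ ∈ P.NA := P.mem_NA fun a ha => mul_mem (mul_mem htA ha) (inv_mem htA)
    have ht4 : t₀ = 1 ∨ T.Tri1 t₀ := ht0.imp_right fun h => Or.inr (Or.inl h)
    have hti : t₀⁻¹ = t₀ := inv_eq_of_mul_eq_one_right (P.A_sq htA)
    have hk : ∀ x, x ∈ P.A → t₀ * k0 * t₀ * x * (t₀ * k0 * t₀)⁻¹ = k0 * x * k0⁻¹ := fun x hx => by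
      rw [mul_inv_rev, mul_inv_rev, hti]
      calc t₀ * k0 * t₀ * x * (t₀ * (k0⁻¹ * t₀)) = t₀ * (k0 * (t₀ * x * t₀) * k0⁻¹) * t₀ := by group
        _ = t₀ * (k0 * x * k0⁻¹) * t₀ := by rw [P.A_comm htA hx, mul_assoc x t₀ t₀, P.A_sq htA, mul_one]
        _ = k0 * x * k0⁻¹ := by rw [P.A_comm htA (P.NA_conj hk0N hx), mul_assoc, P.A_sq htA, mul_one]
    refine ⟨_, t₀, ht0, rfl, ?_, mul_mem (mul_mem htN hk0N) htN, fun a ha => ?_, hinv, ?_, fun x hx => ?_, ?_⟩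
    · conv_lhs => arg 1; arg 2; rw [← hti]
      rw [show t₀ * k0 * t₀⁻¹ = MulAut.conj t₀ k0 from rfl, MulEquiv.orderOf_eq, ho]
    · calc t₀ * k0 * t₀ * a = t₀ * k0 * (t₀ * a) := by group
        _ = t₀ * (k0 * a) * t₀ := by rw [T.four_comm ht4 ha]; group
        _ = (t₀ * a) * k0 * t₀ := by rw [hkK a ha]; group
        _ = a * (t₀ * k0 * t₀) := by rw [T.four_comm ht4 ha]; group
    · rw [hk _ T.bmem.1]; exact hkb
    · rw [hk _ (T.six.2 (Or.inl hx)).1]; exact hk1 x hx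
    · have e3 : (t₀ * k0 * t₀) * (t₀ * k0 * t₀) * (t₀ * k0 * t₀) = 1 := by
        rw [show (t₀ * k0 * t₀) * (t₀ * k0 * t₀) * (t₀ * k0 * t₀) =
          t₀ * k0 * (t₀ * t₀) * k0 * (t₀ * t₀) * k0 * t₀ by group, P.A_sq htA, mul_one, mul_one,
          mul_assoc t₀ k0 k0, mul_assoc t₀ (k0 * k0) k0, hc3, mul_one, P.A_sq htA]
      have eA : ∀ x, x ∈ P.A → (t₀ * k0 * t₀) * x = (k0 * x * k0⁻¹) * (t₀ * k0 * t₀) := fun x hx => by
        rw [← hk x hx, inv_mul_cancel_right]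
      have hrA := (T.six.2 (Or.inl hr1)).1
      calc t₀ * k0 * t₀ * T.b * (t₀ * k0 * t₀) * T.b * (t₀ * k0 * t₀) * T.b
          = r * ((t₀ * k0 * t₀) * (t₀ * k0 * t₀) * T.b) * (t₀ * k0 * t₀) * T.b := by rw [eA _ T.bmem.1, hr]; group
        _ = r * (s * ((t₀ * k0 * t₀) * (t₀ * k0 * t₀))) * (t₀ * k0 * t₀) * T.b := by
            rw [mul_assoc (t₀ * k0 * t₀) (t₀ * k0 * t₀) T.b, eA _ T.bmem.1, hr, ← mul_assoc (t₀ * k0 * t₀) r,
              eA _ hrA, hs, mul_assoc s]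
        _ = r * s * ((t₀ * k0 * t₀) * (t₀ * k0 * t₀) * (t₀ * k0 * t₀)) * T.b := by group
        _ = 1 := by rw [e3, mul_one, hrs, P.A_sq T.bmem.1]
  have hwu : T.uu * k0 * T.uu⁻¹ = t * k0⁻¹ := by
    rw [← htu, hw, mul_inv_cancel_right]
  have hswap : T.uu * t * T.uu⁻¹ = k0 * t * k0⁻¹ := by
    rw [← htu, hw, T.uu_inv, show T.uu * (T.uu * k0 * T.uu * k0) * T.uu = (T.uu * T.uu) * k0 * T.uu * k0 * T.uu by group,
      T.uu_facts.1, one_mul]
    group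
  rcases ht with ht | ht
  · refine hmain 1 (Or.inl rfl) ?_
    rw [one_mul, mul_one, hwu, ht, one_mul]
  · have htr : t = r := by
      have hts : t = T.b ∨ t = r ∨ t = s := by
        rcases ht with e | e | e
        · exact Or.inl e
        all_goals
          rcases hr1 with a | a | a
          · exact absurd a hrb
          all_goals
            rcases hs1 with c | c | c
            · exact absurd c hsb
            all_goals first
              | exact absurd (c.trans a.symm) hsr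
              | exact Or.inr (Or.inl (e.trans a.symm))
              | exact Or.inr (Or.inr (e.trans c.symm))
      rcases hts with e | e | e
      · exfalso; rw [e, T.uu_swap.1, hr] at hswap; exact hrb hswap.symm
      · exact e
      · exfalso; rw [e, hus, hsb0] at hswap; exact hrb hswap
    refine hmain T.v (Or.inr rfl) ?_
    have hv := T.uu_facts.2.1
    have hvA := T.bmem.2.2.1
    have hvi : T.v⁻¹ = T.v := inv_eq_of_mul_eq_one_right (P.A_sq hvA)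
    calc T.uu * (T.v * k0 * T.v) * T.uu⁻¹
        = (T.uu * T.v * T.uu⁻¹) * (T.uu * k0 * T.uu⁻¹) * (T.uu * T.v * T.uu⁻¹) := by group
      _ = T.v' * r * k0⁻¹ * T.v' := by rw [hv, hwu, htr]; group
      _ = T.v * (T.b * r) * k0⁻¹ * T.b * T.v := by
          rw [← T.b_mul_v, P.A_comm T.bmem.1 hvA, mul_assoc T.v T.b r]
          rw [show T.v * (T.b * r) * k0⁻¹ * (T.v * T.b) = T.v * (T.b * r) * k0⁻¹ * (T.b * T.v) by
            rw [P.A_comm T.bmem.1 hvA]]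
          group
      _ = T.v * (s * k0⁻¹ * T.b) * T.v := by rw [hbr]; group
      _ = T.v * (s * s * k0⁻¹) * T.v := by rw [← hsb0]; group
      _ = T.v * k0⁻¹ * T.v := by rw [P.A_sq (T.six.2 (Or.inl hs1)).1, one_mul]
      _ = (T.v * k0 * T.v)⁻¹ := by rw [mul_inv_rev (T.v * k0), mul_inv_rev T.v k0, hvi, mul_assoc]

/-- the element cycling the first triangle -/
noncomputable def k : G := T.exists_k.choose

theorem k_spec : orderOf T.k = 3 ∧ T.k ∈ P.NA ∧ (∀ a ∈ T.K0, T.k * a = a * T.k) ∧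
    T.uu * T.k * T.uu⁻¹ = T.k⁻¹ ∧ T.k * T.b * T.k⁻¹ ≠ T.b ∧
    (∀ x, T.Tri1 x → T.Tri1 (T.k * x * T.k⁻¹)) ∧ T.k * T.b * T.k * T.b * T.k * T.b = 1 := by
  obtain ⟨t, -, -, h⟩ := T.exists_k.choose_spec
  exact h

theorem k_cube : T.k * T.k * T.k = 1 := by rw [← pow_three', ← T.k_spec.1, pow_orderOf_eq_one]

theorem k_y : T.k * T.y = T.y * T.k := T.k_spec.2.2.1 _ T.y_mem_K0

theorem A_fix {a : G} (ha : a ∈ P.A) (hy : a * T.y = T.y * a) (hk : a * T.k = T.k * a) : a = 1 := by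
  obtain ⟨t, w, ht, hw, rfl⟩ := T.A_decomp ha
  have hw1 : w = 1 := by
    refine T.y_fix_V2 hw ?_
    rw [mul_assoc, ← mul_assoc T.y, ← T.four_comm ht T.y_mem_K0, mul_assoc] at hy
    exact mul_left_cancel hy
  subst hw1
  rw [mul_one] at hk ⊢
  rcases ht with ht | ht
  · exact ht
  exfalso
  obtain ⟨-, -, -, hu, hkb, hk1, h3⟩ := T.k_spec
  have hb2 : T.b * T.b = 1 := P.A_sq T.bmem.1
  have hfix : T.k * t * T.k⁻¹ = t := by rw [← hk, mul_inv_cancel_right]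
  have hbt : t ≠ T.b := fun e => hkb (e ▸ hfix)
  have hkb1 := hk1 _ (Or.inl rfl)
  have hbc : T.b * T.k = T.k * T.b ∨ T.k * T.b * T.k⁻¹ = T.b * t := by
    by_cases e : T.k * T.b * T.k⁻¹ = t
    · exact Or.inl ((absurd (mul_left_cancel (mul_right_cancel (hfix.trans e.symm))) hbt))
    · right
      rcases hkb1 with a | a | a <;> rcases ht with c | c | c <;>
        first
          | exact absurd a hkb
          | exact absurd c hbt
          | exact absurd (a.trans c.symm) e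
          | (rw [a, c, T.b_mul_v])
          | (rw [a, c, ← T.b_mul_v, ← mul_assoc, hb2, one_mul])
  rcases hbc with e | e
  · exact hkb (by rw [← e, mul_inv_cancel_right])
  · have h2 : T.k * (T.k * T.b * T.k⁻¹) * T.k⁻¹ = T.b := by
      rw [e, show T.k * (T.b * t) * T.k⁻¹ = (T.k * T.b * T.k⁻¹) * (T.k * t * T.k⁻¹) by group, e, hfix, mul_assoc,
        P.A_sq (show t ∈ P.A from mul_one t ▸ ha), mul_one]
    refine hkb ?_
    calc T.k * T.b * T.k⁻¹ = T.k * (T.k * (T.k * T.b * T.k⁻¹) * T.k⁻¹) * T.k⁻¹ := by rw [h2]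
      _ = (T.k * T.k * T.k) * T.b * (T.k * T.k * T.k)⁻¹ := by group
      _ = T.b := by rw [T.k_cube]; group

theorem exists_inverter : ∃ s, s * s = 1 ∧ s ∈ T.C ∧ s ∈ P.NA ∧ s * z = z * s ∧ s * T.y * s⁻¹ = T.y⁻¹ ∧
    s * T.k * s⁻¹ = T.k⁻¹ := by
  obtain ⟨hu2, -, -, hup, -, -⟩ := T.uu_facts
  obtain ⟨hub, -, hub', hup'⟩ := T.uu_swap
  obtain ⟨-, -, -, -, y1, y2, y3⟩ := T.y_spec
  have huy : T.uu * T.y * T.uu⁻¹ ∈ T.K0 := T.N0_conj (T.C_le_N0 T.uu_mem_C) T.y_mem_K0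
  set w := T.uu * T.y * T.uu⁻¹ * T.y with hw
  have hwK : w ∈ T.K0 := mul_mem huy T.y_mem_K0
  have hstep : ∀ x x' x'' x''' : G, T.y * x * T.y⁻¹ = x' → T.uu * x'' * T.uu⁻¹ = x' → T.y * x'' * T.y⁻¹ = x''' →
      T.uu * x''' * T.uu⁻¹ = x → w * x = x * w := by
    intro x x' x'' x''' e1 e2 e3 e4
    refine mul_inv_eq_iff_eq_mul.1 ?_
    calc w * x * w⁻¹ = T.uu * T.y * T.uu⁻¹ * (T.y * x * T.y⁻¹) * (T.uu * T.y * T.uu⁻¹)⁻¹ := by rw [hw]; group
      _ = T.uu * T.y * (T.uu⁻¹ * (T.uu * x'' * T.uu⁻¹) * T.uu) * T.y⁻¹ * T.uu⁻¹ := by rw [e1, e2]; group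
      _ = T.uu * (T.y * x'' * T.y⁻¹) * T.uu⁻¹ := by group
      _ = x := by rw [e3, e4]
  have hwV : w ∈ T.V2 := T.A_inter_K0 (T.A_of_fix (fun x hx => (T.tri1_comm_K0 hx hwK).symm) (by
    rintro x (rfl | rfl | rfl)
    · exact hstep _ _ _ _ y1 hup' y3 hub'
    · exact hstep _ _ _ _ y2 hup y2 hup'
    · exact hstep _ _ _ _ y3 hub' y1 hup)) hwK
  obtain ⟨d, hdV, hd⟩ : ∃ d ∈ T.V2, T.y⁻¹ * d * T.y = w * d := by
    obtain ⟨g1, g2, g3⟩ := T.y_back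
    have m := T.bmem
    rcases T.V2_cases hwV with e | e | e | e <;> rw [e]
    · exact ⟨1, one_mem _, by simp⟩
    · refine ⟨T.p', T.tri2_mem_V2 (Or.inr (Or.inr rfl)), g3.trans ?_⟩
      rw [← T.p_mul_p', mul_assoc, P.A_sq m.2.2.2.2.2, mul_one]
    · refine ⟨T.b', T.tri2_mem_V2 (Or.inl rfl), g1.trans ?_⟩
      rw [← T.p_mul_p', ← mul_assoc, P.A_sq m.2.2.2.2.1, one_mul]
    · refine ⟨T.p, T.tri2_mem_V2 (Or.inr (Or.inl rfl)), g2.trans ?_⟩
      rw [← T.p_mul_p', P.A_comm m.2.2.2.2.1 m.2.2.2.2.2]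
  have hdA : d ∈ P.A := T.A1_le_A (T.V2_le_A1 hdV)
  have hdi : d⁻¹ = d := inv_eq_of_mul_eq_one_right (P.A_sq hdA)
  have huA : T.uu * d * T.uu⁻¹ ∈ P.A := P.NA_conj T.uu_mem_NA hdA
  have hy' : T.uu * T.y * T.uu⁻¹ = w * T.y⁻¹ := by rw [hw, mul_inv_cancel_right]
  have hsy : d * T.uu * T.y * (d * T.uu)⁻¹ = T.y⁻¹ := by
    calc d * T.uu * T.y * (d * T.uu)⁻¹ = d * (T.uu * T.y * T.uu⁻¹) * d⁻¹ := by group
      _ = (d * w) * T.y⁻¹ * d := by rw [hy', hdi]; group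
      _ = (T.y⁻¹ * d * T.y) * T.y⁻¹ * d := by rw [P.A_comm hdA (T.A1_le_A (T.V2_le_A1 hwV)), ← hd]
      _ = T.y⁻¹ * (d * d) := by group
      _ = T.y⁻¹ := by rw [P.A_sq hdA, mul_one]
  have hsk : d * T.uu * T.k * (d * T.uu)⁻¹ = T.k⁻¹ := by
    calc d * T.uu * T.k * (d * T.uu)⁻¹ = d * (T.uu * T.k * T.uu⁻¹) * d⁻¹ := by group
      _ = d * T.k⁻¹ * d⁻¹ := by rw [T.k_spec.2.2.2.1]
      _ = T.k⁻¹ := by
        rw [← ((show Commute T.k d from T.k_spec.2.2.1 d (T.V2_le_K0 hdV)).inv_left).eq, mul_inv_cancel_right]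
  have hsq : d * T.uu * (d * T.uu) ∈ P.A := by
    rw [show d * T.uu * (d * T.uu) = d * (T.uu * d * T.uu⁻¹) * (T.uu * T.uu) by group, hu2, mul_one]
    exact mul_mem hdA huA
  have htwice : ∀ x, d * T.uu * x * (d * T.uu)⁻¹ = x⁻¹ → d * T.uu * (d * T.uu) * x = x * (d * T.uu * (d * T.uu)) := by
    intro x hx
    refine mul_inv_eq_iff_eq_mul.1 ?_
    calc d * T.uu * (d * T.uu) * x * (d * T.uu * (d * T.uu))⁻¹
        = d * T.uu * (d * T.uu * x * (d * T.uu)⁻¹) * (d * T.uu)⁻¹ := by group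
      _ = d * T.uu * x⁻¹ * (d * T.uu)⁻¹ := by rw [hx]
      _ = (d * T.uu * x * (d * T.uu)⁻¹)⁻¹ := by group
      _ = x := by rw [hx, inv_inv]
  exact ⟨d * T.uu, T.A_fix hsq (htwice _ hsy) (htwice _ hsk), mul_mem (T.mem_C_of_A hdA) T.uu_mem_C,
    mul_mem (P.mem_NA fun a ha => mul_mem (mul_mem hdA ha) (inv_mem hdA)) T.uu_mem_NA,
    ((show Commute d z from P.A_comm hdA P.z_mem_A).mul_left (show Commute T.uu z from P.commute_z _)).eq,
    hsy, hsk⟩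

theorem exch_invol {n : G} (hn : n ∈ P.NA) (hz : n * z = z * n) (hb : n * T.b * n⁻¹ = T.b')
    (hy : n * n * T.y = T.y * (n * n)) (hk : n * n * T.k = T.k * (n * n)) : n * n = 1 ∧ IsX z n := by
  obtain ⟨X, rfl, hX⟩ := (P.NA_cent hz).1 hn
  have h2 : P.ev X * P.ev X = 1 := T.A_fix (by rw [P.mul]; exact P.ev_mem_A.2 (inS_sq X hX)) hy hk
  refine ⟨h2, T.isX_of_xLab (exch_facts X hX (P.inj ?_) ((P.sq_iff X).1 h2))⟩
  rw [← P.ev_cj]
  exact hb

/-- The two exchanging involutions and the inverting one. -/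
theorem exists_swap : ∃ τ s, s * s = 1 ∧ s ∈ T.C ∧ s * T.y * s⁻¹ = T.y⁻¹ ∧ s * T.k * s⁻¹ = T.k⁻¹ ∧
    τ * τ = 1 ∧ τ * T.y * τ⁻¹ = T.k ∧ τ * T.k * τ⁻¹ = T.y ∧ IsX z τ ∧
    τ * s * (τ * s) = 1 ∧ IsX z (τ * s) := by
  obtain ⟨hgN, hgb, hgA, hgz, -, -⟩ := T.gx_spec
  obtain ⟨s, s2, sC, sN, sz, sy, sk⟩ := T.exists_inverter
  obtain ⟨t, ht, hkt, -⟩ := T.exists_k.choose_spec
  change T.k = _ at hkt
  have htA : t ∈ P.A := by
    rcases ht with rfl | rfl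
    exacts [one_mem _, T.bmem.2.2.1]
  have hti : t⁻¹ = t := inv_eq_of_mul_eq_one_right (P.A_sq htA)
  set a := t * (T.gx * t * T.gx⁻¹ * (T.gx * T.gx)) with ha
  have haA : a ∈ P.A := mul_mem htA (mul_mem (P.NA_conj hgN htA) hgA)
  obtain ⟨t', w, ht', hw, haw⟩ := T.A_decomp haA
  have hwA : w ∈ P.A := T.A1_le_A (T.V2_le_A1 hw)
  have hwi : w⁻¹ = w := inv_eq_of_mul_eq_one_right (P.A_sq hwA)
  set n := w * (t * T.gx) with hn
  have hny : n * T.y * n⁻¹ = T.k := by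
    calc n * T.y * n⁻¹ = w * (t * (T.gx * T.y * T.gx⁻¹) * t⁻¹) * w⁻¹ := by rw [hn]; group
      _ = w * T.k * w⁻¹ := by rw [hti, ← hkt]
      _ = T.k := by rw [← T.k_spec.2.2.1 w (T.V2_le_K0 hw), mul_inv_cancel_right]
  have hnk : n * T.k * n⁻¹ = T.y := by
    have e : t * T.gx * T.k * (t * T.gx)⁻¹ = a * T.y * a⁻¹ := by
      rw [hkt, ha]
      simp only [mul_inv_rev, inv_inv, hti, mul_assoc]
      group
    calc n * T.k * n⁻¹ = w * (t * T.gx * T.k * (t * T.gx)⁻¹) * w⁻¹ := by rw [hn]; group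
      _ = (w * a) * T.y * (w * a)⁻¹ := by rw [e]; group
      _ = t' * T.y * t'⁻¹ := by
        rw [haw, P.A_comm hwA (haw ▸ haA), mul_assoc t' w w, P.A_sq hwA, mul_one]
      _ = T.y := by rw [T.four_comm ht' T.y_mem_K0, mul_inv_cancel_right]
  have hnN : n ∈ P.NA := mul_mem (P.mem_NA fun x hx => mul_mem (mul_mem hwA hx) (inv_mem hwA))
    (mul_mem (P.mem_NA fun x hx => mul_mem (mul_mem htA hx) (inv_mem htA)) hgN)
  have hnz : n * z = z * n := ((show Commute w z from P.A_comm hwA P.z_mem_A).mul_left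
    ((show Commute t z from P.A_comm htA P.z_mem_A).mul_left hgz)).eq
  have hnb : n * T.b * n⁻¹ = T.b' := by
    rw [show n * T.b * n⁻¹ = (w * t) * (T.gx * T.b * T.gx⁻¹) * (w * t)⁻¹ by rw [hn]; group, hgb,
      P.A_comm (mul_mem hwA htA) T.bmem.2.1, mul_inv_cancel_right]
  obtain ⟨n2, nX⟩ := T.exch_invol hnN hnz hnb
    (mul_inv_eq_iff_eq_mul.1 (by rw [show n * n * T.y * (n * n)⁻¹ = n * (n * T.y * n⁻¹) * n⁻¹ by group, hny, hnk]))
    (mul_inv_eq_iff_eq_mul.1 (by rw [show n * n * T.k * (n * n)⁻¹ = n * (n * T.k * n⁻¹) * n⁻¹ by group, hnk, hny]))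
  have f1 : n * s * T.y * (n * s)⁻¹ = T.k⁻¹ := by
    rw [show n * s * T.y * (n * s)⁻¹ = n * (s * T.y * s⁻¹) * n⁻¹ by group, sy, ← hny]; group
  have f2 : n * s * T.k * (n * s)⁻¹ = T.y⁻¹ := by
    rw [show n * s * T.k * (n * s)⁻¹ = n * (s * T.k * s⁻¹) * n⁻¹ by group, sk, ← hnk]; group
  obtain ⟨ns2, nsX⟩ := T.exch_invol (n := n * s) (mul_mem hnN sN)
    ((show Commute n z from hnz).mul_left sz).eq
    (by rw [show n * s * T.b * (n * s)⁻¹ = n * (s * T.b * s⁻¹) * n⁻¹ by group,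
      T.b_central sC, mul_inv_cancel_right, hnb])
    (mul_inv_eq_iff_eq_mul.1 (by
      calc n * s * (n * s) * T.y * (n * s * (n * s))⁻¹ = n * s * (n * s * T.y * (n * s)⁻¹) * (n * s)⁻¹ := by group
        _ = (n * s * T.k * (n * s)⁻¹)⁻¹ := by rw [f1]; group
        _ = T.y := by rw [f2, inv_inv]))
    (mul_inv_eq_iff_eq_mul.1 (by
      calc n * s * (n * s) * T.k * (n * s * (n * s))⁻¹ = n * s * (n * s * T.k * (n * s)⁻¹) * (n * s)⁻¹ := by group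
        _ = (n * s * T.y * (n * s)⁻¹)⁻¹ := by rw [f2]; group
        _ = T.k := by rw [f1, inv_inv]))
  exact ⟨n, s, s2, sC, sy, sk, n2, hny, hnk, nX, ns2, nsX⟩

theorem k_conj_y : ∃ h, h * T.y * h⁻¹ = T.k := by
  obtain ⟨τ, -, -, -, -, -, -, h, -⟩ := T.exists_swap
  exact ⟨τ, h⟩

/-- The mixed elements of order three centralise involutions of the first class, so are not conjugate to `y`. -/
theorem not_conj_mixed {q : G} (hq : q = T.k * T.y ∨ q = T.k * T.y⁻¹) (h : G) :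
    h * T.y * h⁻¹ ≠ q ∧ h * T.y * h⁻¹ ≠ q⁻¹ := by
  obtain ⟨τ, s, -, -, hsy, hsk, -, hty, htk, htX, -, htsX⟩ := T.exists_swap
  obtain ⟨t, htX', htq⟩ : ∃ t, IsX z t ∧ Commute t q := by
    rcases hq with rfl | rfl
    · refine ⟨τ, htX, mul_inv_eq_iff_eq_mul.1 ?_⟩
      rw [show τ * (T.k * T.y) * τ⁻¹ = (τ * T.k * τ⁻¹) * (τ * T.y * τ⁻¹) by group, htk, hty, T.k_y]
    · refine ⟨τ * s, htsX, mul_inv_eq_iff_eq_mul.1 ?_⟩
      rw [show τ * s * (T.k * T.y⁻¹) * (τ * s)⁻¹ = τ * ((s * T.k * s⁻¹) * (s * T.y * s⁻¹)⁻¹) * τ⁻¹ by group, hsy, hsk,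
        inv_inv, show τ * (T.k⁻¹ * T.y) * τ⁻¹ = (τ * T.k * τ⁻¹)⁻¹ * (τ * T.y * τ⁻¹) by group, htk, hty]
      exact ((show Commute T.k T.y from T.k_y).inv_right).eq.symm
  have main : ∀ q', Commute t q' → h * T.y * h⁻¹ ≠ q' := by
    intro q' hc e
    refine T.not_X_of_three (t := h⁻¹ * t * h⁻¹⁻¹) ?_ T.y_spec.2.1 T.y_spec.2.2.1 (htX'.conj _)
    rw [← e] at hc
    calc T.y * (h⁻¹ * t * h⁻¹⁻¹) = h⁻¹ * ((h * T.y * h⁻¹) * t) * h := by group
      _ = h⁻¹ * (t * (h * T.y * h⁻¹)) * h := by rw [hc.eq]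
      _ = _ := by group
  exact ⟨main q htq, main q⁻¹ htq.inv_right⟩

end Two

end Cfsg.Agent.MTwelve.SwapCase
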