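import Cfsg.Agent.Lib.Small.BoundedPres.Alt

/-!
Carmichael's generators from the generators of Moore.
-/

set_option autoImplicit false

namespace Cfsg.Agent.MTwelve.SwapCase

universe u

variable {G : Type u} [Group G]

/-- the generators of Carmichael -/
def carm (k : G) (M : ℕ → G) : ℕ → G
  | 0 => k
  | i + 1 => (M i * carm k M i * M i)⁻¹

/-- Moore's relations -/
structure MooreData (N : ℕ) (k : G) (M : ℕ → G) : Prop where
  k3 : k * k * k = 1
  sq : ∀ i, i < N → M i * M i = 1
  inv : ∀ j, 1 ≤ j → j < N → M j * k * M j = k⁻¹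
  comm : ∀ i j, i + 2 ≤ j → j < N → M i * M j = M j * M i
  braid : ∀ i, i + 1 < N → M i * M (i + 1) * (M i * M (i + 1)) * (M i * M (i + 1)) = 1
  base : k * (M 0 * k * M 0)⁻¹ * (k * (M 0 * k * M 0)⁻¹) = 1

theorem pair_sq_swap {a c : G} (h : a * c * (a * c) = 1) : c * a * (c * a) = 1 := by
  calc c * a * (c * a) = a⁻¹ * (a * c * (a * c)) * a := by group
    _ = 1 := by rw [h]; group

theorem pair_sq_inv {a c : G} (h : a * c * (a * c) = 1) : a⁻¹ * c⁻¹ * (a⁻¹ * c⁻¹) = 1 := by
  calc a⁻¹ * c⁻¹ * (a⁻¹ * c⁻¹) = (c * a * (c * a))⁻¹ := by group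
    _ = 1 := by rw [pair_sq_swap h, inv_one]

theorem pair_sq_conj {a c m : G} (hm : m * m = 1) (h : a * c * (a * c) = 1) :
    m * a * m * (m * c * m) * (m * a * m * (m * c * m)) = 1 := by
  calc m * a * m * (m * c * m) * (m * a * m * (m * c * m))
      = m * (a * (m * m) * c * (m * m) * a * (m * m) * c) * m := by group
    _ = m * (a * c * (a * c)) * m := by rw [hm]; group
    _ = 1 := by rw [h, mul_one, hm]

namespace MooreData

variable {N : ℕ} {k : G} {M : ℕ → G} (D : MooreData N k M)
include D

theorem Minv {i : ℕ} (hi : i < N) : (M i)⁻¹ = M i := inv_eq_of_mul_eq_one_right (D.sq i hi)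

theorem step {i : ℕ} (hi : i < N) : M i * carm k M i * M i = (carm k M (i + 1))⁻¹ := (inv_inv _).symm

theorem step' {i : ℕ} (hi : i < N) : M i * carm k M (i + 1) * M i = (carm k M i)⁻¹ := by
  show M i * (M i * carm k M i * M i)⁻¹ * M i = _
  rw [mul_inv_rev, mul_inv_rev, D.Minv hi,
    show M i * (M i * ((carm k M i)⁻¹ * M i)) * M i = (M i * M i) * (carm k M i)⁻¹ * (M i * M i) by group,
    D.sq i hi, one_mul, mul_one]

theorem move {i j : ℕ} (hc : M j * M i = M i * M j) (hi : i < N) (hj : j < N)
    (h : M j * carm k M i * M j = (carm k M i)⁻¹) : M j * carm k M (i + 1) * M j = (carm k M (i + 1))⁻¹ := by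
  show M j * (M i * carm k M i * M i)⁻¹ * M j = (M i * carm k M i * M i)⁻¹⁻¹
  rw [inv_inv]
  calc M j * (M i * carm k M i * M i)⁻¹ * M j = ((M j)⁻¹ * M i * carm k M i * M i * (M j)⁻¹)⁻¹ := by group
    _ = (M j * M i * carm k M i * (M i * M j))⁻¹ := by rw [D.Minv hj]; group
    _ = (M i * M j * carm k M i * (M j * M i))⁻¹ :=
        congrArg₂ (fun u w => (u * carm k M i * w)⁻¹) hc hc.symm
    _ = (M i * (M j * carm k M i * M j) * M i)⁻¹ := by group
    _ = (M i * (carm k M i)⁻¹ * M i)⁻¹ := by rw [h]
    _ = (M i)⁻¹ * carm k M i * (M i)⁻¹ := by group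
    _ = M i * carm k M i * M i := by rw [D.Minv hi]

theorem high : ∀ i j, i < j → j < N → M j * carm k M i * M j = (carm k M i)⁻¹
  | 0, j, hij, hj => D.inv j hij hj
  | i + 1, j, hij, hj => D.move (D.comm i j (by omega) hj).symm (by omega) hj (high i j (by omega) hj)

theorem low : ∀ i j, j + 2 ≤ i → i ≤ N → M j * carm k M i * M j = (carm k M i)⁻¹
  | 0, j, hji, _ => by omega
  | i + 1, j, hji, hi => by
    rcases Nat.lt_or_ge i (j + 2) with hlt | hge
    · obtain rfl : i = j + 1 := by omega
      have hy := D.high j (j + 1) (by omega) (by omega)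
      have h2 : carm k M (j + 1 + 1) = M (j + 1) * M j * carm k M j * M j * M (j + 1) := by
        show (M (j + 1) * (M j * carm k M j * M j)⁻¹ * M (j + 1))⁻¹ = _
        rw [mul_inv_rev, mul_inv_rev, inv_inv, D.Minv (show j + 1 < N by omega)]
        group
      have hbr : M j * M (j + 1) * M j = M (j + 1) * M j * M (j + 1) := by
        have h := D.braid j (by omega)
        have e : M j * M (j + 1) * M j = ((M (j + 1)) * M j * M (j + 1))⁻¹ := by
          refine eq_inv_of_mul_eq_one_left ?_
          rw [← h]; group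
        rw [e, mul_inv_rev, mul_inv_rev, D.Minv (show j + 1 < N by omega), D.Minv (show j < N by omega)]
        group
      rw [h2]
      calc M j * (M (j + 1) * M j * carm k M j * M j * M (j + 1)) * M j
          = (M j * M (j + 1) * M j) * carm k M j * (M j * M (j + 1) * M j) := by group
        _ = M (j + 1) * M j * (M (j + 1) * carm k M j * M (j + 1)) * M j * M (j + 1) := by rw [hbr]; group
        _ = M (j + 1) * M j * (carm k M j)⁻¹ * M j * M (j + 1) := by rw [hy]
        _ = ((M (j + 1))⁻¹ * (M j)⁻¹ * carm k M j * (M j)⁻¹ * (M (j + 1))⁻¹)⁻¹ := by group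
        _ = _ := by rw [D.Minv (show j < N by omega), D.Minv (show j + 1 < N by omega)]
    · exact D.move (D.comm j i hge (by omega)) (by omega) (by omega) (low i j hge (by omega))

theorem cube : ∀ i, i ≤ N → carm k M i ^ 3 = 1
  | 0, _ => by rw [pow_three']; exact D.k3
  | i + 1, hi => by
    show ((M i * carm k M i * M i)⁻¹) ^ 3 = 1
    rw [inv_pow, inv_eq_one]
    have : M i * carm k M i * M i = M i * carm k M i * (M i)⁻¹ := by rw [D.Minv (show i < N by omega)]
    rw [this, conj_pow, cube i (by omega), mul_one, mul_inv_cancel]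

theorem pair_zero : ∀ i, 1 ≤ i → i ≤ N → carm k M 0 * carm k M i * (carm k M 0 * carm k M i) = 1
  | 0, h, _ => by omega
  | 1, _, _ => D.base
  | i + 2, _, hi => by
    have h := pair_sq_conj (D.sq (i + 1) (by omega)) (pair_zero (i + 1) (by omega) (by omega))
    rw [D.high 0 (i + 1) (by omega) (by omega), D.step (show i + 1 < N by omega)] at h
    simpa only [inv_inv] using pair_sq_inv h

theorem pair : ∀ j i, j < i → i ≤ N → carm k M j * carm k M i * (carm k M j * carm k M i) = 1
  | 0, i, hji, hi => D.pair_zero i hji hi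
  | j + 1, i, hji, hi => by
    have h := pair_sq_conj (D.sq j (by omega)) (pair j i (by omega) hi)
    rw [D.low i j (by omega) hi, D.step (show j < N by omega)] at h
    simpa only [inv_inv] using pair_sq_inv h

theorem rels (n : ℕ) (hn : n = N + 1) : (∀ i : Fin n, carm k M i.val ^ 3 = 1) ∧
    ∀ i j : Fin n, i ≠ j → (carm k M i.val * carm k M j.val) ^ 2 = 1 := by
  refine ⟨fun i => D.cube _ (by omega), fun i j hij => (pow_two _).trans ?_⟩
  rcases Nat.lt_or_ge i.val j.val with h | h
  · exact D.pair _ _ h (by omega)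
  · have h' : j.val < i.val := by
      have := Fin.val_ne_of_ne hij
      omega
    exact pair_sq_swap (D.pair _ _ h' (by omega))

/-- The subgroup of Carmichael's generators contains the generators of Moore once it contains the first. -/
theorem mem_all (H : Subgroup G) (hY : ∀ i, i ≤ N → carm k M i ∈ H)
    (hH : H ≤ Subgroup.closure {y | ∃ i, i ≤ N ∧ carm k M i = y}) (h0 : M 0 ∈ H) : ∀ j, j < N → M j ∈ H := by
  have hnorm : ∀ j, j < N → ∀ x ∈ H, M j * x * M j ∈ H := by
    intro j hj x hx
    have : Subgroup.closure {y | ∃ i, i ≤ N ∧ carm k M i = y} ≤ H.comap (MulAut.conj (M j)).toMonoidHom := by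
      refine (Subgroup.closure_le _).2 ?_
      rintro _ ⟨i, hi, rfl⟩
      show M j * carm k M i * (M j)⁻¹ ∈ H
      rw [D.Minv hj]
      rcases Nat.lt_trichotomy i j with h | h | h
      · rw [D.high i j h hj]; exact inv_mem (hY i hi)
      · rw [h, D.step hj]; exact inv_mem (hY _ (by omega))
      · rcases Nat.lt_or_ge i (j + 2) with h' | h'
        · obtain rfl : i = j + 1 := by omega
          rw [D.step' hj]; exact inv_mem (hY _ (by omega))
        · rw [D.low i j h' hi]; exact inv_mem (hY i hi)
    have h : M j * x * (M j)⁻¹ ∈ H := this (hH hx)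
    rwa [D.Minv hj] at h
  intro j
  induction j with
  | zero => exact fun _ => h0
  | succ j ih =>
    intro hj
    have hj0 := ih (by omega)
    have e : M (j + 1) = M j * (M (j + 1) * M j * M (j + 1)) * M j := by
      refine (eq_inv_of_mul_eq_one_left ?_).trans (D.Minv hj) |>.symm
      rw [← D.braid j hj]
      group
    rw [e]
    exact mul_mem (mul_mem hj0 (hnorm (j + 1) hj _ hj0)) hj0

end MooreData

end Cfsg.Agent.MTwelve.SwapCase
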