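import Cfsg.Agent.Lib.Spor.MTwelve.SwapCase.Order
import Cfsg.Agent.Lib.Spor.MTwelve.SwapCase.Moore

/-!
An embedding of an alternating group containing the centraliser of the involution of the second class.
-/

set_option autoImplicit false
set_option linter.style.haveILetI false
set_option maxRecDepth 100000

namespace Cfsg.Agent.MTwelve.SwapCase

open CentShape OrderFront Equiv Cfsg.Agent.Small.BoundedPres Cfsg.Agent.Small.AltDeg

universe u

variable {G : Type u} [Group G] [Finite G] {z : G} {P : Par z}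

namespace Two

variable (T : Two P)

/-- the lifted adjacent transpositions -/
noncomputable def adj (t : ℕ) : G :=
  if h : t + 1 < T.ph.m then T.lift (Equiv.swap ⟨t, by omega⟩ ⟨t + 1, h⟩) else 1

/-- what is needed of the alternating subgroup -/
def HasAlt : Prop :=
  ∃ θ : A (T.ph.m + 4) →* G, Function.Injective θ ∧ T.k ∈ θ.range ∧ T.C ≤ θ.range ∧
    ∃ h ∈ θ.range, h * T.b * h⁻¹ = T.uu

theorem adj_eq {t : ℕ} (h : t + 1 < T.ph.m) :
    T.adj t = T.lift (Equiv.swap (⟨t, by omega⟩ : Fin T.ph.m) ⟨t + 1, h⟩) := by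
  rw [adj, dif_pos h]

theorem has_alt : T.HasAlt := by
  classical
  obtain ⟨x, hx2, -, hxX, hxk, hbx, hcomm⟩ := T.exists_x3
  have hm4 : 4 ≤ T.ph.m := by rcases T.deg with h | h <;> omega
  let M : ℕ → G := fun i => if i = 0 then T.b else if i = 1 then x else T.adj (i - 2)
  have M0 : M 0 = T.b := rfl
  have M1 : M 1 = x := rfl
  have M2 : ∀ t, M (t + 2) = T.adj t := fun t => by
    simp only [M, show t + 2 ≠ 0 by omega, show t + 2 ≠ 1 by omega, if_false]
    rfl
  have hb2 : T.b * T.b = 1 := P.A_sq T.bmem.1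
  have hsign : ∀ {t : ℕ} (h : t + 1 < T.ph.m),
      Perm.sign (Equiv.swap (⟨t, by omega⟩ : Fin T.ph.m) ⟨t + 1, h⟩) = -1 := fun h =>
    Perm.sign_swap (by simp [Fin.ext_iff])
  have hkb : T.k * T.b * T.k⁻¹ ∈ P.A := P.NA_conj T.k_spec.2.1 T.bmem.1
  have D : MooreData (T.ph.m + 1) T.k M := by
    refine ⟨T.k_cube, ?_, ?_, ?_, ?_, ?_⟩
    · rintro (_ | _ | t) hi
      · exact hb2
      · exact hx2
      · rw [M2, T.adj_eq (by omega), ← map_mul, Equiv.swap_mul_self, map_one]
    · rintro (_ | _ | t) h1 hj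
      · omega
      · exact hxk
      · rw [M2, T.adj_eq (by omega)]
        have h := T.lift_inv_k (hsign (t := t) (by omega))
        have h2 : (T.lift (Equiv.swap (⟨t, by omega⟩ : Fin T.ph.m) ⟨t + 1, by omega⟩))⁻¹ =
            T.lift (Equiv.swap ⟨t, by omega⟩ ⟨t + 1, by omega⟩) := by rw [← map_inv, Equiv.swap_inv]
        rwa [h2] at h
    · intro i j hij hj
      obtain ⟨t, rfl⟩ : ∃ t, j = t + 2 := ⟨j - 2, by omega⟩
      rw [M2, T.adj_eq (by omega)]
      rcases i with _ | _ | i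
      · exact (T.lift_comm_b _).symm
      · exact (hcomm _ (fun u hu => Equiv.swap_apply_of_ne_of_ne
          (fun e => by rw [e] at hu; simp only at hu; omega) (fun e => by rw [e] at hu; simp only at hu; omega)) (hsign _)).symm
      · rw [M2, T.adj_eq (by omega), ← map_mul, ← map_mul]
        refine congrArg T.lift (Equiv.Perm.Disjoint.commute fun u => ?_).eq
        by_cases hu : u.val = t ∨ u.val = t + 1
        · exact Or.inl (Equiv.swap_apply_of_ne_of_ne (fun e => by simp only [Fin.ext_iff] at e; omega)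
            (fun e => by simp only [Fin.ext_iff] at e; omega))
        · exact Or.inr (Equiv.swap_apply_of_ne_of_ne (fun e => by simp only [Fin.ext_iff] at e; omega)
            (fun e => by simp only [Fin.ext_iff] at e; omega))
    · rintro (_ | _ | i) hi
      · exact hbx
      · rw [M1, M2, T.adj_eq (by omega)]
        exact T.link_order hx2 hxX hxk hbx hcomm (i := ⟨0, by omega⟩) (j := ⟨0 + 1, by omega⟩)
          (i' := ⟨T.ph.m - 2, by omega⟩) (j' := ⟨T.ph.m - 1, by omega⟩) rfl rfl (by simp only; omega)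
          (by simp only; omega)
      · rw [M2, show i + 1 + 1 + 1 = (i + 1) + 2 by omega, M2, T.adj_eq (by omega), T.adj_eq (by omega)]
        simp only [← map_mul]
        rw [swap_cube (by simp [Fin.ext_iff]) (by simp [Fin.ext_iff]) (by simp [Fin.ext_iff]; omega), map_one]
    · rw [M0, mul_inv_rev, mul_inv_rev, inv_eq_of_mul_eq_one_right hb2]
      have := P.A_sq (mul_mem hkb T.bmem.1)
      rw [← this]; group
  obtain ⟨r3, r2⟩ := D.rels (T.ph.m + 2) rfl
  obtain ⟨θ, hθ⟩ := carmichael_hom (T.ph.m + 2) (by omega) (fun i => carm T.k M i.val) r3 r2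
  refine ⟨θ, ?_⟩
  have hY : ∀ i, i ≤ T.ph.m + 1 → carm T.k M i ∈ θ.range := fun i hi => ⟨_, hθ ⟨i, by omega⟩⟩
  have hk : T.k ∈ θ.range := hY 0 (by omega)
  have hinj : Function.Injective θ := by
    haveI := alternatingGroup.isSimpleGroup (α := Fin (T.ph.m + 2 + 2)) (by simp; omega)
    rcases (MonoidHom.normal_ker θ).eq_bot_or_eq_top with h | h
    · exact (MonoidHom.ker_eq_bot_iff θ).1 h
    · exfalso
      have := T.k_spec.1
      obtain ⟨a, ha⟩ := hk
      rw [← ha, MonoidHom.mem_ker.1 (h ▸ Subgroup.mem_top a), orderOf_one] at this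
      omega
  have hle : θ.range ≤ Subgroup.closure {y | ∃ i, i ≤ T.ph.m + 1 ∧ carm T.k M i = y} := by
    rw [MonoidHom.range_eq_map, ← gcyc_top (T.ph.m + 2), MonoidHom.map_closure, Subgroup.closure_le]
    rintro _ ⟨_, ⟨i, rfl⟩, rfl⟩
    exact Subgroup.subset_closure ⟨i.val, by omega, (hθ i).symm⟩
  have hT1 : ∀ u, T.Tri1 u → u ∈ θ.range := by
    have h1 : T.k * T.b * T.k⁻¹ * T.b ∈ θ.range := by
      have e : T.k * T.b * T.k⁻¹ * T.b = carm T.k M 0 * carm T.k M 1 := by
        show _ = T.k * (T.b * T.k * T.b)⁻¹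
        rw [mul_inv_rev, mul_inv_rev, inv_eq_of_mul_eq_one_right hb2]
        group
      rw [e]
      exact mul_mem (hY 0 (by omega)) (hY 1 (by omega))
    have hr := T.k_spec.2.2.2.2.2.1 _ (Or.inl rfl : T.Tri1 T.b)
    have hne : T.k * T.b * T.k⁻¹ ≠ T.b := T.k_spec.2.2.2.2.1
    have hs : T.Tri1 (T.k * T.b * T.k⁻¹ * T.b) := by
      rcases hr with e | e | e
      · exact absurd e hne
      · rw [e]; exact Or.inr (Or.inr (by rw [P.A_comm T.bmem.2.2.1 T.bmem.1, T.b_mul_v]))
      · rw [e]; refine Or.inr (Or.inl ?_)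
        rw [P.A_comm T.bmem.2.2.2.1 T.bmem.1, ← T.b_mul_v, ← mul_assoc, hb2, one_mul]
    have hs' := T.k_spec.2.2.2.2.2.1 _ hs
    have h2 : T.k * (T.k * T.b * T.k⁻¹ * T.b) * T.k⁻¹ ∈ θ.range := mul_mem (mul_mem hk h1) (inv_mem hk)
    intro u hu
    rcases T.tri1_two hs hs' (fun e => T.k_moves hs e.symm) hu with rfl | rfl | rfl
    exacts [h1, h2, mul_mem h1 h2]
  have hM : ∀ j, j < T.ph.m + 1 → M j ∈ θ.range := D.mem_all _ hY hle (hT1 _ (Or.inl rfl))
  have hlift : ∀ σ, T.lift σ ∈ θ.range := by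
    suffices htop : θ.range.comap T.lift = ⊤ from fun σ =>
      Subgroup.mem_comap.1 (htop.symm ▸ Subgroup.mem_top σ)
    obtain ⟨n, hn⟩ : ∃ n, T.ph.m = n + 1 := ⟨T.ph.m - 1, by omega⟩
    rw [eq_top_iff]
    intro σ _
    have key : ∀ m (hm : m = T.ph.m) (τ : Perm (Fin m)),
        τ ∈ Submonoid.closure (Set.range fun i : {i : Fin m // i.val + 1 < m} => Equiv.swap i.1 ⟨i.1.val + 1, i.2⟩) := by
      intro m hm τ
      obtain ⟨n, rfl⟩ : ∃ n, m = n + 1 := ⟨m - 1, by omega⟩
      have : τ ∈ Submonoid.closure (Set.range fun i : Fin n => Equiv.swap i.castSucc i.succ) := by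
        rw [Equiv.Perm.mclosure_swap_castSucc_succ]; exact Submonoid.mem_top τ
      refine Submonoid.closure_mono ?_ this
      rintro _ ⟨i, rfl⟩
      exact ⟨⟨i.castSucc, by simp⟩, rfl⟩
    refine (Submonoid.closure_le.2 ?_ : _ ≤ (θ.range.comap T.lift).toSubmonoid) (key _ rfl σ)
    rintro _ ⟨⟨⟨i, hi⟩, hi'⟩, rfl⟩
    show T.lift _ ∈ θ.range
    have := hM (i + 2) (by simp only at hi'; omega)
    rwa [M2, T.adj_eq (by simpa using hi')] at this
  have hC : T.C ≤ θ.range := by
    intro c hc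
    have hcσ : T.F (c * (T.lift (T.F c))⁻¹) = 1 := by
      rw [T.F_mul (T.C_le_N0 hc) (inv_mem (T.C_le_N0 (T.lift_mem_C _))), T.F_inv (T.C_le_N0 (T.lift_mem_C _)),
        T.lift_spec.2.1, mul_inv_cancel]
    have := T.F_ker (mul_mem hc (inv_mem (T.lift_mem_C _))) hcσ
    rw [← inv_mul_cancel_right c (T.lift (T.F c))]
    refine mul_mem ?_ (hlift _)
    rcases this with e | e
    · rw [e]; exact one_mem _
    · exact hT1 _ e
  refine ⟨hinj, hk, hC, ?_⟩
  -- the exchanging involution is conjugate to the first generator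
  have hconj : ∀ j, j < T.ph.m + 1 → ∃ h ∈ θ.range, h * T.b * h⁻¹ = M j := by
    intro j
    induction j with
    | zero => exact fun _ => ⟨1, one_mem _, by rw [M0]; group⟩
    | succ j ih =>
      intro hj
      obtain ⟨h, hh, e⟩ := ih (by omega)
      have hbr := D.braid j hj
      refine ⟨M j * M (j + 1) * h, mul_mem (mul_mem (hM j (by omega)) (hM (j + 1) hj)) hh, ?_⟩
      calc M j * M (j + 1) * h * T.b * (M j * M (j + 1) * h)⁻¹
          = M j * M (j + 1) * (h * T.b * h⁻¹) * ((M (j + 1))⁻¹ * (M j)⁻¹) := by group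
        _ = M j * M (j + 1) * M j * (M (j + 1) * M j) := by
            rw [e, D.Minv (show j < T.ph.m + 1 by omega), D.Minv hj]
        _ = (M j * M (j + 1) * (M j * M (j + 1)) * (M j * M (j + 1))) * (M (j + 1))⁻¹ * (M j)⁻¹ * (M j) := by
            rw [hbr, one_mul, inv_mul_cancel_right, D.Minv hj]
            calc M j * M (j + 1) * M j * (M (j + 1) * M j)
                = (M j * M (j + 1) * (M j * M (j + 1)) * (M j * M (j + 1))) * (M (j + 1))⁻¹ := by group
              _ = M (j + 1) := by rw [hbr, one_mul, D.Minv hj]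
        _ = M (j + 1) := by rw [hbr, one_mul, inv_mul_cancel_right, D.Minv hj]
  have h01 : (⟨0, by omega⟩ : Fin T.ph.m) ≠ ⟨0 + 1, by omega⟩ := by simp [Fin.ext_iff]
  obtain ⟨c, hc, hc'⟩ := T.lift_swap h01
  obtain ⟨h, hh, e⟩ := hconj 2 (by omega)
  rw [show (2 : ℕ) = 0 + 2 from rfl, M2, T.adj_eq (by omega)] at e
  refine ⟨c⁻¹ * h, mul_mem (inv_mem (hC hc)) hh, ?_⟩
  rw [show c⁻¹ * h * T.b * (c⁻¹ * h)⁻¹ = c⁻¹ * (h * T.b * h⁻¹) * c by group, e, ← hc']
  group

end Two

end Cfsg.Agent.MTwelve.SwapCase
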