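import Cfsg.Agent.Lib.Spor.MTwelve.SwapCase.FiveB
import Cfsg.Agent.Lib.Perm.AltAut

/-!
The generator joining the two blocks of letters.
-/

set_option autoImplicit false
set_option linter.style.haveILetI false
set_option maxRecDepth 100000
set_option synthInstance.maxHeartbeats 400000
set_option synthInstance.maxSize 8192

namespace Cfsg.Agent.MTwelve.SwapCase

open CentShape OrderFront Equiv

universe u

/-- the standard cycle -/
def cyc0 : Perm (Fin 5) := Equiv.swap 0 1 * Equiv.swap 1 2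

/-- the standard double transposition -/
def dbl0 : Perm (Fin 5) := Equiv.swap 0 1 * Equiv.swap 2 3

/-- the standard solution -/
def ksi0 : Perm (Fin 5) := Equiv.swap 0 1 * Equiv.swap 3 4

theorem ksi0_facts : Perm.sign ksi0 = 1 ∧ ksi0 * ksi0 = 1 ∧ ksi0 ≠ 1 ∧ ksi0 * cyc0 * ksi0 = cyc0 * cyc0 ∧
    dbl0 * ksi0 * (dbl0 * ksi0) * (dbl0 * ksi0) = 1 := by decide +kernel

theorem ksi0_comm : ∀ π : Perm (Fin 5), π * dbl0 = dbl0 * π → π * cyc0 = cyc0 * cyc0 * π →
    π * ksi0 = ksi0 * π := by decide +kernel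

theorem perm_std : ∀ κ : Perm (Fin 5), Perm.sign κ = 1 → κ * κ * κ = 1 → κ ≠ 1 → ∀ β : Perm (Fin 5),
    Perm.sign β = 1 → β * β = 1 → β ≠ 1 → κ * β * κ * β * κ * β = 1 →
    ∃ g : Perm (Fin 5), g * κ = cyc0 * g ∧ g * β = dbl0 * g := by decide +kernel

theorem perm_ksi (κ : Perm (Fin 5)) (h1 : Perm.sign κ = 1) (h2 : κ * κ * κ = 1) (h3 : κ ≠ 1) (β : Perm (Fin 5))
    (h4 : Perm.sign β = 1) (h5 : β * β = 1) (h6 : β ≠ 1) (h7 : κ * β * κ * β * κ * β = 1) :
    ∃ ξ : Perm (Fin 5), Perm.sign ξ = 1 ∧ ξ * ξ = 1 ∧ ξ ≠ 1 ∧ ξ * κ * ξ = κ * κ ∧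
      β * ξ * (β * ξ) * (β * ξ) = 1 ∧ ∀ π : Perm (Fin 5), π * β = β * π → π * κ = κ * κ * π → π * ξ = ξ * π := by
  obtain ⟨g, hk, hb⟩ := perm_std κ h1 h2 h3 β h4 h5 h6 h7
  set c := MulAut.conj g
  have hck : c κ = cyc0 := mul_inv_eq_iff_eq_mul.2 hk
  have hcb : c β = dbl0 := mul_inv_eq_iff_eq_mul.2 hb
  obtain ⟨f1, f2, f3, f4, f5⟩ := ksi0_facts
  have hcx : c (c.symm ksi0) = ksi0 := c.apply_symm_apply _
  refine ⟨c.symm ksi0, ?_, c.injective ?_, fun h => f3 ?_, c.injective ?_, c.injective ?_, fun π p1 p2 => c.injective ?_⟩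
  · rw [show c.symm ksi0 = g⁻¹ * ksi0 * g from rfl, map_mul, map_mul, map_inv, f1, mul_one, inv_mul_cancel]
  · rw [map_mul, hcx, f2, map_one]
  · rw [← hcx, h, map_one]
  · rw [map_mul, map_mul, map_mul, hcx, hck, f4]
  · simp only [map_mul, map_one, hcx, hcb, f5]
  · rw [map_mul, map_mul, hcx]
    refine ksi0_comm (c π) ?_ ?_
    · rw [← hcb, ← map_mul, ← map_mul, p1]
    · rw [← hck, ← map_mul, ← map_mul, ← map_mul, p2]

variable {G : Type u} [Group G] [Finite G] {z : G} {P : Par z}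

namespace Two

variable (T : Two P)

theorem lift_odd_uu {σ : Perm (Fin T.ph.m)} (h : Perm.sign σ = -1) : T.lift σ * T.uu ∈ T.K0 :=
  (T.lift_spec.1 σ).resolve_left fun h' => by
    have := T.F_even h'
    rw [T.lift_spec.2.1, h] at this
    exact absurd this (by decide)

theorem lift_inv_k {σ : Perm (Fin T.ph.m)} (h : Perm.sign σ = -1) : T.lift σ * T.k * (T.lift σ)⁻¹ = T.k⁻¹ := by
  have ha := T.lift_odd_uu h
  set a := T.lift σ * T.uu with ha'
  have e : T.lift σ = a * T.uu⁻¹ := by rw [ha', mul_inv_cancel_right]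
  rw [e, mul_inv_rev, inv_inv,
    show a * T.uu⁻¹ * T.k * (T.uu * a⁻¹) = a * (T.uu⁻¹ * T.k * T.uu) * a⁻¹ by group, T.uu_inv]
  have hu := T.k_spec.2.2.2.1
  rw [T.uu_inv] at hu
  rw [hu, ← ((show Commute T.k a from T.k_spec.2.2.1 a ha).inv_left).eq, mul_inv_cancel_right]

theorem lift_comm_k {σ : Perm (Fin T.ph.m)} (h : Perm.sign σ = 1) : T.lift σ * T.k = T.k * T.lift σ :=
  (T.k_spec.2.2.1 _ (T.lift_even h)).symm

theorem lift_comm_b (σ : Perm (Fin T.ph.m)) : T.lift σ * T.b = T.b * T.lift σ := T.b_central (T.lift_mem_C σ)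

theorem exists_x3 : ∃ x : G, x * x = 1 ∧ x ≠ 1 ∧ ¬ IsX z x ∧ x * T.k * x = T.k⁻¹ ∧
    T.b * x * (T.b * x) * (T.b * x) = 1 ∧
    ∀ σ : Perm (Fin T.ph.m), (∀ i : Fin T.ph.m, i.val = 0 → σ i = i) → Perm.sign σ = -1 →
      T.lift σ * x = x * T.lift σ := by
  classical
  obtain ⟨e, he, ⟨κ, hκ⟩, ⟨β, hβ⟩, hnorm⟩ := T.has_five
  have hk3 : κ * κ * κ = 1 := he (by rw [map_mul, map_mul, hκ, T.k_cube, map_one])
  have hκ1 : κ ≠ 1 := fun h => by
    have := T.k_spec.1
    rw [← hκ, h, map_one, orderOf_one] at this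
    omega
  have hb2 : β * β = 1 := he (by rw [map_mul, hβ, P.A_sq T.bmem.1, map_one])
  have hβ1 : β ≠ 1 := fun h => T.b_ne (by rw [← hβ, h, map_one])
  have hkb : κ * β * κ * β * κ * β = 1 := he (by simp only [map_mul, hκ, hβ, T.k_spec.2.2.2.2.2.2, map_one])
  obtain ⟨ξ, hs, h2, h1, hi, h3, hc⟩ := perm_ksi κ (Perm.mem_alternatingGroup.1 κ.2) (congrArg Subtype.val hk3)
    (fun h => hκ1 (Subtype.ext h)) β (Perm.mem_alternatingGroup.1 β.2) (congrArg Subtype.val hb2)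
    (fun h => hβ1 (Subtype.ext h)) (congrArg Subtype.val hkb)
  let x : alternatingGroup (Fin 5) := ⟨ξ, Perm.mem_alternatingGroup.2 hs⟩
  have hx2 : x * x = 1 := Subtype.ext h2
  have hx1 : x ≠ 1 := fun h => h1 (congrArg Subtype.val h)
  refine ⟨e x, by rw [← map_mul, hx2, map_one], fun h => hx1 (he (h.trans (map_one e).symm)), ?_, ?_, ?_, ?_⟩
  · obtain ⟨g, hg, hgb⟩ := perm_invol_conj.2 β ξ (congrArg Subtype.val hb2) h2 (fun h => hβ1 (Subtype.ext h)) h1
      (Perm.mem_alternatingGroup.1 β.2) hs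
    have hgx : (⟨g, Perm.mem_alternatingGroup.2 hg⟩ : alternatingGroup (Fin 5)) * β = x * ⟨g, Perm.mem_alternatingGroup.2 hg⟩ :=
      Subtype.ext hgb
    intro hX
    refine T.tri_b.1 (IsX.of_conj (g := e ⟨g, Perm.mem_alternatingGroup.2 hg⟩) ?_)
    rwa [← hβ, ← map_mul, hgx, map_mul, mul_inv_cancel_right]
  · rw [← hκ, ← map_mul, ← map_mul, show x * κ * x = κ * κ from Subtype.ext hi, map_mul]
    exact eq_inv_of_mul_eq_one_left (by rw [← map_mul, ← map_mul, hk3, map_one])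
  · rw [← hβ, ← map_mul, ← map_mul, ← map_mul, show β * x * (β * x) * (β * x) = 1 from Subtype.ext h3, map_one]
  intro σ hσ hsign
  set l := T.lift σ
  choose f hf using hnorm σ hσ
  let α : alternatingGroup (Fin 5) →* alternatingGroup (Fin 5) :=
    { toFun := f
      map_one' := he (by rw [hf, map_one]; group)
      map_mul' := fun a c => he (by rw [map_mul e (f a), hf, hf, hf, map_mul]; group) }
  have hα : Function.Bijective α := by
    have hinj : Function.Injective α := fun a c h => by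
      have h' : e (f a) = e (f c) := congrArg e h
      rw [hf, hf] at h'
      exact he (mul_left_cancel (mul_right_cancel h'))
    exact ⟨hinj, Finite.injective_iff_surjective.1 hinj⟩
  obtain ⟨π, hπ⟩ := Perm.AltAut.exists_perm_of_ne_six (n := 5) (by norm_num) (by norm_num) (MulEquiv.ofBijective α hα)
  have hap : ∀ a : alternatingGroup (Fin 5), (f a : Perm (Fin 5)) = π * (a : Perm (Fin 5)) * π⁻¹ := fun a => by
    have := congrArg (fun q : MulAut (alternatingGroup (Fin 5)) => ((q a : alternatingGroup (Fin 5)) : Perm (Fin 5))) hπ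
    simpa [MulAut.conjNormal_apply, α] using this
  have hfb : f β = β := he (by rw [hf, hβ, T.lift_comm_b σ, mul_inv_cancel_right])
  have hfk : f κ = κ * κ := he (by
    rw [hf, hκ, T.lift_inv_k hsign, map_mul, hκ]
    exact (eq_inv_of_mul_eq_one_left (by rw [T.k_cube])).symm)
  have hπb : π * β.1 = β.1 * π := by
    have := hap β
    rw [hfb] at this
    exact mul_inv_eq_iff_eq_mul.1 this.symm
  have hπk : π * κ.1 = κ.1 * κ.1 * π := by
    have := hap κ
    rw [hfk] at this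
    exact mul_inv_eq_iff_eq_mul.1 this.symm
  have hfx : f x = x := Subtype.ext ((hap x).trans (mul_inv_eq_iff_eq_mul.2 (hc π hπb hπk)))
  exact mul_inv_eq_iff_eq_mul.1 (by rw [← hf, hfx])

end Two

end Cfsg.Agent.MTwelve.SwapCase
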