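import Cfsg.Agent.Lib.Spor.MTwelve.SwapCase.Par

/-!
The normaliser of an elementary subgroup of order eight whose involutions are fused.
-/

set_option autoImplicit false

namespace Cfsg.Agent.MTwelve.SwapCase

open CentShape OrderFront

universe u

variable {G : Type u} [Group G]

/-- membership in the elementary subgroup of order eight of two commuting involutions -/
def InPair (a b x : G) : Prop :=
  x * x = 1 ∧ a * x = x * a ∧ b * x = x * b ∧ (x = 1 ∨ x = a ∨ x = b ∨ x = a * b ∨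
    ∀ h : G, h * a = a * h → h * b = b * h → h * x = x * h →
      h = 1 ∨ h = a ∨ h = b ∨ h = a * b ∨ h = x ∨ h = a * x ∨ h = b * x ∨ h = a * b * x)

theorem inPair_swap {a b x : G} (hab : a * b = b * a) (h : InPair a b x) : InPair b a x := by
  obtain ⟨h1, h2, h3, h4⟩ := h
  refine ⟨h1, h3, h2, ?_⟩
  rcases h4 with e | e | e | e | e
  · exact Or.inl e
  · exact Or.inr (Or.inr (Or.inl e))
  · exact Or.inr (Or.inl e)
  · exact Or.inr (Or.inr (Or.inr (Or.inl (e.trans hab))))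
  · refine Or.inr (Or.inr (Or.inr (Or.inr fun g g1 g2 g3 => ?_)))
    rw [← hab]
    rcases e g g2 g1 g3 with r | r | r | r | r | r | r | r <;> simp [r]

theorem inPair_conj {a b x : G} (g : G) (h : InPair a b x) :
    InPair (g * a * g⁻¹) (g * b * g⁻¹) (g * x * g⁻¹) := by
  obtain ⟨h1, h2, h3, h4⟩ := h
  have cm : ∀ p q : G, p * q = q * p → g * p * g⁻¹ * (g * q * g⁻¹) = g * q * g⁻¹ * (g * p * g⁻¹) := fun p q e => by
    rw [show g * p * g⁻¹ * (g * q * g⁻¹) = g * (p * q) * g⁻¹ by group, e]; group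
  refine ⟨?_, cm a x h2, cm b x h3, ?_⟩
  · rw [show g * x * g⁻¹ * (g * x * g⁻¹) = g * (x * x) * g⁻¹ by group, h1]; group
  · rcases h4 with e | e | e | e | e
    · left; rw [e]; group
    · right; left; rw [e]
    · right; right; left; rw [e]
    · right; right; right; left; rw [e]; group
    · right; right; right; right
      intro k k1 k2 k3
      have back : ∀ p : G, k * (g * p * g⁻¹) = g * p * g⁻¹ * k → g⁻¹ * k * g * p = p * (g⁻¹ * k * g) := fun p hp => by
        calc g⁻¹ * k * g * p = g⁻¹ * (k * (g * p * g⁻¹)) * g := by group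
          _ = g⁻¹ * (g * p * g⁻¹ * k) * g := by rw [hp]
          _ = _ := by group
      have fwd : ∀ p : G, g⁻¹ * k * g = p → k = g * p * g⁻¹ := fun p hp => by rw [← hp]; group
      rcases e _ (back _ k1) (back _ k2) (back _ k3) with r | r | r | r | r | r | r | r <;> rw [fwd _ r]
      · exact Or.inl (by group)
      · exact Or.inr (Or.inl rfl)
      · exact Or.inr (Or.inr (Or.inl rfl))
      · exact Or.inr (Or.inr (Or.inr (Or.inl (by group))))
      · exact Or.inr (Or.inr (Or.inr (Or.inr (Or.inl rfl))))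
      · exact Or.inr (Or.inr (Or.inr (Or.inr (Or.inr (Or.inl (by group))))))
      · exact Or.inr (Or.inr (Or.inr (Or.inr (Or.inr (Or.inr (Or.inl (by group)))))))
      · exact Or.inr (Or.inr (Or.inr (Or.inr (Or.inr (Or.inr (Or.inr (by group)))))))

theorem conj_back {f y z : G} (h : f * y * f⁻¹ = z) : f⁻¹ * z * f⁻¹⁻¹ = y := by
  rw [← h]; group

theorem clC_lt : ∀ m : Fin 3, clC m < 7 := by decide

namespace Par

variable {z : G} (P : Par z)

theorem mem_E_pair {n : Fin 3} {x : G} : x ∈ P.E n ↔ InPair z (P.ev (repC n)) x := by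
  have ez1 : comm ez (repC n) = true := (conj_swap_z n).1
  constructor
  · rintro ⟨X, rfl, hX⟩
    rw [inE_iff] at hX
    simp only [inE', Bool.and_eq_true, beq_iff_eq, Bool.or_eq_true, List.contains_iff_mem,
      decide_eq_true_eq, List.mem_cons, List.not_mem_nil, or_false] at hX
    obtain ⟨⟨⟨h1, h2⟩, h3⟩, h4⟩ := hX
    refine ⟨(P.sq_iff X).2 h1, by simpa only [P.ev_z] using (P.comm_iff _ _).2 h2, (P.comm_iff _ _).2 h3, ?_⟩
    rcases h4 with (e | e | e | e) | e
    · exact Or.inl (by rw [e, P.ev_one])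
    · exact Or.inr (Or.inl (by rw [e, P.ev_z]))
    · exact Or.inr (Or.inr (Or.inl (by rw [e])))
    · exact Or.inr (Or.inr (Or.inr (Or.inl (by rw [e, ← P.mul, P.ev_z]))))
    · refine Or.inr (Or.inr (Or.inr (Or.inr fun k k1 k2 k3 => ?_)))
      obtain ⟨H, rfl⟩ := (P.mem k).1 k1
      have := e H (by rw [← P.comm_iff, P.ev_z]; exact k1.symm) ((P.comm_iff _ _).1 k2.symm)
        ((P.comm_iff _ _).1 k3.symm)
      rcases this with r | r | r | r | r | r | r | r <;>
        rw [r] <;> simp [P.ev_one, P.ev_z, ← P.mul]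
  · rintro ⟨h1, h2, h3, h4⟩
    obtain ⟨X, rfl⟩ := (P.mem x).1 h2.symm
    refine ⟨X, rfl, ?_⟩
    rw [inE_iff]
    simp only [inE', Bool.and_eq_true, beq_iff_eq, Bool.or_eq_true, List.contains_iff_mem,
      decide_eq_true_eq, List.mem_cons, List.not_mem_nil, or_false]
    refine ⟨⟨⟨(P.sq_iff X).1 h1, (P.comm_iff _ _).1 (by rw [P.ev_z]; exact h2)⟩, (P.comm_iff _ _).1 h3⟩, ?_⟩
    rcases h4 with e | e | e | e | e
    · exact Or.inl (Or.inl (P.inj (by rw [e, P.ev_one])))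
    · exact Or.inl (Or.inr (Or.inl (P.inj (by rw [e, P.ev_z]))))
    · exact Or.inl (Or.inr (Or.inr (Or.inl (P.inj e))))
    · exact Or.inl (Or.inr (Or.inr (Or.inr (P.inj (by rw [e, ← P.mul, P.ev_z])))))
    · refine Or.inr fun H g1 g2 g3 => ?_
      have := e (P.ev H) (P.commute_z H) ((P.comm_iff _ _).2 g2).symm ((P.comm_iff _ _).2 g3).symm
      rcases this with r | r | r | r | r | r | r | r
      · exact Or.inl (P.inj (by rw [r, P.ev_one]))
      · exact Or.inr (Or.inl (P.inj (by rw [r, P.ev_z])))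
      · exact Or.inr (Or.inr (Or.inl (P.inj r)))
      · exact Or.inr (Or.inr (Or.inr (Or.inl (P.inj (by rw [r, ← P.mul, P.ev_z])))))
      · exact Or.inr (Or.inr (Or.inr (Or.inr (Or.inl (P.inj r)))))
      · exact Or.inr (Or.inr (Or.inr (Or.inr (Or.inr (Or.inl (P.inj (by rw [r, ← P.mul, P.ev_z])))))))
      · exact Or.inr (Or.inr (Or.inr (Or.inr (Or.inr (Or.inr (Or.inl (P.inj (by rw [r, ← P.mul]))))))))
      · exact Or.inr (Or.inr (Or.inr (Or.inr (Or.inr (Or.inr (Or.inr (P.inj (by rw [r, ← P.mul, ← P.mul, P.ev_z]))))))))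

theorem card_cent (X : El) :
    Nat.card ↥(Subgroup.centralizer ({z} : Set G) ⊓ Subgroup.centralizer ({P.ev X} : Set G)) =
      (Finset.univ.filter fun Y : El => comm X Y = true).card := by
  rw [← Nat.card_eq_finsetCard]
  refine (Nat.card_congr (Equiv.ofBijective (fun Y : (Finset.univ.filter fun Y : El => comm X Y = true : Finset El) =>
    (⟨P.ev Y.1, Subgroup.mem_centralizer_singleton_iff.2 (P.commute_z Y.1),
      Subgroup.mem_centralizer_singleton_iff.2 ((P.comm_iff _ _).2 (Finset.mem_filter.1 Y.2).2).symm⟩ :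
      ↥(Subgroup.centralizer ({z} : Set G) ⊓ Subgroup.centralizer ({P.ev X} : Set G))))
    ⟨fun A B h => Subtype.ext (P.inj (congrArg Subtype.val h)), ?_⟩)).symm
  rintro ⟨g, hg, hg'⟩
  obtain ⟨Y, rfl⟩ := (P.mem g).1 (Subgroup.mem_centralizer_singleton_iff.1 hg)
  exact ⟨⟨Y, Finset.mem_filter.2 ⟨Finset.mem_univ _,
    (P.comm_iff _ _).1 (Subgroup.mem_centralizer_singleton_iff.1 hg').symm⟩⟩, rfl⟩

theorem card_pair_conj (a b g : G) :
    Nat.card ↥(Subgroup.centralizer ({g * a * g⁻¹} : Set G) ⊓ Subgroup.centralizer ({g * b * g⁻¹} : Set G)) =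
      Nat.card ↥(Subgroup.centralizer ({a} : Set G) ⊓ Subgroup.centralizer ({b} : Set G)) := by
  rw [← Subgroup.card_map_of_injective (f := (MulAut.conj g).toMonoidHom) (MulAut.conj g).injective
    (K := Subgroup.centralizer ({a} : Set G) ⊓ Subgroup.centralizer ({b} : Set G))]
  refine congrArg (fun H : Subgroup G => Nat.card H) ?_
  have e : ∀ p k : G, k * (g * p * g⁻¹) = g * p * g⁻¹ * k ↔ g⁻¹ * k * g * p = p * (g⁻¹ * k * g) := by
    intro p k
    constructor
    · intro h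
      calc g⁻¹ * k * g * p = g⁻¹ * (k * (g * p * g⁻¹)) * g := by group
        _ = g⁻¹ * (g * p * g⁻¹ * k) * g := by rw [h]
        _ = _ := by group
    · intro h
      calc k * (g * p * g⁻¹) = g * (g⁻¹ * k * g * p) * g⁻¹ := by group
        _ = g * (p * (g⁻¹ * k * g)) * g⁻¹ := by rw [h]
        _ = _ := by group
  ext k
  refine ⟨fun hk => ⟨g⁻¹ * k * g, ?_, by simp [mul_assoc]⟩, ?_⟩
  · obtain ⟨ha, hb⟩ := hk
    exact ⟨Subgroup.mem_centralizer_singleton_iff.2 ((e a k).1 (Subgroup.mem_centralizer_singleton_iff.1 ha)),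
      Subgroup.mem_centralizer_singleton_iff.2 ((e b k).1 (Subgroup.mem_centralizer_singleton_iff.1 hb))⟩
  · rintro ⟨k, ⟨ha, hb⟩, rfl⟩
    simp only [MulEquiv.coe_toMonoidHom, MulAut.conj_apply]
    exact ⟨Subgroup.mem_centralizer_singleton_iff.2 ((e a _).2 (by
        simpa [mul_assoc] using Subgroup.mem_centralizer_singleton_iff.1 ha)),
      Subgroup.mem_centralizer_singleton_iff.2 ((e b _).2 (by
        simpa [mul_assoc] using Subgroup.mem_centralizer_singleton_iff.1 hb))⟩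

/-- the normaliser, as a predicate -/
def Nm (n : Fin 3) (h : G) : Prop := ∀ x, x ∈ P.E n ↔ h * x * h⁻¹ ∈ P.E n

theorem nm_mem {n : Fin 3} {h : G} : P.Nm n h ↔ h ∈ Subgroup.normalizer (P.E n : Set G) :=
  Subgroup.mem_set_normalizer_iff.symm

theorem nm_mul {n : Fin 3} {h k : G} (hh : P.Nm n h) (hk : P.Nm n k) : P.Nm n (h * k) := by
  rw [nm_mem] at hh hk ⊢
  exact mul_mem hh hk

theorem nm_inv {n : Fin 3} {h : G} (hh : P.Nm n h) : P.Nm n h⁻¹ := by
  rw [nm_mem] at hh ⊢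
  exact inv_mem hh

theorem nm_cent {n : Fin 3} {h : G} (hh : h * z = z * h) : P.Nm n h := fun x =>
  ⟨fun hx => P.E_conj hx hh, fun hx => by
    have := P.E_conj hx (h := h⁻¹) (show Commute h⁻¹ z from (show Commute h z from hh).inv_left).eq
    simpa [mul_assoc] using this⟩

/-- The central involution is fused inside the normaliser. -/
def Fused (n : Fin 3) : Prop := ∃ h, P.Nm n h ∧ h * z * h⁻¹ = P.ev (repC n)

theorem fused_of_conj {n : Fin 3} {g : G} (hg : g * z * g⁻¹ = P.ev (repC n)) : P.Fused n := by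
  classical
  have hcw : z * P.ev (repC n) = P.ev (repC n) * z := (P.commute_z _).symm
  set w := P.ev (repC n) with hw
  have hy2 : g⁻¹ * z * g * (g⁻¹ * z * g) = 1 := by
    rw [show g⁻¹ * z * g * (g⁻¹ * z * g) = g⁻¹ * (z * z) * g by group, P.z_sq]; group
  have hyz : g⁻¹ * z * g * z = z * (g⁻¹ * z * g) := by
    calc g⁻¹ * z * g * z = g⁻¹ * (z * (g * z * g⁻¹)) * g := by group
      _ = g⁻¹ * (g * z * g⁻¹ * z) * g := by rw [hg, hcw]
      _ = _ := by group
  have hwz : w ≠ z := (P.lb_ne_z (P.repC_lb n) (by simp [clC])).1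
  have h32 : Nat.card ↥(Subgroup.centralizer ({z} : Set G) ⊓ Subgroup.centralizer ({g⁻¹ * z * g} : Set G)) = 32 := by
    rw [← card_pair_conj z (g⁻¹ * z * g) g, hg, show g * (g⁻¹ * z * g) * g⁻¹ = z by group, inf_comm, hw, P.card_cent]
    exact count_comm.1 n
  obtain ⟨k, hk⟩ : ∃ k, P.Lb (clC k) (g⁻¹ * z * g) := by
    have hnot : ∀ s : Bool, ¬ P.Lb (lab (repT s)) (g⁻¹ * z * g) := by
      intro s hs
      obtain ⟨l, hl, hlx⟩ := P.conj_repT hs
      have h := card_pair_conj z (P.ev (repT s)) l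
      rw [show l * z * l⁻¹ = z by rw [hl, mul_inv_cancel_right], hlx, h32, P.card_cent, count_comm.2 s] at h
      omega
    rcases P.lb_of_invol hyz hy2 with e | e | ⟨m, e⟩ | e | e
    · exfalso
      exact P.z_ne (by
        calc z = g * (g⁻¹ * z * g) * g⁻¹ := by group
          _ = 1 := by rw [e]; group)
    · exfalso
      apply hwz
      rw [← hg]
      conv_lhs => rw [← e]
      group
    · exact ⟨m, e⟩
    · exact absurd e (lab_repT.1 ▸ hnot false)
    · exact absurd e (lab_repT.2 ▸ hnot true)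
  obtain ⟨l, hl, hly⟩ := P.conj_repC hk
  set f := g * l with hf
  have hfz : f * z * f⁻¹ = w := by
    rw [hf, show g * l * z * (g * l)⁻¹ = g * (l * z * l⁻¹) * g⁻¹ by group, hl, mul_inv_cancel_right, hg]
  have hfy : f * P.ev (repC k) * f⁻¹ = z := by
    rw [hf, show g * l * P.ev (repC k) * (g * l)⁻¹ = g * (l * P.ev (repC k) * l⁻¹) * g⁻¹ by group, hly]; group
  have himg : ∀ x, x ∈ P.E k → f * x * f⁻¹ ∈ P.E n := fun x hx => by
    rw [P.mem_E_pair] at hx ⊢
    have := inPair_swap (by rw [hfz, hfy]; exact hcw.symm) (inPair_conj f hx)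
    rwa [hfz, hfy] at this
  have himg' : ∀ x, x ∈ P.E n → f⁻¹ * x * f ∈ P.E k := fun x hx => by
    rw [P.mem_E_pair] at hx ⊢
    have := inPair_conj f⁻¹ (inPair_swap hcw hx)
    rwa [show f⁻¹ * w * f⁻¹⁻¹ = z by rw [← hfz]; group, show f⁻¹ * z * f⁻¹⁻¹ = P.ev (repC k) from (conj_back hfy),
      inv_inv] at this
  obtain ⟨Y, hY, hYne⟩ := other_in_class k
  obtain ⟨X, hX⟩ := SwapCase.conj_repC k Y hY
  set l' := P.ev X
  have hl' : P.Nm n (f * l' * f⁻¹) := by
    intro x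
    constructor
    · intro hx
      have := himg _ (P.E_conj (himg' x hx) (P.commute_z X))
      simpa [l', mul_assoc] using this
    · intro hx
      have h2 := himg' _ hx
      rw [show f⁻¹ * (f * l' * f⁻¹ * x * (f * l' * f⁻¹)⁻¹) * f = l' * (f⁻¹ * x * f) * l'⁻¹ by group] at h2
      have h3 := himg _ (P.E_conj h2 (h := l'⁻¹) (show Commute l'⁻¹ z from (Commute.inv_left (show Commute l' z from P.commute_z X))).eq)
      simpa [mul_assoc] using h3
  set e := f * P.ev Y * f⁻¹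
  have he : e ∈ P.E n := himg _ (P.mem_E_iff.2 (Or.inr (Or.inr ⟨Y, rfl, hY⟩)))
  have hze : f * l' * f⁻¹ * z * (f * l' * f⁻¹)⁻¹ = e := by
    rw [← hfy]
    simp only [e, l', ← hX, ← P.ev_cj]
    group
  rcases P.mem_E_iff.1 he with h1 | h1 | h1
  · exfalso
    have : P.ev Y = 1 := conj_eq_one_iff.1 h1
    exact (P.lb_ne_z (k := clC k) ⟨Y, rfl, hY⟩ (by simp [clC])).2 this
  · exfalso
    refine hYne (P.inj ?_)
    rw [← hfy] at h1
    exact mul_left_cancel (mul_right_cancel h1)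
  · obtain ⟨m, hm, hme⟩ := P.conj_repC h1
    refine ⟨m⁻¹ * (f * l' * f⁻¹), P.nm_mul (P.nm_inv (P.nm_cent hm)) hl', ?_⟩
    calc m⁻¹ * (f * l' * f⁻¹) * z * (m⁻¹ * (f * l' * f⁻¹))⁻¹
        = m⁻¹ * (f * l' * f⁻¹ * z * (f * l' * f⁻¹)⁻¹) * m := by group
      _ = m⁻¹ * (m * w * m⁻¹) * m := by rw [hze, hme]
      _ = w := by group

/-- An involution of the two-core other than the central one gives a fused class. -/
theorem exists_fused {g : G} {q : Q5} (hq : g * z * g⁻¹ = P.ev (inl q)) (hne : g * z * g⁻¹ ≠ z) :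
    ∃ n, P.Fused n := by
  have h2 : P.ev (inl q) * P.ev (inl q) = 1 := by
    rw [← hq, show g * z * g⁻¹ * (g * z * g⁻¹) = g * (z * z) * g⁻¹ by group, P.z_sq]; group
  rcases core_invol q ((P.sq_iff _).1 h2) with e | e | ⟨m, e⟩
  · exfalso
    rw [(lab_zero _).1 e, P.ev_one] at hq
    exact P.z_ne (conj_eq_one_iff.1 hq)
  · exfalso
    rw [(lab_one _).1 e, P.ev_z] at hq
    exact hne hq
  · obtain ⟨l, hl, hlx⟩ := P.conj_repC (m := m) ⟨_, rfl, e⟩
    refine ⟨m, P.fused_of_conj (g := l⁻¹ * g) ?_⟩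
    calc l⁻¹ * g * z * (l⁻¹ * g)⁻¹ = l⁻¹ * (g * z * g⁻¹) * l := by group
      _ = _ := by rw [hq, ← hlx]; group

variable {n : Fin 3}

theorem trans_E (F : P.Fused n) {e : G} (he : e ∈ P.E n) (h1 : e ≠ 1) : ∃ h, P.Nm n h ∧ h * z * h⁻¹ = e := by
  rcases P.mem_E_iff.1 he with rfl | rfl | hl
  · exact absurd rfl h1
  · exact ⟨1, P.nm_cent (by simp), by simp⟩
  · obtain ⟨h, hh, hhz⟩ := F
    obtain ⟨l, hlz, hle⟩ := P.conj_repC hl
    refine ⟨l * h, P.nm_mul (P.nm_cent hlz) hh, ?_⟩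
    rw [show l * h * z * (l * h)⁻¹ = l * (h * z * h⁻¹) * l⁻¹ by group, hhz, hle]

theorem core_cases {m : Fin 3} (hm : m ≠ n) {x : G} (hx : P.Lb (clC m) x) {e : G} (he : e ∈ P.E n) :
    x * e = e * x ∨ x * e = z * (e * x) := by
  obtain ⟨l, hl, rfl⟩ := P.conj_repC hx
  have hlc : l⁻¹ * z = z * l⁻¹ := (show Commute l⁻¹ z from (show Commute l z from hl).inv_left).eq
  obtain ⟨X, hX, hXE⟩ := P.E_conj he (h := l⁻¹) hlc
  rw [inv_inv] at hX
  obtain ⟨hX', -⟩ := inE_core n X hXE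
  rw [hX'] at hXE
  have hle : l * P.ev X * l⁻¹ = e := by rw [hX]; group
  rcases comm_core n m hm _ hXE with h | h
  · left
    rw [← hX'] at h
    have h' := congrArg P.ev h
    rw [← P.mul, ← P.mul] at h'
    calc l * P.ev (repC m) * l⁻¹ * e = l * (P.ev (repC m) * P.ev X) * l⁻¹ := by rw [← hle]; group
      _ = l * (P.ev X * P.ev (repC m)) * l⁻¹ := by rw [h']
      _ = e * (l * P.ev (repC m) * l⁻¹) := by rw [← hle]; group
  · right
    rw [← hX'] at h
    have h' := congrArg P.ev h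
    rw [← P.mul, ← P.mul, ← P.mul, P.ev_z] at h'
    calc l * P.ev (repC m) * l⁻¹ * e = l * (P.ev (repC m) * P.ev X) * l⁻¹ := by rw [← hle]; group
      _ = l * (z * (P.ev X * P.ev (repC m))) * l⁻¹ := by rw [h']
      _ = (l * z) * (P.ev X * P.ev (repC m)) * l⁻¹ := by group
      _ = z * (e * (l * P.ev (repC m) * l⁻¹)) := by rw [hl, ← hle]; group

theorem core_not_mem {m : Fin 3} (hm : m ≠ n) {x : G} (hx : P.Lb (clC m) x) : x ∉ P.E n := by
  intro h
  rcases P.mem_E_iff.1 h with e | e | e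
  · exact (P.lb_ne_z hx (by simp [clC])).2 e
  · exact (P.lb_ne_z hx (by simp [clC])).1 e
  · have := congrArg Fin.val (P.lb_unique hx e)
    simp only [clC] at this
    exact hm (Fin.ext (by omega))

/-- An element of the normaliser carrying a class of the core into the core fixes the central involution. -/
theorem nm_fix {m m' : Fin 3} (hm : m ≠ n) {x h : G} (hx : P.Lb (clC m) x) (hh : P.Nm n h)
    (hx' : P.Lb (clC m') (h * x * h⁻¹)) : h * z = z * h := by
  by_cases hm' : m' = n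
  · subst hm'
    exact absurd ((hh x).2 (P.mem_E_iff.2 (Or.inr (Or.inr hx')))) (P.core_not_mem hm hx)
  · obtain ⟨e, he, hne⟩ : ∃ e ∈ P.E n, x * e ≠ e * x := by
      by_contra hc
      push Not at hc
      exact P.core_not_mem hm hx (P.E_self_cent fun e he => (hc e he).symm)
    have h1 := (P.core_cases hm hx he).resolve_left hne
    have h2 : h * x * h⁻¹ * (h * e * h⁻¹) = h * z * h⁻¹ * (h * e * h⁻¹ * (h * x * h⁻¹)) := by
      rw [show h * x * h⁻¹ * (h * e * h⁻¹) = h * (x * e) * h⁻¹ by group, h1]; group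
    rcases P.core_cases hm' hx' ((hh e).1 he) with h3 | h3
    · exfalso
      apply hne
      rw [show h * x * h⁻¹ * (h * e * h⁻¹) = h * (x * e) * h⁻¹ by group,
        show h * e * h⁻¹ * (h * x * h⁻¹) = h * (e * x) * h⁻¹ by group] at h3
      exact mul_left_cancel (mul_right_cancel h3)
    · rw [h3] at h2
      exact mul_inv_eq_iff_eq_mul.1 (mul_right_cancel h2).symm

theorem nm_core_class {m m' : Fin 3} (hm : m ≠ n) {x h : G} (hx : P.Lb (clC m) x) (hh : P.Nm n h)
    (hx' : P.Lb (clC m') (h * x * h⁻¹)) : m' = m := by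
  have := congrArg Fin.val (P.lb_unique hx' (P.lb_conj hx (P.nm_fix hm hx hh hx')))
  simp only [clC] at this
  exact Fin.ext (by omega)

theorem core_to_outer (F : P.Fused n) {m : Fin 3} (hm : m ≠ n) :
    ∃ h, P.Nm n h ∧ ∃ s : Bool, P.Lb (lab (repT s)) (h * P.ev (repC m) * h⁻¹) := by
  obtain ⟨q, -, -, r, hr, hr1, hrz, hrc⟩ := noncomm_core n m hm
  set e := P.ev (inl r)
  have he : e ∈ P.E n := ⟨_, rfl, hr⟩
  obtain ⟨h, hh, hhe⟩ := P.trans_E F he fun e1' => hr1 (P.inj (e1'.trans P.ev_one.symm))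
  refine ⟨h⁻¹, P.nm_inv hh, ?_⟩
  set x := h⁻¹ * P.ev (repC m) * h⁻¹⁻¹ with hxdef
  have hxz : x * z = z * x := by
    have hc := (P.comm_iff _ _).2 hrc
    calc x * z = h⁻¹ * (P.ev (repC m) * (h * z * h⁻¹)) * h := by rw [hxdef]; group
      _ = h⁻¹ * (h * z * h⁻¹ * P.ev (repC m)) * h := by rw [hhe, hc]
      _ = _ := by rw [hxdef]; group
  have hx2 : x * x = 1 := by
    have := P.lb_sq (P.repC_lb m) (clC_lt m)
    rw [hxdef, show h⁻¹ * P.ev (repC m) * h⁻¹⁻¹ * (h⁻¹ * P.ev (repC m) * h⁻¹⁻¹) =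
      h⁻¹ * (P.ev (repC m) * P.ev (repC m)) * h by group, this]
    group
  have hxE : x ∉ P.E n := fun hc => P.core_not_mem hm (P.repC_lb m) ((P.nm_inv hh _).2 hc)
  rcases P.lb_of_invol hxz hx2 with e' | e' | ⟨m', e'⟩ | e' | e'
  · exact absurd (by rw [e']; exact one_mem _) hxE
  · exact absurd (show x ∈ P.E n by rw [e']; exact P.z_mem_E n) hxE
  · exfalso
    have hfix := P.nm_fix hm (P.repC_lb m) (P.nm_inv hh) e'
    apply hrz
    refine P.inj ?_
    rw [P.ev_z]
    calc e = h * z * h⁻¹ := hhe.symm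
      _ = h * (z * h⁻¹) := by group
      _ = h * (h⁻¹ * z) := by rw [hfix]
      _ = z := by group
  · exact ⟨false, lab_repT.1 ▸ e'⟩
  · exact ⟨true, lab_repT.2 ▸ e'⟩

/-- The pairing of the two outer classes with the two classes of the core. -/
theorem pairing (F : P.Fused n) {a b : Fin 3} (ha : a ≠ n) (hb : b ≠ n) (hab : a ≠ b) :
    ∃ s : Bool, (∃ h, P.Nm n h ∧ P.Lb (lab (repT s)) (h * P.ev (repC a) * h⁻¹)) ∧
      ∃ h, P.Nm n h ∧ P.Lb (lab (repT !s)) (h * P.ev (repC b) * h⁻¹) := by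
  obtain ⟨h, hh, s, hs⟩ := P.core_to_outer F ha
  obtain ⟨k, hk, t, ht⟩ := P.core_to_outer F hb
  refine ⟨s, ⟨h, hh, hs⟩, k, hk, ?_⟩
  by_cases hst : t = s
  · subst hst
    exfalso
    obtain ⟨l1, hl1, e1'⟩ := P.conj_repT hs
    obtain ⟨l2, hl2, e2⟩ := P.conj_repT ht
    have hnm : P.Nm n (k⁻¹ * (l2 * l1⁻¹) * h) :=
      P.nm_mul (P.nm_mul (P.nm_inv hk) (P.nm_mul (P.nm_cent hl2) (P.nm_inv (P.nm_cent hl1)))) hh
    refine hab (P.nm_core_class ha (P.repC_lb a) hnm (m' := b) ?_).symm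
    rw [show k⁻¹ * (l2 * l1⁻¹) * h * P.ev (repC a) * (k⁻¹ * (l2 * l1⁻¹) * h)⁻¹ =
      k⁻¹ * (l2 * (l1⁻¹ * (h * P.ev (repC a) * h⁻¹) * l1) * l2⁻¹) * k by group, ← e1',
      show l1⁻¹ * (l1 * P.ev (repT t) * l1⁻¹) * l1 = P.ev (repT t) by group, e2,
      show k⁻¹ * (k * P.ev (repC b) * k⁻¹) * k = P.ev (repC b) by group]
    exact P.repC_lb b
  · cases s <;> cases t <;> simp_all

/-- The normaliser meets the centraliser of an involution of the core in the given centraliser. -/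
theorem cent_nm {m : Fin 3} (hm : m ≠ n) {x h : G} (hx : P.Lb (clC m) x) (hh : P.Nm n h) (hc : h * x = x * h) :
    h * z = z * h := by
  refine P.nm_fix hm hx hh (m' := m) ?_
  rwa [hc, mul_inv_cancel_right]

end Par

end Cfsg.Agent.MTwelve.SwapCase
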