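import Cfsg.Agent.Lib.Spor.MTwelve.CentShape.Checks

/-!
Finite checks on the normal forms of the second shape of the involution centraliser: classes of involutions, the
elementary subgroups of order eight and sixteen.
-/

set_option autoImplicit false
set_option maxRecDepth 100000
set_option synthInstance.maxHeartbeats 400000
set_option synthInstance.maxSize 1024

namespace Cfsg.Agent.MTwelve.SwapCase

open CentShape

/-- the product -/
abbrev em (X Y : El) : El := emul true false X Y

/-- the inverse -/
def einv (X : El) : El :=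
  em (em (q1, 0, X.2.2) (q1, -X.2.1, false))
    (inl (X.1.1 ^^ (decide (X.1.2.1 ≠ 0) ^^ decide (X.1.2.2 ≠ 0)), X.1.2))

/-- conjugation -/
def cj (X Y : El) : El := em (em X Y) (einv X)

/-- the class: neutral, central involution, three classes in the core, two outside, others -/
def lab (X : El) : Fin 8 :=
  if X = e1 then 0 else if X = ez then 1 else
  if X.2.2 then
    if X.1.2.1.val = 0 ∧ X.1.2.2.val = 0 ∨
      X.1.2.1.val ≠ 0 ∧ X.1.2.2.val ≠ 0 ∧ (X.1.2.1.val + X.1.2.2.val) % 3 = (2 + X.2.1.val) % 3 then
      if X.1.1 then 6 else 5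
    else 7
  else
    if X.2.1 = 0 ∧ X.1.2.1 ≠ 0 ∧ X.1.2.2 ≠ 0 then
      if X.1.2.2 = X.1.2.1 then 2 else if X.1.2.2 = rot X.1.2.1 then 3 else 4
    else 7

/-- the label of a class in the core -/
def clC (m : Fin 3) : Fin 8 := ⟨2 + m.val, by omega⟩

/-- a representative of a class in the core -/
def repC (m : Fin 3) : El := inl (false, 1, (rot^[m.val]) 1)

/-- representatives of the outer classes -/
def repT (s : Bool) : El := ((s, 0, 0), 0, true)

theorem em_einv : ∀ X : El, em X (einv X) = e1 := by decide +kernel

theorem em_one : ∀ X : El, em X e1 = X := by decide +kernel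

theorem sq_iff : ∀ X : El, em X X = e1 ↔ lab X < 7 := by decide +kernel

theorem lab_zero : ∀ X : El, lab X = 0 ↔ X = e1 := by decide +kernel

theorem lab_one : ∀ X : El, lab X = 1 ↔ X = ez := by decide +kernel

theorem decomp : ∀ X : El, em (inl X.1) (q1, X.2) = X := by decide +kernel

theorem lab_cj_gen : ∀ p : Fin 4, ∀ Y : El, lab (cj (inl (false, p, 0)) Y) = lab Y ∧
    lab (cj (inl (false, 0, p)) Y) = lab Y := by decide +kernel

theorem lab_cj_out : ∀ s : Fin 3 × Bool, ∀ Y : El, lab (cj (q1, s) Y) = lab Y := by decide +kernel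

theorem lab_cj_z : ∀ Y : El, cj ez Y = Y := by decide +kernel

theorem decomp_core : ∀ q : Q5, em (em (cond q.1 ez e1) (inl (false, q.2.1, 0))) (inl (false, 0, q.2.2)) = inl q := by
  decide +kernel

theorem lab_repC : ∀ m : Fin 3, lab (repC m) = clC m := by decide +kernel

theorem lab_repT : lab (repT false) = 5 ∧ lab (repT true) = 6 := by decide +kernel

theorem conj_repC : ∀ m : Fin 3, ∀ Y : El, lab Y = clC m → ∃ X, cj X (repC m) = Y := by decide +kernel

theorem conj_repT : ∀ s : Bool, ∀ Y : El, lab Y = lab (repT s) → ∃ X, cj X (repT s) = Y := by decide +kernel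

/-- the elementary subgroup of order eight belonging to a class in the core -/
def inE (n : Fin 3) (X : El) : Bool := lab X == 0 || lab X == 1 || lab X == clC n

/-- commuting -/
def comm (X Y : El) : Bool := em X Y == em Y X

/-- membership in the elementary subgroup, in terms of two of its involutions -/
def inE' (W X : El) : Bool :=
  em X X == e1 && comm ez X && comm W X &&
    ([e1, ez, W, em ez W].contains X ||
      decide (∀ H : El, comm ez H = true → comm W H = true → comm X H = true →
        [e1, ez, W, em ez W, X, em ez X, em W X, em (em ez W) X].contains H = true))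

theorem inE_iff : ∀ n : Fin 3, ∀ X : El, inE n X = inE' (repC n) X := by decide +kernel

theorem inE_closed : ∀ n : Fin 3, ∀ p q : Q5, inE n (inl p) = true → inE n (inl q) = true →
    inE n (em (inl p) (inl q)) = true ∧ comm (inl p) (inl q) = true := by decide +kernel

theorem inE_core : ∀ n : Fin 3, ∀ X : El, inE n X = true → X = inl X.1 ∧ em X X = e1 := by decide +kernel

theorem inE_count : ∀ n : Fin 3, (Finset.univ.filter fun X : El => inE n X = true).card = 8 := by decide +kernel

theorem inE_self_cent : ∀ n : Fin 3, ∀ X : El,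
    (∀ q : Q5, inE n (inl q) = true → comm (inl q) X = true) → inE n X = true := by decide +kernel

theorem core_invol : ∀ q : Q5, em (inl q) (inl q) = e1 → lab (inl q) = 0 ∨ lab (inl q) = 1 ∨
    ∃ m : Fin 3, lab (inl q) = clC m := by decide +kernel

/-- Commutators of an involution in the core with an elementary subgroup not containing it. -/
theorem comm_core : ∀ n m : Fin 3, m ≠ n → ∀ q : Q5, inE n (inl q) = true →
    em (repC m) (inl q) = em (inl q) (repC m) ∨ em (repC m) (inl q) = em ez (em (inl q) (repC m)) := by
  decide +kernel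

theorem noncomm_core : ∀ n m : Fin 3, m ≠ n → ∃ q : Q5, inE n (inl q) = true ∧
    em (repC m) (inl q) = em ez (em (inl q) (repC m)) ∧ ∃ r : Q5, inE n (inl r) = true ∧
    inl r ≠ e1 ∧ inl r ≠ ez ∧ comm (repC m) (inl r) = true := by
  decide +kernel

theorem fixed_in_E : ∀ n : Fin 3, ∀ X : El, em X X = e1 → ∃ q : Q5, inE n (inl q) = true ∧
    inl q ≠ e1 ∧ comm X (inl q) = true := by decide +kernel

/-- the eighth power -/
def p8 (X : El) : El :=
  let Y := em X X
  let Z := em Y Y
  em Z Z

theorem cent_two_group : ∀ Y : El, (∀ m : Fin 3, comm (repC m) Y = true → p8 Y = e1) ∧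
    ∀ s : Bool, comm (repT s) Y = true → p8 Y = e1 := by decide +kernel

theorem count_comm : (∀ m : Fin 3, (Finset.univ.filter fun Y : El => comm (repC m) Y = true).card = 32) ∧
    ∀ s : Bool, (Finset.univ.filter fun Y : El => comm (repT s) Y = true).card = 16 := by decide +kernel

theorem other_in_class : ∀ m : Fin 3, ∃ Y : El, lab Y = clC m ∧ Y ≠ repC m := by decide +kernel

theorem conj_swap_z : ∀ m : Fin 3, comm ez (repC m) = true ∧ em ez (repC m) ≠ ez := by decide +kernel

end Cfsg.Agent.MTwelve.SwapCase
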