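import Cfsg.Agent.Lib.Spor.MTwelve.SwapCase.ModelA

/-!
Finite checks on the normal forms: the centraliser of an involution of the second class inside the centraliser of the
central involution.
-/

set_option autoImplicit false
set_option maxRecDepth 100000
set_option synthInstance.maxHeartbeats 400000
set_option synthInstance.maxSize 1024

namespace Cfsg.Agent.MTwelve.SwapCase

open CentShape

/-- the chosen involution of the second class -/
def eb : El := repC 0

/-- its companion, with product the central involution -/
def eb' : El := inl (true, 1, 1)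

/-- first further involution of the first triangle -/
def ev0 : El := repT false

/-- second further involution of the first triangle -/
def ev1 : El := em eb ev0

/-- first further involution of the second triangle -/
def ep0 : El := ((false, 2, 3), 0, true)

/-- second further involution of the second triangle -/
def ep1 : El := ((false, 3, 2), 0, true)

/-- an involution exchanging the further involutions of both triangles -/
def eu : El := inl (false, 2, 2)

/-- the second class, on labels -/
def bLab (X : El) : Bool := lab X == 2 || lab X == 5

/-- the first class, on labels -/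
def xLab (X : El) : Bool := lab X == 1 || lab X == 3 || lab X == 4 || lab X == 6

theorem bAList : ∀ X : El,
    (inA X && bLab X) = [eb, ev0, ev1, eb', ep0, ep1].contains X := by decide +kernel

theorem table_A : em eb eb' = ez ∧ em eb ev0 = ev1 ∧ em eb' ep0 = ep1 ∧ em ep0 ep1 = eb' ∧
    bLab ev1 = true ∧ bLab ep1 = true ∧ inA eb = true ∧ inA eb' = true ∧ inA ev0 = true ∧ inA ep0 = true ∧
    bLab eb = true ∧ bLab eb' = true ∧ bLab ev0 = true ∧ bLab ep0 = true := by decide +kernel

theorem cross_X : ∀ X ∈ [eb, ev0, ev1], ∀ Y ∈ [eb', ep0, ep1], xLab (em X Y) = true := by decide +kernel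

theorem same_B : ∀ X ∈ [eb, ev0, ev1], ∀ Y ∈ [eb, ev0, ev1], X ≠ Y → bLab (em X Y) = true := by decide +kernel

theorem same_B' : ∀ X ∈ [eb', ep0, ep1], ∀ Y ∈ [eb', ep0, ep1], X ≠ Y → bLab (em X Y) = true := by decide +kernel

theorem not_both : ∀ X : El, bLab X = true → xLab X = false := by decide +kernel

theorem fourA : ∀ X : El, inA X = true → ∃ V ∈ [e1, eb, ev0, ev1], ∃ W ∈ [e1, eb', ep0, ep1], em V W = X := by
  decide +kernel

theorem eu_facts : em eu eu = e1 ∧ inS eu = true ∧ inA eu = false ∧ comm eb eu = true ∧ comm eb' eu = true ∧
    bLab eu = true ∧ bLab (em eb eu) = true ∧ cj eu ev0 = ev1 ∧ cj eu ep0 = ep1 ∧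
    em (em ev0 eu) (em ev0 eu) = eb := by decide +kernel

theorem cent_eb : ∀ X : El, comm eb X = true → inS X = true ∧ comm eb' X = true ∧
    ∃ W : Bool, inA (em X (cond W eu e1)) = true := by decide +kernel

theorem cent_eb_count : (Finset.univ.filter fun X : El => comm eb X = true).card = 32 := by decide +kernel

theorem inA_comm_eb : ∀ X : El, inA X = true → comm eb X = true := by decide +kernel


theorem cent_eu_count : (Finset.univ.filter fun X : El => comm eb X = true ∧ comm eu X = true).card = 8 := by
  decide +kernel

/-- the four-group of the second triangle times the involution of the second class -/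
def inA1 (X : El) : Bool :=
  [e1, eb, eb', em eb eb', ep0, em eb ep0, ep1, em eb ep1].contains X

/-- a subgroup of index two in the centraliser of two involutions -/
def inM (X : El) : Bool := inA1 X || inA1 (em X (em ev0 eu))

theorem inA1_closed : ∀ a b : Q5, ∀ l l' : Bool, inA1 (a, 0, l) = true → inA1 (b, 0, l') = true →
    inA1 (em (a, 0, l) (b, 0, l')) = true := by decide +kernel

theorem inM_closed : ∀ a b : Q5, ∀ l l' : Bool, inM (a, 0, l) = true → inM (b, 0, l') = true →
    inM (em (a, 0, l) (b, 0, l')) = true := by decide +kernel

theorem inM_facts : ∀ X : El, (inM X = true → comm eb X = true ∧ X = (X.1, 0, X.2.2) ∧ inM (einv X) = true) ∧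
    (inA1 X = true → inM X = true ∧ inA X = true ∧ inA1 (einv X) = true ∧
      ¬ (bLab X = true ∧ bLab (em eb X) = true)) := by decide +kernel

theorem inM_invol : ∀ X : El, inM X = true → em X X = e1 → ¬ (bLab X = true ∧ bLab (em eb X) = true) := by
  decide +kernel

theorem inM_counts : (Finset.univ.filter fun X : El => inM X = true).card = 16 ∧
    (Finset.univ.filter fun X : El => inA1 X = true).card = 8 ∧ inM ev0 = false ∧
    inA1 eu = false ∧ inA1 (em ev0 eu) = false ∧ inM eu = false := by decide +kernel

theorem cent_split : ∀ X : El, comm eb X = true →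
    ∃ a : Bool, ∃ c : Bool, inA1 (em (em X (cond a ev0 e1)) (cond c eu e1)) = true := by decide +kernel

theorem cent_centre : ∀ X : El, comm eb X = true → (∀ q : Q5, ∀ l : Bool, comm eb (q, 0, l) = true →
    comm X (q, 0, l) = true) → X = e1 ∨ X = eb ∨ X = eb' ∨ X = ez := by decide +kernel

end Cfsg.Agent.MTwelve.SwapCase
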