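import Cfsg.Agent.Lib.Spor.MTwelve.SwapCase.ModelB

/-!
Finite checks: generation of the centraliser by two centralisers, classes meeting the subgroup of order sixteen.
-/

set_option autoImplicit false
set_option maxRecDepth 100000
set_option synthInstance.maxHeartbeats 400000
set_option synthInstance.maxSize 1024

namespace Cfsg.Agent.MTwelve.SwapCase

open CentShape

/-- product of an element commuting with `eb`, one with `eu` and one with `eb` -/
def Reach (X : El) : Prop :=
  ∃ Y : El, comm eu Y = true ∧ ∃ W : El, comm eb W = true ∧ comm eb (em (em (einv Y) (einv W)) X) = true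

theorem reach_core1 : ∀ a : Bool, ∀ p : Fin 4, Reach (cond a ez e1) ∧ Reach (inl (false, p, 0)) ∧
    Reach (inl (false, 0, p)) := by unfold Reach; decide +kernel

theorem reach_out : ∀ s : Fin 3 × Bool, Reach (q1, s) := by unfold Reach; decide +kernel

theorem inA_labels : (∃ X : El, inA X = true ∧ lab X = 3) ∧ (∃ X : El, inA X = true ∧ lab X = 4) ∧
    ∃ X : El, inA X = true ∧ lab X = 6 := by decide +kernel

theorem cent_invol_labels : ∀ X : El, em X X = e1 → X = e1 ∨ X = ez ∨ lab X = clC 0 ∨ lab X = clC 1 ∨ lab X = clC 2 ∨
    lab X = lab (repT false) ∨ lab X = lab (repT true) := by decide +kernel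

end Cfsg.Agent.MTwelve.SwapCase
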