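import Cfsg.Agent.Lib.Spor.MTwelve.SwapCase.CompK

/-!
The normaliser of the A4/A5 subgroup as a group of permutations of four or five letters.
-/

set_option autoImplicit false
set_option linter.style.haveILetI false
set_option maxRecDepth 100000
set_option synthInstance.maxHeartbeats 400000
set_option synthInstance.maxSize 8192

namespace Cfsg.Agent.MTwelve.SwapCase

open CentShape OrderFront Equiv

universe u

theorem perm_invol_conj : (∀ a c : Perm (Fin 4), a * a = 1 → c * c = 1 → a ≠ 1 → c ≠ 1 → Perm.sign a = 1 →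
      Perm.sign c = 1 → ∃ g : Perm (Fin 4), Perm.sign g = 1 ∧ g * a = c * g) ∧
    ∀ a c : Perm (Fin 5), a * a = 1 → c * c = 1 → a ≠ 1 → c ≠ 1 → Perm.sign a = 1 →
      Perm.sign c = 1 → ∃ g : Perm (Fin 5), Perm.sign g = 1 ∧ g * a = c * g := by decide +kernel

theorem perm_three_conj : (∀ a c : Perm (Fin 4), a * a * a = 1 → c * c * c = 1 → a ≠ 1 → c ≠ 1 →
      ∃ g : Perm (Fin 4), Perm.sign g = 1 ∧ (g * a = c * g ∨ g * a = c * c * g)) ∧
    ∀ a c : Perm (Fin 5), a * a * a = 1 → c * c * c = 1 → a ≠ 1 → c ≠ 1 →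
      ∃ g : Perm (Fin 5), Perm.sign g = 1 ∧ (g * a = c * g ∨ g * a = c * c * g) := by decide +kernel

theorem perm_rigid : (∀ w : Perm (Fin 4), w * w * w = 1 → w ≠ 1 → ∀ s : Perm (Fin 4), s * w = w * s → s * s = 1 →
      s ≠ 1 → ∀ a : Perm (Fin 4), s * a = a * s → a * a = 1 → Perm.sign a = 1 → a * w = w * a ∨ a * w = w * w * a) ∧
    ∀ w : Perm (Fin 5), w * w * w = 1 → w ≠ 1 → ∀ s : Perm (Fin 5), s * w = w * s → s * s = 1 →
      s ≠ 1 → ∀ a : Perm (Fin 5), s * a = a * s → a * a = 1 → Perm.sign a = 1 → a * w = w * a ∨ a * w = w * w * a := by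
  decide +kernel

theorem perm_three_fix : (∀ s : Perm (Fin 4), s * s * s = 1 → s ≠ 1 →
      ∀ a : Perm (Fin 4), s * a = a * s → a * a = 1 → Perm.sign a = 1 → a = 1) ∧
    ∀ s : Perm (Fin 5), s * s * s = 1 → s ≠ 1 →
      ∀ a : Perm (Fin 5), s * a = a * s → a * a = 1 → Perm.sign a = 1 → a = 1 := by decide +kernel

variable {G : Type u} [Group G] [Finite G] {z : G} {P : Par z}

namespace Two

variable (T : Two P)

/-- the normaliser of the A4/A5 subgroup -/
def N0 : Subgroup G := Subgroup.normalizer (T.K0 : Set G)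

theorem C_le_N0 : T.C ≤ T.N0 := fun h hh => Subgroup.mem_set_normalizer_iff.2 fun a => ⟨T.K0_conj hh, fun ha => by
  have := T.K0_conj (inv_mem hh) ha
  rwa [show h⁻¹ * (h * a * h⁻¹) * h⁻¹⁻¹ = a by group] at this⟩

theorem K0_le_N0 : T.K0 ≤ T.N0 := T.K0_le_C.trans T.C_le_N0

/-- a faithful representation on four or five letters -/
structure Phi (T : Two P) where
  /-- the number of letters -/
  m : ℕ
  hm : (m = 4 ∧ Nat.card T.K0 = 12) ∨ (m = 5 ∧ Nat.card T.K0 = 60)
  /-- the representation -/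
  f : T.N0 →* Perm (Fin m)
  inj : ∀ a : T.N0, (a : G) ∈ T.K0 → f a = 1 → a = 1
  img : ∀ σ : Perm (Fin m), Perm.sign σ = 1 ↔ ∃ a : T.N0, (a : G) ∈ T.K0 ∧ f a = σ

theorem exists_phi : Nonempty (Phi T) := by
  classical
  obtain ⟨-, -, -, hK⟩ := T.K0_facts
  obtain ⟨-, hyo, -, -, y1, y2, y3⟩ := T.y_spec
  let yK : T.K0 := ⟨T.y, T.y_mem_K0⟩
  let bK : T.K0 := ⟨T.b', T.tri2_mem_K0 (Or.inl rfl)⟩
  have hybne : yK * bK * yK⁻¹ * bK⁻¹ ∉ Subgroup.zpowers yK := by
    intro h
    have hd := (Subgroup.zpowers yK).orderOf_dvd_natCard h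
    have h2 : orderOf (yK * bK * yK⁻¹ * bK⁻¹) = 2 := by
      have e : T.y * T.b' * T.y⁻¹ * T.b'⁻¹ = P.ev (em ep0 eb') := by
        rw [y1, inv_eq_of_mul_eq_one_right (P.A_sq T.bmem.2.1), ← P.mul]; rfl
      rw [← Subgroup.orderOf_coe]
      push_cast
      show orderOf (T.y * T.b' * T.y⁻¹ * T.b'⁻¹) = 2
      rw [e]
      refine orderOf_eq_prime (by rw [sq, P.sq_iff]; decide) fun h => ?_
      exact absurd (P.inj (h.trans P.ev_one.symm)) (by decide)
    rw [Nat.card_zpowers, h2, Subgroup.orderOf_mk, hyo] at hd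
    norm_num at hd
  have main : ∀ (p : ℕ) (m : ℕ) [Fact p.Prime],
      ((m = 4 ∧ Nat.card T.K0 = 12) ∨ (m = 5 ∧ Nat.card T.K0 = 60)) → Nat.card (Sylow p T.K0) = m →
      (∀ a : T.K0, (∀ S : Sylow p T.K0, a • S = S) → a = 1) → Nonempty (Phi T) := by
    intro p m _ hm hcard hker
    let ι : Sylow p T.K0 ≃ Fin m := Finite.equivFinOfCardEq hcard
    let f : T.N0 →* Perm (Fin m) := (ι.permCongrHom.toMonoidHom.comp (MulAction.toPermHom (MulAut T.K0) (Sylow p T.K0))).comp
      (Subgroup.normalizerMonoidHom (H := T.K0))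
    have hrestr : ∀ (a : T.K0) (S : Sylow p T.K0),
        (Subgroup.normalizerMonoidHom (H := T.K0)) ⟨a, T.K0_le_N0 a.2⟩ • S = a • S := by
      intro a S
      rw [Sylow.smul_def]
      congr 1
      ext x
      rfl
    have hinj : ∀ a : T.N0, (a : G) ∈ T.K0 → f a = 1 → a = 1 := by
      intro a ha hfa
      have := hker ⟨a, ha⟩ fun S => by
        have h : ι ((Subgroup.normalizerMonoidHom (H := T.K0)) a • ι.symm (ι S)) = ι S :=
          congrArg (fun q : Perm (Fin m) => q (ι S)) hfa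
        rw [Equiv.symm_apply_apply] at h
        rw [← hrestr ⟨a, ha⟩ S]
        exact ι.injective h
      exact Subtype.ext (congrArg Subtype.val this :)
    let j : T.K0 →* Perm (Fin m) := f.comp (Subgroup.inclusion T.K0_le_N0)
    have hj : Function.Injective j := (injective_iff_map_eq_one j).2 fun a ha =>
      Subtype.ext (congrArg Subtype.val (hinj _ a.2 ha) :)
    have himg : j.range = alternatingGroup (Fin m) := by
      refine Equiv.Perm.eq_alternatingGroup_of_index_eq_two ?_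
      have h := j.range.card_mul_index
      rw [Nat.card_perm, Nat.card_fin, ← Nat.card_congr (MonoidHom.ofInjective hj).toEquiv] at h
      rcases hm with ⟨rfl, e⟩ | ⟨rfl, e⟩ <;> rw [e] at h <;> simp [Nat.factorial] at h <;> omega
    refine ⟨⟨m, hm, f, hinj, fun σ => ?_⟩⟩
    rw [← Equiv.Perm.mem_alternatingGroup, ← himg]
    exact ⟨fun ⟨a, ha⟩ => ⟨⟨a, T.K0_le_N0 a.2⟩, a.2, ha⟩, fun ⟨a, ha, hσ⟩ => ⟨⟨a, ha⟩, hσ⟩⟩
  rcases hK with h12 | ⟨h60, hs⟩
  · haveI : Fact (Nat.Prime 3) := ⟨Nat.prime_three⟩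
    have hS : ∀ S : Sylow 3 T.K0, Nat.card S = 3 := fun S => by
      rw [S.card_eq_multiplicity, h12, show (12 : ℕ) = 4 * 3 from rfl, Nat.factorization_mul (by norm_num) (by norm_num),
        Finsupp.add_apply, Nat.prime_three.factorization_self,
        Nat.factorization_eq_zero_of_not_dvd (by norm_num : ¬ 3 ∣ 4)]
      norm_num
    obtain ⟨S, hS'⟩ := (IsPGroup.of_card (n := 1) (by rw [Nat.card_zpowers, Subgroup.orderOf_mk, hyo, pow_one]) :
      IsPGroup 3 (Subgroup.zpowers yK)).exists_le_sylow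
    have hSy : Subgroup.zpowers yK = (S : Subgroup T.K0) := Subgroup.eq_of_le_of_card_ge hS'
      (by rw [hS S, Nat.card_zpowers, Subgroup.orderOf_mk, hyo])
    have hidx := (S : Subgroup T.K0).card_mul_index
    rw [show Nat.card (S : Subgroup T.K0) = 3 from hS S, h12] at hidx
    have hd : Nat.card (Sylow 3 T.K0) ∣ 4 := by
      have := S.card_dvd_index
      rwa [show (S : Subgroup T.K0).index = 4 by omega] at this
    have hmod := card_sylow_modEq_one 3 T.K0
    have hne : Nat.card (Sylow 3 T.K0) ≠ 1 := by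
      intro h1
      haveI : Subsingleton (Sylow 3 T.K0) := (Nat.card_eq_one_iff_unique.1 h1).1
      haveI hn : (S : Subgroup T.K0).Normal := S.normal_of_subsingleton
      apply hybne
      rw [hSy, show yK * bK * yK⁻¹ * bK⁻¹ = yK * (bK * yK⁻¹ * bK⁻¹) by group]
      exact mul_mem (hS' (Subgroup.mem_zpowers _)) (hn.conj_mem _ (inv_mem (hS' (Subgroup.mem_zpowers _))) _)
    have h4 : Nat.card (Sylow 3 T.K0) = 4 := by
      obtain ⟨k, hk, hk'⟩ := (Nat.dvd_prime_pow Nat.prime_two).1 (by simpa using hd : _ ∣ 2 ^ 2)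
      rw [Nat.ModEq] at hmod
      interval_cases k <;> simp_all
    refine main 3 4 (Or.inl ⟨rfl, h12⟩) h4 fun a ha => ?_
    have hmemN : ∀ S : Sylow 3 T.K0, a ∈ (S : Subgroup T.K0) := by
      intro S
      have hN : a ∈ Subgroup.normalizer ((S : Subgroup T.K0) : Set T.K0) := Sylow.smul_eq_iff_mem_normalizer.1 (ha S)
      have hle : ((S : Subgroup T.K0)) ≤ Subgroup.normalizer ((S : Subgroup T.K0) : Set T.K0) := Subgroup.le_normalizer
      have hi := S.card_eq_index_normalizer
      have hc := (Subgroup.normalizer ((S : Subgroup T.K0) : Set T.K0)).card_mul_index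
      replace hc : Nat.card (Subgroup.normalizer ((S : Subgroup T.K0) : Set T.K0)) * 4 = 12 := by
        rw [← h4, hi]; exact hc.trans h12
      rw [Subgroup.eq_of_le_of_card_ge hle (by rw [show Nat.card (S : Subgroup T.K0) = 3 from hS S]; omega)]
      exact hN
    obtain ⟨S', hne'⟩ : ∃ S' : Sylow 3 T.K0, S' ≠ S := by
      by_contra h
      push Not at h
      haveI : Subsingleton (Sylow 3 T.K0) := ⟨fun x y => (h x).trans (h y).symm⟩
      have := Finite.card_le_one_iff_subsingleton.2 (inferInstance : Subsingleton (Sylow 3 T.K0))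
      omega
    by_contra ha1
    apply hne'
    have key : ∀ S : Sylow 3 T.K0, Subgroup.zpowers a = (S : Subgroup T.K0) := fun S => by
      refine Subgroup.eq_of_le_of_card_ge (Subgroup.zpowers_le.2 (hmemN S)) ?_
      rw [hS S, Nat.card_zpowers]
      have hd := (S : Subgroup T.K0).orderOf_dvd_natCard (hmemN S)
      rw [show Nat.card (S : Subgroup T.K0) = 3 from hS S] at hd
      rcases (Nat.dvd_prime Nat.prime_three).1 hd with h | h
      · exact absurd (orderOf_eq_one_iff.1 h) ha1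
      · omega
    exact Sylow.ext ((key S').symm.trans (key S))
  · haveI : Fact (Nat.Prime 2) := ⟨Nat.prime_two⟩
    haveI := hs
    have hS : ∀ S : Sylow 2 T.K0, Nat.card S = 4 := fun S => by
      rw [S.card_eq_multiplicity, h60, show (60 : ℕ) = 2 ^ 2 * 15 from rfl,
        Nat.factorization_mul (by norm_num) (by norm_num), Nat.factorization_pow, Finsupp.add_apply,
        Finsupp.smul_apply, Nat.prime_two.factorization_self,
        Nat.factorization_eq_zero_of_not_dvd (by norm_num : ¬ 2 ∣ 15)]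
      rfl
    have hV : Nat.card (T.V2.subgroupOf T.K0) = 4 := by
      rw [Nat.card_congr (Subgroup.subgroupOfEquivOfLe T.V2_le_K0).toEquiv, T.card_V2]
    obtain ⟨S, hS'⟩ := (IsPGroup.of_card (n := 2) (by rw [hV]; rfl) : IsPGroup 2 (T.V2.subgroupOf T.K0)).exists_le_sylow
    have hSV : T.V2.subgroupOf T.K0 = (S : Subgroup T.K0) := Subgroup.eq_of_le_of_card_ge hS' (by rw [hS S, hV])
    have hyN : yK ∈ Subgroup.normalizer ((S : Subgroup T.K0) : Set T.K0) := by
      rw [← hSV]
      have hy : ∀ x : T.K0, (x : G) ∈ T.V2 → T.y * x * T.y⁻¹ ∈ T.V2 := by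
        intro x hx
        rcases T.V2_cases hx with e | e | e | e <;> rw [e]
        · simp
        · rw [y1]; exact T.tri2_mem_V2 (Or.inr (Or.inl rfl))
        · rw [y2]; exact T.tri2_mem_V2 (Or.inr (Or.inr rfl))
        · rw [y3]; exact T.tri2_mem_V2 (Or.inl rfl)
      refine Subgroup.mem_set_normalizer_iff.2 fun x => ⟨hy x, fun hx => ?_⟩
      have h1 := hy (yK * x * yK⁻¹) hx
      have h2 := hy (yK * (yK * x * yK⁻¹) * yK⁻¹) h1
      have e : T.y * T.y * T.y = 1 := by rw [← pow_three', ← hyo, pow_orderOf_eq_one]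
      show (x : G) ∈ T.V2
      have e2 : T.y * (T.y * (T.y * x * T.y⁻¹) * T.y⁻¹) * T.y⁻¹ = x := by
        calc T.y * (T.y * (T.y * x * T.y⁻¹) * T.y⁻¹) * T.y⁻¹ = (T.y * T.y * T.y) * x * (T.y * T.y * T.y)⁻¹ := by group
          _ = x := by rw [e]; group
      rw [← e2]
      exact h2
    have hne : Nat.card (Sylow 2 T.K0) ≠ 1 := by
      intro h1
      haveI : Subsingleton (Sylow 2 T.K0) := (Nat.card_eq_one_iff_unique.1 h1).1
      have hn : (S : Subgroup T.K0).Normal := S.normal_of_subsingleton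
      rcases IsSimpleGroup.eq_bot_or_eq_top_of_normal _ hn with h | h
      all_goals
        have h' := congrArg (fun H : Subgroup T.K0 => Nat.card H) h
        simp only [Subgroup.card_bot, Subgroup.card_top, h60] at h'
        rw [show Nat.card (S : Subgroup T.K0) = 4 from hS S] at h'
        omega
    have h5 : Nat.card (Sylow 2 T.K0) = 5 := by
      have hi := S.card_eq_index_normalizer
      have hc := (Subgroup.normalizer ((S : Subgroup T.K0) : Set T.K0)).card_mul_index
      replace hc : Nat.card (Subgroup.normalizer ((S : Subgroup T.K0) : Set T.K0)) * Nat.card (Sylow 2 T.K0) = 60 := by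
        rw [hi]; exact hc.trans h60
      have h4 : 4 ∣ Nat.card (Subgroup.normalizer ((S : Subgroup T.K0) : Set T.K0)) := by
        have := Subgroup.card_dvd_of_le (Subgroup.le_normalizer : (S : Subgroup T.K0) ≤ _)
        rwa [show Nat.card (S : Subgroup T.K0) = 4 from hS S] at this
      have h3 : 3 ∣ Nat.card (Subgroup.normalizer ((S : Subgroup T.K0) : Set T.K0)) := by
        have := (Subgroup.normalizer ((S : Subgroup T.K0) : Set T.K0)).orderOf_dvd_natCard hyN
        rwa [Subgroup.orderOf_mk, hyo] at this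
      obtain ⟨k, hk⟩ := Nat.Coprime.mul_dvd_of_dvd_of_dvd (by norm_num : Nat.Coprime 4 3) h4 h3
      rw [hk] at hc
      have h5 : Nat.card (Sylow 2 T.K0) ∣ 5 := ⟨k, by nlinarith⟩
      exact ((Nat.dvd_prime Nat.prime_five).1 h5).resolve_left hne
    refine main 2 5 (Or.inr ⟨rfl, h60⟩) h5 fun a ha => ?_
    let K := (MulAction.toPermHom T.K0 (Sylow 2 T.K0)).ker
    have haK : a ∈ K := Equiv.ext ha
    rcases IsSimpleGroup.eq_bot_or_eq_top_of_normal K (MonoidHom.normal_ker _) with h | h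
    · rwa [h, Subgroup.mem_bot] at haK
    · exfalso
      haveI : Subsingleton (Sylow 2 T.K0) := ⟨fun x y => by
        obtain ⟨g, hg⟩ := MulAction.exists_smul_eq T.K0 x y
        have hgK : g ∈ K := h ▸ Subgroup.mem_top g
        rw [← hg]
        exact (Equiv.ext_iff.1 hgK x).symm⟩
      have := Finite.card_le_one_iff_subsingleton.2 (inferInstance : Subsingleton (Sylow 2 T.K0))
      omega

end Two

end Cfsg.Agent.MTwelve.SwapCase
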