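import Cfsg.Agent.Lib.Spor.MTwelve.SwapCase.Ksi

/-!
The product of the joining generator with the first lifted transposition has order three.
-/

set_option autoImplicit false
set_option linter.style.haveILetI false
set_option maxRecDepth 100000
set_option synthInstance.maxHeartbeats 400000
set_option synthInstance.maxSize 8192

namespace Cfsg.Agent.MTwelve.SwapCase

open CentShape OrderFront Equiv

universe u

theorem perm_link_four : ∀ a : Perm (Fin 4), a * a = 1 → Perm.sign a = -1 → ∀ q : Perm (Fin 4), q * q = 1 →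
    Perm.sign q = -1 → a * q = q * a → a ≠ q → ∀ p : Perm (Fin 4), p * p = 1 → Perm.sign p = -1 → a ≠ p →
    a * p * (a * p) * (a * p) = 1 → p * q * (p * q) * (p * q) = 1 := by decide +kernel

theorem perm_link_five : ∀ a : Perm (Fin 5), a * a = 1 → Perm.sign a = -1 → ∀ q : Perm (Fin 5), q * q = 1 →
    Perm.sign q = -1 → a * q = q * a → a ≠ q → ∀ p : Perm (Fin 5), p * p = 1 → Perm.sign p = -1 → a ≠ p →
    a * p * (a * p) * (a * p) = 1 → ∀ r : Perm (Fin 5), r * r = 1 → Perm.sign r = -1 → r * a = a * r →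
    r * p = p * r → q ≠ r → q * r * (q * r) * (q * r) = 1 → p * q * (p * q) * (p * q) = 1 := by decide +kernel

theorem swap_cube {α : Type*} [DecidableEq α] [Fintype α] {a b c : α} (hab : a ≠ b) (hbc : b ≠ c) (hac : a ≠ c) :
    Equiv.swap a b * Equiv.swap b c * (Equiv.swap a b * Equiv.swap b c) * (Equiv.swap a b * Equiv.swap b c) = 1 := by
  rw [Equiv.swap_comm a b]
  have h := (Equiv.Perm.isThreeCycle_swap_mul_swap_same hab.symm hbc hac).orderOf
  rw [← pow_three', ← h, pow_orderOf_eq_one]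

variable {G : Type u} [Group G] [Finite G] {z : G} {P : Par z}

namespace Two

variable (T : Two P)

theorem cube_mem_K0 {u : G} (hu : u ∈ T.C) (h : u * u * u = 1) : u ∈ T.K0 := by
  refine T.odd_mem_K0 hu ?_
  rcases (Nat.dvd_prime Nat.prime_three).1 (orderOf_dvd_of_pow_eq_one (show u ^ 3 = 1 by rw [pow_three', h])) with e | e <;>
    rw [e] <;> decide

theorem class_cases {u : G} (hu : u ∈ T.C) (h2 : u * u = 1) (h1 : u ≠ 1) (hX : ¬ IsX z u) :
    T.Tri1 u ∨ u ∈ T.K0 ∨ Perm.sign (T.F u) = -1 := by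
  rcases Int.units_eq_one_or (Perm.sign (T.F u)) with e | e
  · obtain ⟨w, a, hw, ha, rfl⟩ := T.C_even hu e
    rcases hw with rfl | hw
    · exact Or.inr (Or.inl (by rwa [one_mul]))
    · by_cases ha1 : a = 1
      · subst ha1
        exact Or.inl (by rwa [mul_one])
      · exfalso
        have ha2 : a * a = 1 := by
          rw [show w * a * (w * a) = w * (a * w) * a by group, ← T.tri1_comm_K0 hw ha,
            show w * (w * a) * a = (w * w) * (a * a) by group, P.A_sq (T.six.2 (Or.inl hw)).1, one_mul] at h2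
          exact h2
        exact hX (T.mixed_isX hw ha ha2 ha1)
  · exact Or.inr (Or.inr e)

theorem odd_swap_v {c : G} (hc : c ∈ T.C) (h : Perm.sign (T.F c) = -1) : c * T.v * c⁻¹ = T.v' := by
  obtain ⟨w, a, hw, ha, e⟩ := T.C_even (mul_mem hc T.uu_mem_C) (by
    rw [T.F_mul (T.C_le_N0 hc) (T.C_le_N0 T.uu_mem_C), map_mul, h, T.F_uu_odd]; rfl)
  have hc' : c = w * a * T.uu⁻¹ := by rw [← e, mul_inv_cancel_right]
  have hwA : w ∈ P.A := by
    rcases hw with rfl | hw
    exacts [one_mem _, (T.six.2 (Or.inl hw)).1]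
  rw [hc', show w * a * T.uu⁻¹ * T.v * (w * a * T.uu⁻¹)⁻¹ = w * (a * (T.uu⁻¹ * T.v * T.uu) * a⁻¹) * w⁻¹ by group,
    T.uu_inv]
  have hv := T.uu_facts.2.1
  rw [T.uu_inv] at hv
  rw [hv, ← T.tri1_comm_K0 (Or.inr (Or.inr rfl)) ha, mul_inv_cancel_right, P.A_comm hwA T.bmem.2.2.2.1,
    mul_inv_cancel_right]

theorem tri_ne_X {x y : G} (hx : T.Tri1 x) (hy : T.Tri1 y) : ¬ IsX z (x * y) := by
  by_cases e : x = y
  · rw [e, P.A_sq (T.six.2 (Or.inl hy)).1]
    rintro ⟨g, hg⟩
    exact P.z_ne (conj_eq_one_iff.1 hg)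
  · exact T.same hx hy e

theorem link_order {x : G} (hx2 : x * x = 1) (hxX : ¬ IsX z x) (hxk : x * T.k * x = T.k⁻¹)
    (hbx : T.b * x * (T.b * x) * (T.b * x) = 1)
    (hcomm : ∀ σ : Perm (Fin T.ph.m), (∀ i : Fin T.ph.m, i.val = 0 → σ i = i) → Perm.sign σ = -1 →
      T.lift σ * x = x * T.lift σ)
    {i j i' j' : Fin T.ph.m} (hi : i.val = 0) (hj : j.val = 1) (hi' : i'.val + 2 = T.ph.m) (hj' : j'.val + 1 = T.ph.m) :
    x * T.lift (Equiv.swap i j) * (x * T.lift (Equiv.swap i j)) * (x * T.lift (Equiv.swap i j)) = 1 := by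
  classical
  have hm4 : 4 ≤ T.ph.m := by rcases T.deg with h | h <;> omega
  have hij : i ≠ j := fun e => by rw [e] at hi; omega
  have hij' : i' ≠ j' := fun e => by rw [e] at hi'; omega
  set σ4 := Equiv.swap i j
  set σc := Equiv.swap i' j'
  have s4 : Perm.sign σ4 = -1 := Perm.sign_swap hij
  have sc : Perm.sign σc = -1 := Perm.sign_swap hij'
  have hd : σ4 * σc = σc * σ4 := by
    refine Equiv.Perm.Disjoint.commute ?_ |>.eq
    intro u
    by_cases h : u = i' ∨ u = j'
    · left; refine Equiv.swap_apply_of_ne_of_ne ?_ ?_ <;>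
        intro e <;> simp only [Fin.ext_iff] at e h <;> rcases h with h | h <;> omega
    · push Not at h
      exact Or.inr (Equiv.swap_apply_of_ne_of_ne h.1 h.2)
  have hne4c : σ4 ≠ σc := fun e => by
    have := congrArg (fun s : Perm (Fin T.ph.m) => s i) e
    simp only [σ4, σc, Equiv.swap_apply_left] at this
    rw [Equiv.swap_apply_of_ne_of_ne (fun h => by rw [h] at hi; omega) (fun h => by rw [h] at hi; omega)] at this
    exact hij this.symm
  set q := T.lift σ4
  set c := T.lift σc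
  have hlinj : Function.Injective T.lift := fun a a' h => by
    have := congrArg T.F h
    rwa [T.lift_spec.2.1, T.lift_spec.2.1] at this
  have hsw2 : ∀ {u w : Fin T.ph.m}, T.lift (Equiv.swap u w) * T.lift (Equiv.swap u w) = 1 := fun {u w} => by
    rw [← map_mul, Equiv.swap_mul_self, map_one]
  have hFb : T.F T.b = 1 := T.F_four (Or.inr (Or.inl rfl))
  have hbne : ∀ σ : Perm (Fin T.ph.m), σ ≠ 1 → T.b ≠ T.lift σ := fun σ hσ e => hσ (by
    rw [← T.lift_spec.2.1 σ, ← e, hFb])
  have hswne : ∀ {u w : Fin T.ph.m}, u ≠ w → Equiv.swap u w ≠ 1 := fun h e => h (Equiv.swap_eq_one_iff.1 e)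
  obtain ⟨-, -, -, -, huX, hbuX⟩ : T.uu * T.uu = 1 ∧ True ∧ True ∧ True ∧ ¬ IsX z T.uu ∧ ¬ IsX z (T.b * T.uu) :=
    ⟨T.uu_facts.1, trivial, trivial, trivial, T.uu_facts.2.2.2.2.2, T.uu_facts.2.2.2.2.1⟩
  have hlX : ∀ {u w : Fin T.ph.m}, u ≠ w → ¬ IsX z (T.lift (Equiv.swap u w)) ∧ ¬ IsX z (T.b * T.lift (Equiv.swap u w)) := by
    intro u w huw
    obtain ⟨g, hg, hg'⟩ := T.lift_swap huw
    refine ⟨fun h => huX (IsX.of_conj (hg'.symm ▸ h : IsX z (g * T.uu * g⁻¹))), fun h => hbuX (IsX.of_conj (g := g) ?_)⟩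
    rwa [← mul_assoc g, T.b_central hg, show T.b * g * T.uu * g⁻¹ = T.b * (g * T.uu * g⁻¹) by group, hg']
  -- transport
  obtain ⟨h, hh⟩ : ∃ h, h * T.b * h⁻¹ = c := by
    obtain ⟨g, -, hg'⟩ := T.lift_swap hij'
    obtain ⟨g0, hg0⟩ := (T.class_of_comm_z (P.commute_z eu) T.uu_facts.1 (fun e => by
      have := T.F_uu_odd; rw [show T.uu = 1 from e, T.F_one, map_one] at this; exact absurd this (by decide))).resolve_left huX
    exact ⟨g * g0, by rw [show c = g * T.uu * g⁻¹ from hg'.symm, show T.uu = g0 * T.b * g0⁻¹ from hg0.symm]; group⟩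
  let ι := MulAut.conj h⁻¹
  have hιc : ι c = T.b := by rw [← hh]; simp [ι, mul_assoc]
  have hιC : ∀ u, u * c = c * u → ι u ∈ T.C := fun u hu => T.mem_C.2 (by rw [← hιc, ← map_mul, hu, map_mul])
  have hιX : ∀ u, IsX z (ι u) → IsX z u := fun u hu => IsX.of_conj hu
  have hιX' : ∀ u, IsX z u → IsX z (ι u) := fun u hu => hu.conj _
  have hι2 : ∀ u, u * u = 1 → ι u * ι u = 1 := fun u hu => by rw [← map_mul, hu, map_one]
  have hcx : c * x = x * c := hcomm σc (fun u hu => Equiv.swap_apply_of_ne_of_ne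
    (fun e => by rw [e] at hu; omega) (fun e => by rw [e] at hu; omega)) sc
  have hbc : T.b * c = c * T.b := (T.lift_comm_b σc).symm
  have hbq : T.b * q = q * T.b := (T.lift_comm_b σ4).symm
  have hqc : q * c = c * q := by rw [← map_mul, ← map_mul, hd]
  set a := ι T.b
  set q' := ι q
  set p := ι x
  have haC : a ∈ T.C := hιC _ hbc
  have hqC : q' ∈ T.C := hιC _ hqc
  have hpC : p ∈ T.C := hιC _ hcx.symm
  have hb2 : T.b * T.b = 1 := P.A_sq T.bmem.1
  have hq1 : q ≠ 1 := fun e => hswne hij (hlinj (e.trans (map_one _).symm))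
  have hne1 : ∀ {u : G}, u ≠ 1 → ι u ≠ 1 := fun h e => h (ι.map_eq_one_iff.1 e)
  have ha_ne_b : a ≠ T.b := fun e => hbne σc (hswne hij') (ι.injective (e.trans hιc.symm))
  have hq_ne_b : q' ≠ T.b := fun e => hne4c (hlinj (ι.injective (e.trans hιc.symm)))
  have hxb : x ≠ T.b := fun e => by
    rw [e] at hxk
    have h1 : T.k * T.b = T.b * T.k⁻¹ := by
      rw [← hxk, ← mul_assoc, ← mul_assoc, hb2, one_mul]
    have h2 : T.k * T.b * T.k⁻¹ = T.b * T.k := by
      rw [h1, mul_assoc, show T.k⁻¹ * T.k⁻¹ = T.k from by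
        rw [← mul_inv_rev]; exact inv_eq_of_mul_eq_one_right T.k_cube]
    have hA := (T.six.2 (Or.inl (T.k_spec.2.2.2.2.2.1 _ (Or.inl rfl : T.Tri1 T.b)))).1
    rw [h2] at hA
    have hkA : T.k ∈ P.A := (P.A.mul_mem_cancel_left T.bmem.1).1 hA
    have h3 := T.k_cube
    rw [P.A_sq hkA, one_mul] at h3
    exact T.k_moves (Or.inl rfl : T.Tri1 T.b) (by rw [h3]; simp)
  have hap : a * p * (a * p) * (a * p) = 1 := by simp only [a, p, ← map_mul, hbx, map_one]
  have hapK : a * p ∈ T.K0 := T.cube_mem_K0 (mul_mem haC hpC) hap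
  have hap1 : a * p ≠ 1 := fun e => hxb (by
    rw [← map_mul, ι.map_eq_one_iff] at e
    rw [eq_inv_of_mul_eq_one_right e, inv_eq_of_mul_eq_one_right hb2])
  have haX : ¬ IsX z a := fun e => T.tri_b.1 (hιX _ e)
  have hqX : ¬ IsX z q' := fun e => (hlX hij).1 (hιX _ e)
  have haN := T.C_le_N0 haC
  have hpN := T.C_le_N0 hpC
  have hqN := T.C_le_N0 hqC
  have hFp2 : T.F p * T.F p = 1 := by rw [← T.F_mul hpN hpN, hι2 _ hx2, T.F_one]
  -- odd images
  have haO : Perm.sign (T.F a) = -1 := by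
    rcases T.class_cases haC (hι2 _ hb2) (hne1 T.b_ne) haX with e | e | e
    · exfalso
      have hFa : T.F a = 1 := T.F_four (Or.inr e)
      have h3 : T.F (a * p) * T.F (a * p) * T.F (a * p) = 1 := by
        rw [← T.F_mul (T.K0_le_N0 hapK) (T.K0_le_N0 hapK),
          ← T.F_mul (mul_mem (T.K0_le_N0 hapK) (T.K0_le_N0 hapK)) (T.K0_le_N0 hapK), hap, T.F_one]
      refine hap1 (T.F_inj hapK ?_)
      rw [T.F_mul haN hpN, hFa, one_mul] at h3 ⊢
      rwa [hFp2, one_mul] at h3
    · exfalso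
      have hX := T.mixed_isX (Or.inl rfl : T.Tri1 T.b) e (hι2 _ hb2) (hne1 T.b_ne)
      rw [← hιc, ← map_mul] at hX
      have hh2 := hιX _ hX
      rw [← hbc] at hh2
      exact (hlX hij').2 hh2
    · exact e
  have hqO : Perm.sign (T.F q') = -1 := by
    rcases T.class_cases hqC (hι2 _ hsw2) (hne1 hq1) hqX with e | e | e
    · exfalso
      have hcq : a * q' * a⁻¹ = q' := by rw [← map_mul, hbq, map_mul, mul_inv_cancel_right]
      have hv := T.odd_swap_v haC haO
      rcases e with e | e | e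
      · exact hq_ne_b e
      · rw [e, hv] at hcq
        exact absurd (P.inj hcq) (by decide)
      · rw [e] at hcq
        have : a * T.v * a⁻¹ = a * T.v' * a⁻¹ := by rw [hv, hcq]
        exact absurd (P.inj (mul_left_cancel (mul_right_cancel this))) (by decide)
    · exfalso
      have hX := T.mixed_isX (Or.inl rfl : T.Tri1 T.b) e (hι2 _ hsw2) (hne1 hq1)
      rw [← hιc, ← map_mul] at hX
      have hh2 := hιX _ hX
      have hK : c * q ∈ T.K0 := by
        rw [← map_mul]; exact T.lift_even (by rw [map_mul, sc, s4]; rfl)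
      refine T.invol_notX hK ?_ hh2
      rw [show c * q * (c * q) = c * (q * c) * q by group, hqc, show c * (c * q) * q = (c * c) * (q * q) by group, hsw2,
        hsw2, one_mul]
    · exact e
  have hpO : Perm.sign (T.F p) = -1 := by
    have := T.F_even hapK
    rw [T.F_mul haN hpN, map_mul, haO] at this
    rcases Int.units_eq_one_or (Perm.sign (T.F p)) with e | e
    · rw [e] at this; exact absurd this (by decide)
    · exact e
  have haq1 : a * q' ≠ 1 := fun e => hbne σ4 (hswne hij) (by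
    rw [← map_mul, ι.map_eq_one_iff] at e
    exact (eq_inv_of_mul_eq_one_left e).trans (inv_eq_of_mul_eq_one_right hsw2))
  have haqK : a * q' ∈ T.K0 := by
    have h2 : a * q' * (a * q') = 1 := by
      rw [← map_mul, ← map_mul, show T.b * q * (T.b * q) = T.b * (q * T.b) * q by group, ← hbq,
        show T.b * (T.b * q) * q = (T.b * T.b) * (q * q) by group, hb2, hsw2, one_mul, map_one]
    rcases T.class_cases (mul_mem haC hqC) h2 haq1
      (fun e => (hlX hij).2 (hιX _ (by rwa [map_mul]))) with e | e | e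
    · exfalso
      refine T.tri_ne_X e (Or.inl rfl : T.Tri1 T.b) ?_
      rw [← hιc, ← map_mul, ← map_mul]
      refine hιX' _ ?_
      rw [mul_assoc]
      have hK : q * c ∈ T.K0 := by rw [← map_mul]; exact T.lift_even (by rw [map_mul, s4, sc]; rfl)
      refine T.mixed_isX (Or.inl rfl) hK ?_ ?_
      · rw [show q * c * (q * c) = q * (c * q) * c by group, ← hqc, show q * (q * c) * c = (q * q) * (c * c) by group,
          hsw2, hsw2, one_mul]
      · exact fun e2 => hne4c (hlinj ((eq_inv_of_mul_eq_one_left e2).trans (inv_eq_of_mul_eq_one_right hsw2)))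
    · exact e
    · rw [T.F_mul haN hqN, map_mul, haO, hqO] at e
      exact absurd e (by decide)
  -- conclusion
  have hFne : T.F a ≠ T.F q' := fun e => haq1 (T.F_inj haqK (by
    rw [T.F_mul haN hqN, ← e, ← T.F_mul haN haN, hι2 _ hb2, T.F_one]))
  have hFne' : T.F a ≠ T.F p := fun e => hap1 (T.F_inj hapK (by
    rw [T.F_mul haN hpN, ← e, ← T.F_mul haN haN, hι2 _ hb2, T.F_one]))
  have hFap : T.F a * T.F p * (T.F a * T.F p) * (T.F a * T.F p) = 1 := by
    rw [← T.F_mul haN hpN, ← T.F_mul (mul_mem haN hpN) (mul_mem haN hpN),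
      ← T.F_mul (mul_mem (mul_mem haN hpN) (mul_mem haN hpN)) (mul_mem haN hpN), hap, T.F_one]
  have hFaq : T.F a * T.F q' = T.F q' * T.F a := by
    rw [← T.F_mul haN hqN, ← T.F_mul hqN haN, ← map_mul, ← map_mul, hbq]
  have hFa2 : T.F a * T.F a = 1 := by rw [← T.F_mul haN haN, hι2 _ hb2, T.F_one]
  have hFq2 : T.F q' * T.F q' = 1 := by rw [← T.F_mul hqN hqN, hι2 _ hsw2, T.F_one]
  have hmain : T.F p * T.F q' * (T.F p * T.F q') * (T.F p * T.F q') = 1 := by
    rcases T.deg with hm | hm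
    · have key : ∀ m, m = 4 → ∀ a : Perm (Fin m), a * a = 1 → Perm.sign a = -1 → ∀ q : Perm (Fin m), q * q = 1 →
          Perm.sign q = -1 → a * q = q * a → a ≠ q → ∀ p : Perm (Fin m), p * p = 1 → Perm.sign p = -1 → a ≠ p →
          a * p * (a * p) * (a * p) = 1 → p * q * (p * q) * (p * q) = 1 := by
        rintro m rfl; exact perm_link_four
      exact key _ hm _ hFa2 haO _ hFq2 hqO hFaq hFne _ hFp2 hpO hFne' hFap
    · obtain ⟨u, hu⟩ : ∃ u : Fin T.ph.m, u.val = 2 := ⟨⟨2, by omega⟩, rfl⟩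
      have hju : j ≠ u := fun e => by rw [e] at hj; omega
      set σ5 := Equiv.swap j u
      have s5 : Perm.sign σ5 = -1 := Perm.sign_swap hju
      set r := T.lift σ5
      have h5c : σ5 * σc = σc * σ5 := by
        refine Equiv.Perm.Disjoint.commute ?_ |>.eq
        intro w
        by_cases h : w = i' ∨ w = j'
        · left; refine Equiv.swap_apply_of_ne_of_ne ?_ ?_ <;>
        intro e <;> simp only [Fin.ext_iff] at e h <;> rcases h with h | h <;> omega
        · push Not at h
          exact Or.inr (Equiv.swap_apply_of_ne_of_ne h.1 h.2)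
      have hqr : q * r * (q * r) * (q * r) = 1 := by
        have : σ4 * σ5 * (σ4 * σ5) * (σ4 * σ5) = 1 := by
          exact swap_cube hij hju (fun e => by rw [e] at hi; omega)
        simp only [q, r, ← map_mul, this, map_one]
      have hrC : ι r ∈ T.C := hιC _ (by rw [← map_mul, ← map_mul, h5c])
      have hrN := T.C_le_N0 hrC
      have hqrK : q' * ι r ∈ T.K0 := T.cube_mem_K0 (mul_mem hqC hrC) (by
        simp only [q', ← map_mul, hqr, map_one])
      have hFr2 : T.F (ι r) * T.F (ι r) = 1 := by rw [← T.F_mul hrN hrN, hι2 _ hsw2, T.F_one]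
      have hrO : Perm.sign (T.F (ι r)) = -1 := by
        have := T.F_even hqrK
        rw [T.F_mul hqN hrN, map_mul, hqO] at this
        rcases Int.units_eq_one_or (Perm.sign (T.F (ι r))) with e | e
        · rw [e] at this; exact absurd this (by decide)
        · exact e
      have hqrne : T.F q' ≠ T.F (ι r) := fun e => by
        have h := T.F_inj hqrK (by rw [T.F_mul hqN hrN, ← e, hFq2])
        rw [← map_mul, ι.map_eq_one_iff] at h
        have h45 : σ4 = σ5 := hlinj ((eq_inv_of_mul_eq_one_left h).trans (inv_eq_of_mul_eq_one_right hsw2))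
        have := congrArg (fun s : Perm (Fin T.ph.m) => s i) h45
        simp only [σ4, σ5, Equiv.swap_apply_left] at this
        rw [Equiv.swap_apply_of_ne_of_ne hij (fun e => by rw [e] at hi; omega)] at this
        exact hij this.symm
      have hrb : r * T.b = T.b * r := T.lift_comm_b σ5
      have hrx : r * x = x * r := hcomm σ5 (fun w hw => Equiv.swap_apply_of_ne_of_ne
        (fun e => by rw [e] at hw; omega) (fun e => by rw [e] at hw; omega)) s5
      have key : ∀ m, m = 5 → ∀ a : Perm (Fin m), a * a = 1 → Perm.sign a = -1 → ∀ q : Perm (Fin m), q * q = 1 →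
          Perm.sign q = -1 → a * q = q * a → a ≠ q → ∀ p : Perm (Fin m), p * p = 1 → Perm.sign p = -1 → a ≠ p →
          a * p * (a * p) * (a * p) = 1 → ∀ r : Perm (Fin m), r * r = 1 → Perm.sign r = -1 → r * a = a * r →
          r * p = p * r → q ≠ r → q * r * (q * r) * (q * r) = 1 → p * q * (p * q) * (p * q) = 1 := by
        rintro m rfl; exact perm_link_five
      refine key _ hm _ hFa2 haO _ hFq2 hqO hFaq hFne _ hFp2 hpO hFne' hFap _ hFr2 hrO ?_ ?_ hqrne ?_
      · rw [← T.F_mul hrN haN, ← T.F_mul haN hrN, ← map_mul, ← map_mul, hrb]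
      · rw [← T.F_mul hrN hpN, ← T.F_mul hpN hrN, ← map_mul, ← map_mul, hrx]
      · rw [← T.F_mul hqN hrN, ← T.F_mul (mul_mem hqN hrN) (mul_mem hqN hrN),
          ← T.F_mul (mul_mem (mul_mem hqN hrN) (mul_mem hqN hrN)) (mul_mem hqN hrN)]
        simp only [q', ← map_mul, hqr, map_one, T.F_one]
  have hpqK : p * q' ∈ T.K0 := by
    have e : p * q' = (a * p)⁻¹ * (a * q') := by
      rw [mul_inv_rev, show p⁻¹ = p from inv_eq_of_mul_eq_one_right (hι2 _ hx2)]; group
    rw [e]
    exact mul_mem (inv_mem hapK) haqK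
  have hres : p * q' * (p * q') * (p * q') = 1 := T.F_inj (mul_mem (mul_mem hpqK hpqK) hpqK) (by
    rw [T.F_mul (mul_mem (T.K0_le_N0 hpqK) (T.K0_le_N0 hpqK)) (T.K0_le_N0 hpqK),
      T.F_mul (T.K0_le_N0 hpqK) (T.K0_le_N0 hpqK), T.F_mul hpN hqN, hmain])
  simp only [p, q', ← map_mul, EmbeddingLike.map_eq_one_iff] at hres
  exact hres

end Two

end Cfsg.Agent.MTwelve.SwapCase
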