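import Cfsg.Agent.Lib.Spor.MTwelve.SwapCase.Model
import Cfsg.Agent.Lib.Spor.MTwelve.CentShape.Shape

/-!
A parametrisation of an involution centraliser by the normal forms of the second shape.
-/

set_option autoImplicit false

namespace Cfsg.Agent.MTwelve.SwapCase

open CentShape OrderFront

universe u

variable {G : Type u} [Group G]

/-- A parametrisation of the centraliser of an involution. -/
structure Par (z : G) where
  /-- the element with a given normal form -/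
  ev : El → G
  mul : ∀ X Y, ev X * ev Y = ev (em X Y)
  inj : Function.Injective ev
  mem : ∀ g : G, g * z = z * g ↔ ∃ X, ev X = g
  ev_z : ev ez = z

/-- The parametrisation given by a shape. -/
def _root_.Cfsg.Agent.MTwelve.CentShape.Shape.par [Finite G] {z : G} {K : Core z} {D : Gens true false G}
    (S : Shape K D) : Par z where
  ev := D.ev
  mul := D.ev_mul
  inj := S.inj
  mem g := by rw [← S.mem_cent, Subgroup.mem_centralizer_singleton_iff]
  ev_z := by rw [D.ev_ez, S.z_eq]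

namespace Par

variable {z : G} (P : Par z)

/-- transport along an automorphism of the normal forms -/
def comp (σ : El → El) (hσ : Function.Bijective σ) (hm : ∀ X Y, σ (em X Y) = em (σ X) (σ Y)) (hz : σ ez = ez) :
    Par z where
  ev X := P.ev (σ X)
  mul X Y := by rw [P.mul, hm]
  inj := P.inj.comp hσ.1
  mem g := by
    rw [P.mem]
    exact ⟨fun ⟨X, h⟩ => ⟨(hσ.2 X).choose, by rw [(hσ.2 X).choose_spec, h]⟩, fun ⟨X, h⟩ => ⟨σ X, h⟩⟩
  ev_z := by rw [hz, P.ev_z]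

theorem ev_one : P.ev e1 = 1 := by
  have h := P.mul e1 e1
  rw [em_one] at h
  exact mul_eq_left.1 h

theorem ev_inv (X : El) : (P.ev X)⁻¹ = P.ev (einv X) :=
  inv_eq_of_mul_eq_one_right (by rw [P.mul, em_einv, P.ev_one])

theorem ev_cj (X Y : El) : P.ev X * P.ev Y * (P.ev X)⁻¹ = P.ev (cj X Y) := by
  rw [P.ev_inv, P.mul, P.mul, cj]

theorem comm_iff (X Y : El) : P.ev X * P.ev Y = P.ev Y * P.ev X ↔ comm X Y = true := by
  rw [P.mul, P.mul, P.inj.eq_iff, comm, beq_iff_eq]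

theorem sq_iff (X : El) : P.ev X * P.ev X = 1 ↔ em X X = e1 := by
  rw [P.mul, ← P.ev_one, P.inj.eq_iff]

theorem commute_z (X : El) : P.ev X * z = z * P.ev X := (P.mem _).2 ⟨X, rfl⟩

include P in
theorem z_sq : z * z = 1 := by
  rw [← P.ev_z, P.sq_iff]
  decide

include P in
theorem z_ne : z ≠ 1 := fun h => by
  rw [← P.ev_z, ← P.ev_one] at h
  exact absurd (P.inj h) (by decide)

include P in
theorem lab_cj' (X Y : El) : lab (cj X Y) = lab Y := by
  have hcomp : ∀ A B Y, cj (em A B) Y = cj A (cj B Y) := fun A B Y => P.inj (by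
    rw [← P.ev_cj, ← P.ev_cj, ← P.ev_cj, ← P.mul]
    group)
  have hcore : ∀ q : Q5, ∀ Y, lab (cj (inl q) Y) = lab Y := by
    intro q Y
    rw [← decomp_core q, hcomp, hcomp]
    have h1 : ∀ b : Bool, ∀ W, lab (cj (cond b ez e1) W) = lab W := by
      intro b W
      cases b
      · exact (lab_cj_gen 0 W).1
      · exact congrArg lab (lab_cj_z W)
    rw [h1, (lab_cj_gen _ _).1, (lab_cj_gen _ _).2]
  rw [← decomp X, hcomp, hcore, lab_cj_out]

/-- the element lies in the centraliser and has the given class -/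
def Lb (k : Fin 8) (x : G) : Prop := ∃ X, P.ev X = x ∧ lab X = k

theorem lb_conj {k : Fin 8} {x h : G} (hx : P.Lb k x) (hh : h * z = z * h) : P.Lb k (h * x * h⁻¹) := by
  obtain ⟨X, rfl, hX⟩ := hx
  obtain ⟨Y, rfl⟩ := (P.mem h).1 hh
  exact ⟨cj Y X, (P.ev_cj Y X).symm, by rw [P.lab_cj', hX]⟩

theorem lb_unique {k k' : Fin 8} {x : G} (h : P.Lb k x) (h' : P.Lb k' x) : k = k' := by
  obtain ⟨X, rfl, rfl⟩ := h
  obtain ⟨Y, hY, rfl⟩ := h'
  rw [P.inj hY]

theorem lb_comm {k : Fin 8} {x : G} (h : P.Lb k x) : x * z = z * x := by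
  obtain ⟨X, rfl, -⟩ := h
  exact P.commute_z X

/-- An involution commuting with the central one has one of the classes. -/
theorem lb_of_invol {x : G} (h : x * z = z * x) (hx : x * x = 1) :
    x = 1 ∨ x = z ∨ (∃ m, P.Lb (clC m) x) ∨ P.Lb 5 x ∨ P.Lb 6 x := by
  obtain ⟨X, rfl⟩ := (P.mem x).1 h
  have h7 := (SwapCase.sq_iff X).1 ((P.sq_iff X).1 hx)
  have cases8 : ∀ k : Fin 8, k < 7 → k = 0 ∨ k = 1 ∨ (∃ m, k = clC m) ∨ k = 5 ∨ k = 6 := by decide
  rcases cases8 _ h7 with e | e | ⟨m, e⟩ | e | e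
  · exact Or.inl (by rw [(lab_zero X).1 e, P.ev_one])
  · exact Or.inr (Or.inl (by rw [(lab_one X).1 e, P.ev_z]))
  · exact Or.inr (Or.inr (Or.inl ⟨m, X, rfl, e⟩))
  · exact Or.inr (Or.inr (Or.inr (Or.inl ⟨X, rfl, e⟩)))
  · exact Or.inr (Or.inr (Or.inr (Or.inr ⟨X, rfl, e⟩)))

theorem repC_lb (m : Fin 3) : P.Lb (clC m) (P.ev (repC m)) := ⟨_, rfl, lab_repC m⟩

/-- The classes in the core are classes of the centraliser. -/
theorem conj_repC {m : Fin 3} {x : G} (h : P.Lb (clC m) x) :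
    ∃ l, l * z = z * l ∧ l * P.ev (repC m) * l⁻¹ = x := by
  obtain ⟨X, rfl, hX⟩ := h
  obtain ⟨Y, hY⟩ := SwapCase.conj_repC m X hX
  exact ⟨P.ev Y, P.commute_z Y, by rw [P.ev_cj, hY]⟩

/-- The outer classes are classes of the centraliser. -/
theorem conj_repT {s : Bool} {x : G} (h : P.Lb (lab (repT s)) x) :
    ∃ l, l * z = z * l ∧ l * P.ev (repT s) * l⁻¹ = x := by
  obtain ⟨X, rfl, hX⟩ := h
  obtain ⟨Y, hY⟩ := SwapCase.conj_repT s X hX
  exact ⟨P.ev Y, P.commute_z Y, by rw [P.ev_cj, hY]⟩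

theorem lb_ne_z {k : Fin 8} {x : G} (h : P.Lb k x) (hk : 2 ≤ k.val) : x ≠ z ∧ x ≠ 1 := by
  constructor
  · intro e
    have := congrArg Fin.val (P.lb_unique h ⟨ez, P.ev_z.trans e.symm, rfl⟩)
    rw [show lab ez = 1 by decide] at this
    rw [this] at hk
    exact absurd hk (by decide)
  · intro e
    have := congrArg Fin.val (P.lb_unique h ⟨e1, P.ev_one.trans e.symm, rfl⟩)
    rw [show lab e1 = 0 by decide] at this
    rw [this] at hk
    exact absurd hk (by decide)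

theorem lb_sq {k : Fin 8} {x : G} (h : P.Lb k x) (hk : k < 7) : x * x = 1 := by
  obtain ⟨X, rfl, hX⟩ := h
  exact (P.sq_iff X).2 ((SwapCase.sq_iff X).2 (hX ▸ hk))

/-- Centralisers of the other involutions in the centraliser have two-power exponent. -/
theorem cent_exponent {k : Fin 8} {x y : G} (hx : P.Lb k x) (hk : 2 ≤ k.val) (hk' : k.val ≤ 6)
    (hyz : y * z = z * y) (hxy : y * x = x * y) : y ^ 8 = 1 := by
  have key : ∀ (R : El), (∀ Y, comm R Y = true → p8 Y = e1) →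
      ∀ l : G, l * z = z * l → l * P.ev R * l⁻¹ = x → y ^ 8 = 1 := by
    intro R hR l hl hlx
    obtain ⟨Y, hY⟩ := (P.mem (l⁻¹ * y * l)).1
      (((show Commute l z from hl).inv_left.mul_left hyz).mul_left hl).eq
    have hc : P.ev R * (l⁻¹ * y * l) = l⁻¹ * y * l * P.ev R := by
      calc P.ev R * (l⁻¹ * y * l) = l⁻¹ * (l * P.ev R * l⁻¹ * y) * l := by group
        _ = l⁻¹ * (y * (l * P.ev R * l⁻¹)) * l := by rw [hlx, hxy]
        _ = _ := by group
    rw [← hY] at hc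
    have h8 := hR Y ((P.comm_iff _ _).1 hc)
    have e : P.ev Y ^ 8 = 1 := by
      rw [show 8 = 2 * 2 * 2 from rfl, pow_mul, pow_mul, sq, sq, sq, P.mul, P.mul, P.mul, ← P.ev_one]
      exact congrArg P.ev h8
    rw [hY, show l⁻¹ * y * l = l⁻¹ * y * l⁻¹⁻¹ by rw [inv_inv], conj_pow, conj_eq_one_iff] at e
    exact e
  have cases8 : ∀ k : Fin 8, 2 ≤ k.val → k.val ≤ 6 → (∃ m, k = clC m) ∨ ∃ s, k = lab (repT s) := by decide +kernel
  rcases cases8 k hk hk' with ⟨m, rfl⟩ | ⟨s, rfl⟩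
  · obtain ⟨l, hl, hlx⟩ := P.conj_repC hx
    exact key _ (fun Y hY => (cent_two_group Y).1 m hY) l hl hlx
  · obtain ⟨l, hl, hlx⟩ := P.conj_repT hx
    exact key _ (fun Y hY => (cent_two_group Y).2 s hY) l hl hlx

/-- the elementary subgroup of a class in the core -/
def E (n : Fin 3) : Subgroup G where
  carrier := {x | ∃ X, P.ev X = x ∧ inE n X = true}
  one_mem' := ⟨e1, P.ev_one, by revert n; decide⟩
  mul_mem' := by
    rintro _ _ ⟨X, rfl, hX⟩ ⟨Y, rfl, hY⟩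
    obtain ⟨hX', -⟩ := inE_core n X hX
    obtain ⟨hY', -⟩ := inE_core n Y hY
    rw [hX'] at hX
    rw [hY'] at hY
    exact ⟨em X Y, (P.mul X Y).symm, by rw [hX', hY']; exact (inE_closed n _ _ hX hY).1⟩
  inv_mem' := by
    rintro _ ⟨X, rfl, hX⟩
    exact ⟨X, (inv_eq_of_mul_eq_one_right ((P.sq_iff X).2 (inE_core n X hX).2)).symm, hX⟩

theorem mem_E {n : Fin 3} {x : G} : x ∈ P.E n ↔ ∃ X, P.ev X = x ∧ inE n X = true := Iff.rfl

theorem mem_E_iff {n : Fin 3} {x : G} : x ∈ P.E n ↔ x = 1 ∨ x = z ∨ P.Lb (clC n) x := by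
  rw [mem_E]
  constructor
  · rintro ⟨X, rfl, hX⟩
    simp only [inE, Bool.or_eq_true, beq_iff_eq] at hX
    rcases hX with (h | h) | h
    · exact Or.inl (by rw [(lab_zero X).1 h, P.ev_one])
    · exact Or.inr (Or.inl (by rw [(lab_one X).1 h, P.ev_z]))
    · exact Or.inr (Or.inr ⟨X, rfl, h⟩)
  · rintro (rfl | rfl | ⟨X, rfl, hX⟩)
    · exact ⟨e1, P.ev_one, by revert n; decide⟩
    · exact ⟨ez, P.ev_z, by revert n; decide⟩
    · exact ⟨X, rfl, by simp [inE, hX]⟩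

theorem card_E (n : Fin 3) : Nat.card (P.E n) = 8 := by
  rw [← inE_count n, ← Nat.card_eq_finsetCard]
  refine (Nat.card_congr (Equiv.ofBijective (fun X : (Finset.univ.filter fun X : El => inE n X = true : Finset El) =>
    (⟨P.ev X.1, P.mem_E.2 ⟨X.1, rfl, (Finset.mem_filter.1 X.2).2⟩⟩ : P.E n))
    ⟨fun X Y h => Subtype.ext (P.inj (congrArg Subtype.val h)), fun ⟨x, X, hX, hX'⟩ =>
      ⟨⟨X, Finset.mem_filter.2 ⟨Finset.mem_univ _, hX'⟩⟩, Subtype.ext hX⟩⟩)).symm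

theorem E_comm {n : Fin 3} {x y : G} (hx : x ∈ P.E n) (hy : y ∈ P.E n) : x * y = y * x := by
  obtain ⟨X, rfl, hX⟩ := hx
  obtain ⟨Y, rfl, hY⟩ := hy
  obtain ⟨hX', -⟩ := inE_core n X hX
  obtain ⟨hY', -⟩ := inE_core n Y hY
  rw [hX'] at hX ⊢
  rw [hY'] at hY ⊢
  exact (P.comm_iff _ _).2 (inE_closed n _ _ hX hY).2

theorem E_sq {n : Fin 3} {x : G} (hx : x ∈ P.E n) : x * x = 1 := by
  obtain ⟨X, rfl, hX⟩ := hx
  exact (P.sq_iff X).2 (inE_core n X hX).2

theorem z_mem_E (n : Fin 3) : z ∈ P.E n := P.mem_E_iff.2 (Or.inr (Or.inl rfl))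

theorem repC_mem_E (n : Fin 3) : P.ev (repC n) ∈ P.E n := P.mem_E_iff.2 (Or.inr (Or.inr (P.repC_lb n)))

/-- The centraliser normalises the elementary subgroups. -/
theorem E_conj {n : Fin 3} {x h : G} (hx : x ∈ P.E n) (hh : h * z = z * h) : h * x * h⁻¹ ∈ P.E n := by
  rcases P.mem_E_iff.1 hx with rfl | rfl | hl
  · simp
  · rw [hh, mul_inv_cancel_right]
    exact P.z_mem_E n
  · exact P.mem_E_iff.2 (Or.inr (Or.inr (P.lb_conj hl hh)))

/-- The elementary subgroup is its own centraliser. -/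
theorem E_self_cent {n : Fin 3} {x : G} (h : ∀ e ∈ P.E n, e * x = x * e) : x ∈ P.E n := by
  obtain ⟨X, rfl⟩ := (P.mem x).1 (h z (P.z_mem_E n)).symm
  exact ⟨X, rfl, inE_self_cent n X fun q hq => (P.comm_iff _ _).1 (h _ ⟨_, rfl, hq⟩)⟩

end Par

end Cfsg.Agent.MTwelve.SwapCase
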