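import Cfsg.Agent.Lib.Spor.MTwelve.SwapCase.AFour
import Mathlib.GroupTheory.IndexNormal

/-!
The three possible fusion patterns of the second shape; not all involutions are conjugate.
-/

set_option autoImplicit false
set_option linter.style.haveILetI false

namespace Cfsg.Agent.MTwelve.SwapCase

open CentShape OrderFront

universe u

namespace Par

variable {G : Type u} [Group G] [Finite G] {z : G} (P : Par z)

include P in
/-- Not all involutions of the centraliser are conjugates of the central one. -/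
theorem not_all_fused (hall : ∀ {x : G}, x * z = z * x → x * x = 1 → x ≠ 1 → IsX z x) : False := by
  classical
  haveI : Fact (Nat.Prime 2) := ⟨Nat.prime_two⟩
  haveI : Fact (Nat.Prime 5) := ⟨Nat.prime_five⟩
  have horb : P.orbA.ncard = 15 := by
    rw [P.ncard_A_filter (fun X => lab X != 0) P.orbA (fun X hX => ?_) (fun x hx => hx.1), inA_invol_count]
    rw [bne_iff_ne, ne_eq, lab_zero]
    refine ⟨fun ⟨_, g, hg⟩ e => P.z_ne ?_, fun h => ⟨P.ev_mem_A.2 hX, ?_⟩⟩
    · rw [e, P.ev_one] at hg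
      exact conj_eq_one_iff.1 hg
    · exact hall (P.commute_z X) (P.A_sq (P.ev_mem_A.2 hX)) fun e => h (P.inj (e.trans P.ev_one.symm))
  have hNA : Nat.card P.NA = 960 := by rw [P.card_NA, horb]
  set A' := P.A.subgroupOf P.NA
  haveI hA'n : A'.Normal := ⟨fun a ha g => P.NA_conj g.2 ha⟩
  have hAle : P.A ≤ P.NA := fun a ha => P.mem_NA fun b hb => by
    rw [P.A_comm ha hb, mul_inv_cancel_right]; exact hb
  let π := QuotientGroup.mk' A'
  have hW : Nat.card (P.NA ⧸ A') = 60 := by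
    have h := A'.card_eq_card_quotient_mul_card_subgroup
    rw [hNA, Nat.card_congr (Subgroup.subgroupOfEquivOfLe hAle).toEquiv, P.card_A] at h
    omega
  set S0 := (Subgroup.centralizer ({z} : Set G)).subgroupOf P.NA
  have hS0 : ∀ g : P.NA, g ∈ S0 ↔ (g : G) * z = z * g := fun g => Subgroup.mem_centralizer_singleton_iff
  have hS0el : ∀ g ∈ S0, ∃ X, P.ev X = ((g : P.NA) : G) ∧ inS X = true := fun g hg =>
    (P.NA_cent ((hS0 g).1 hg)).1 g.2
  have hS0c : Nat.card S0 = 64 := by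
    rw [← inS_count, ← Nat.card_eq_finsetCard]
    refine (Nat.card_congr (Equiv.ofBijective (fun X : (Finset.univ.filter fun X : El => inS X = true : Finset El) =>
      (⟨⟨P.ev X.1, (P.NA_cent (P.commute_z _)).2 ⟨X.1, rfl, (Finset.mem_filter.1 X.2).2⟩⟩,
        (hS0 _).2 (P.commute_z _)⟩ : S0)) ⟨fun X Y h => Subtype.ext (P.inj (congrArg (fun w : S0 => ((w : P.NA) : G)) h)), ?_⟩)).symm
    rintro ⟨g, hg⟩
    obtain ⟨X, hX, hXS⟩ := hS0el g hg
    exact ⟨⟨X, Finset.mem_filter.2 ⟨Finset.mem_univ _, hXS⟩⟩, Subtype.ext (Subtype.ext hX)⟩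
  have hA'S : A' ≤ S0 := fun a ha => (hS0 a).2 (P.A_comm ha P.z_mem_A)
  set T := S0.map π
  have hcom : S0 = T.comap π := by
    rw [Subgroup.comap_map_eq, QuotientGroup.ker_mk', sup_eq_left.2 hA'S]
  have hTc : Nat.card T = 4 := by
    have h1 : S0.index = 15 := by
      have := Subgroup.card_mul_index S0
      rw [hS0c, hNA] at this
      omega
    rw [hcom, Subgroup.index_comap_of_surjective _ (QuotientGroup.mk'_surjective A')] at h1
    have := Subgroup.card_mul_index T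
    rw [h1, hW] at this
    omega
  let TS : Sylow 2 (P.NA ⧸ A') := Sylow.ofCard T (by
    rw [hTc, hW, show (60 : ℕ) = 2 ^ 2 * 15 from rfl, Nat.factorization_mul (by norm_num) (by norm_num),
      Nat.factorization_pow, Finsupp.add_apply, Finsupp.smul_apply, Nat.prime_two.factorization_self,
      Nat.factorization_eq_zero_of_not_dvd (by norm_num : ¬ 2 ∣ 15)]
    rfl)
  have hTsq : ∀ t ∈ T, t * t = 1 := by
    rintro _ ⟨s, hs, rfl⟩
    obtain ⟨X, hX, hXS⟩ := hS0el s hs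
    rw [← map_mul]
    exact (QuotientGroup.eq_one_iff (N := A') _).2 ⟨em X X, by rw [← P.mul, hX]; rfl, inS_sq X hXS⟩
  have hTcomm : ∀ a ∈ T, ∀ b ∈ T, a * b = b * a := fun a ha b hb => by
    calc a * b = (a * b)⁻¹ := (inv_eq_of_mul_eq_one_right (hTsq _ (mul_mem ha hb))).symm
      _ = b⁻¹ * a⁻¹ := mul_inv_rev a b
      _ = b * a := by rw [inv_eq_of_mul_eq_one_right (hTsq a ha), inv_eq_of_mul_eq_one_right (hTsq b hb)]
  have hP : Subgroup.normalizer ((TS : Subgroup (P.NA ⧸ A')) : Set (P.NA ⧸ A')) ≤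
      Subgroup.centralizer ((TS : Subgroup (P.NA ⧸ A')) : Set (P.NA ⧸ A')) := by
    intro w hw
    obtain ⟨h, rfl⟩ := QuotientGroup.mk'_surjective A' w
    suffices hh : h ∈ S0 from Subgroup.mem_centralizer_iff.2 fun t ht => hTcomm t ht _ ⟨h, hh, rfl⟩
    rw [hS0]
    set e := (h : G) * z * (h : G)⁻¹
    have he : e ∈ P.A := P.NA_conj h.2 P.z_mem_A
    obtain ⟨X, hX, hXA⟩ := he
    have : X = ez := by
      refine inS_fix X hXA (fun e1' => P.z_ne ?_) fun q => ?_
      · have h1 : e = 1 := by rw [← hX, e1', P.ev_one]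
        exact conj_eq_one_iff.1 h1
      have hqS : inS (inl q) = true := rfl
      let s : P.NA := ⟨P.ev (inl q), (P.NA_cent (P.commute_z _)).2 ⟨_, rfl, hqS⟩⟩
      have hs : π (h⁻¹ * s * h) ∈ T := by
        have := (Subgroup.mem_set_normalizer_iff''.1 hw (π s)).1 ⟨s, (hS0 s).2 (P.commute_z _), rfl⟩
        show π (h⁻¹ * s * h) ∈ (TS : Subgroup (P.NA ⧸ A'))
        rw [map_mul, map_mul, map_inv]
        exact this
      rw [← Subgroup.mem_comap, ← hcom, hS0] at hs
      rw [← P.comm_iff, hX]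
      have hs' : (h : G)⁻¹ * P.ev (inl q) * h * z = z * ((h : G)⁻¹ * P.ev (inl q) * h) := hs
      calc e * P.ev (inl q) = h * (z * ((h : G)⁻¹ * P.ev (inl q) * h)) * (h : G)⁻¹ := by simp only [e]; group
        _ = h * ((h : G)⁻¹ * P.ev (inl q) * h * z) * (h : G)⁻¹ := by rw [hs']
        _ = P.ev (inl q) * e := by simp only [e]; group
    rw [this, P.ev_z] at hX
    exact mul_inv_eq_iff_eq_mul.1 hX.symm
  set M := (MonoidHom.transferSylow TS hP).ker
  have hMT := MonoidHom.ker_transferSylow_isComplement' TS hP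
  have hMc : Nat.card M = 15 := by
    have h : Nat.card M * Nat.card T = Nat.card (P.NA ⧸ A') := hMT.card_mul
    rw [hTc, hW] at h
    omega
  obtain ⟨f, hf⟩ := exists_prime_orderOf_dvd_card' (G := M) 5 (by rw [hMc]; norm_num)
  haveI hF : (Subgroup.zpowers f).Normal := Subgroup.normal_of_index_eq_minFac_card (by
    have := Subgroup.card_mul_index (Subgroup.zpowers f)
    rw [Nat.card_zpowers, hf, hMc] at this
    rw [hMc, show Nat.minFac 15 = 3 by norm_num]
    omega)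
  have hfive : ∀ x : M, x ^ 5 = 1 → x ∈ Subgroup.zpowers f := by
    intro x hx
    rw [← QuotientGroup.eq_one_iff (N := Subgroup.zpowers f)]
    have h3 : ((x : M ⧸ Subgroup.zpowers f)) ^ 3 = 1 := by
      have hc : Nat.card (M ⧸ Subgroup.zpowers f) = 3 := by
        have := (Subgroup.zpowers f).card_eq_card_quotient_mul_card_subgroup
        rw [Nat.card_zpowers, hf, hMc] at this
        omega
      rw [← hc]
      exact pow_card_eq_one'
    have h5 : ((x : M ⧸ Subgroup.zpowers f)) ^ 5 = 1 := by rw [← QuotientGroup.mk_pow, hx, QuotientGroup.mk_one]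
    exact orderOf_eq_one_iff.1 (Nat.eq_one_of_dvd_coprimes (by norm_num : Nat.Coprime 3 5)
      (orderOf_dvd_of_pow_eq_one h3) (orderOf_dvd_of_pow_eq_one h5))
  set f0 : P.NA ⧸ A' := (f : P.NA ⧸ A')
  have hf0 : orderOf f0 = 5 := by rw [Subgroup.orderOf_coe, hf]
  have hact : ∀ t ∈ T, t * f0 * t⁻¹ = f0 ∨ t * f0 * t⁻¹ = f0⁻¹ := by
    intro t ht
    have h5 : f0 ^ 5 = 1 := by rw [← hf0, pow_orderOf_eq_one]
    obtain ⟨k, hk⟩ : ∃ k : ℕ, f0 ^ k = t * f0 * t⁻¹ := by
      have hx : t * f0 * t⁻¹ ∈ M := (inferInstance : M.Normal).conj_mem _ f.2 t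
      obtain ⟨k, hk⟩ := mem_powers_iff_mem_zpowers.2 (hfive ⟨_, hx⟩ (Subtype.ext (by
        show (t * f0 * t⁻¹) ^ 5 = 1
        rw [conj_pow, h5]; group)))
      exact ⟨k, congrArg Subtype.val hk⟩
    have hkk : f0 ^ (k * k) = f0 := by
      rw [pow_mul, hk, conj_pow, hk]
      calc t * (t * f0 * t⁻¹) * t⁻¹ = (t * t) * f0 * (t * t)⁻¹ := by group
        _ = f0 := by rw [hTsq t ht]; group
    have hm : (k * k) % 5 = 1 := by
      have := pow_inj_mod.1 (hkk.trans (pow_one f0).symm)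
      rw [hf0] at this
      omega
    rw [← hk, ← pow_mod_orderOf f0 k, hf0]
    have h4 : k % 5 = 1 ∨ k % 5 = 4 := by
      have : k % 5 < 5 := Nat.mod_lt _ (by norm_num)
      rw [Nat.mul_mod] at hm
      interval_cases h : k % 5 <;> omega
    rcases h4 with e | e <;> rw [e]
    · exact Or.inl (pow_one f0)
    · exact Or.inr (eq_inv_of_mul_eq_one_left (by rw [← pow_succ, h5]))
  obtain ⟨t, ht, ht1, htf⟩ : ∃ t ∈ T, t ≠ 1 ∧ t * f0 * t⁻¹ = f0 := by
    obtain ⟨a, b, ha, hb, hab⟩ : ∃ a b : T, a ≠ 1 ∧ b ≠ 1 ∧ a ≠ b := by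
      haveI : Fintype T := Fintype.ofFinite T
      have h4 : (Finset.univ.erase (1 : T)).card = 3 := by
        rw [Finset.card_erase_of_mem (Finset.mem_univ _), Finset.card_univ, ← Nat.card_eq_fintype_card, hTc]
      obtain ⟨a, ha, b, hb, hab⟩ := Finset.one_lt_card.1 (by rw [h4]; norm_num : 1 < (Finset.univ.erase (1 : T)).card)
      exact ⟨a, b, Finset.ne_of_mem_erase ha, Finset.ne_of_mem_erase hb, hab⟩
    rcases hact a a.2 with ea | ea
    · exact ⟨a, a.2, fun h => ha (Subtype.ext h), ea⟩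
    rcases hact b b.2 with eb | eb
    · exact ⟨b, b.2, fun h => hb (Subtype.ext h), eb⟩
    refine ⟨a * b, mul_mem a.2 b.2, fun h => hab ?_, ?_⟩
    · have h' : a * b = 1 := Subtype.ext h
      rw [eq_inv_of_mul_eq_one_left h']
      exact inv_eq_of_mul_eq_one_right (Subtype.ext (hTsq b b.2))
    · calc (a : P.NA ⧸ A') * b * f0 * ((a : P.NA ⧸ A') * b)⁻¹ = a * (b * f0 * (b : P.NA ⧸ A')⁻¹) * (a : P.NA ⧸ A')⁻¹ := by group
        _ = (a * f0 * (a : P.NA ⧸ A')⁻¹)⁻¹ := by rw [eb]; group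
        _ = f0 := by rw [ea, inv_inv]
  obtain ⟨s, hs, rfl⟩ := ht
  obtain ⟨h, hh⟩ := QuotientGroup.mk'_surjective A' f0
  obtain ⟨X, hX, hXS⟩ := hS0el s hs
  have hXA : inA X = false := by
    by_contra hc
    rw [Bool.not_eq_false] at hc
    exact ht1 ((QuotientGroup.eq_one_iff (N := A') s).2 ⟨X, hX, hc⟩)
  set Fix : Set G := {a | a ∈ P.A ∧ (s : G) * a = a * s}
  have hFix4 : Fix.ncard = 4 := by
    rw [P.ncard_A_filter (fun Y => comm X Y) Fix (fun Y hY => ?_) (fun x hx => hx.1), inS_move X hXS hXA]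
    rw [← P.comm_iff, hX]
    exact ⟨fun h => h.2, fun h => ⟨P.ev_mem_A.2 hY, h⟩⟩
  have hcom' : π s * f0 = f0 * π s := mul_inv_eq_iff_eq_mul.1 htf
  -- the element of order five permutes the fixed points
  have hperm : ∀ a ∈ Fix, (h : G) * a * (h : G)⁻¹ ∈ Fix := by
    rintro a ⟨ha, hsa⟩
    have ha0 : h⁻¹ * s⁻¹ * h * s ∈ A' := by
      refine (QuotientGroup.eq_one_iff (N := A') _).1 ?_
      show π (h⁻¹ * s⁻¹ * h * s) = 1
      simp only [map_mul, map_inv]
      rw [show π h = f0 from hh, mul_assoc, ← hcom']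
      group
    set a0 : G := ((h⁻¹ * s⁻¹ * h * s : P.NA) : G) with ha0'
    have hsh : (s : G) * h = (h : G) * s * a0⁻¹ := by
      rw [ha0']; push_cast; group
    refine ⟨P.NA_conj h.2 ha, ?_⟩
    have h0 : a0⁻¹ * a = a * a0⁻¹ := P.A_comm (inv_mem ha0) ha
    calc (s : G) * ((h : G) * a * (h : G)⁻¹) = ((s : G) * h) * a * (h : G)⁻¹ := by group
      _ = (h : G) * (s * (a0⁻¹ * a)) * (h : G)⁻¹ := by rw [hsh]; group
      _ = (h : G) * ((s * a) * a0⁻¹) * (h : G)⁻¹ := by rw [h0]; group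
      _ = (h : G) * a * ((s * a0⁻¹) * (h : G)⁻¹) := by rw [hsa]; group
      _ = (h : G) * a * ((h : G)⁻¹ * ((s : G) * h) * (h : G)⁻¹) := by rw [hsh]; group
      _ = _ := by group
  have hzFix : z ∈ Fix := ⟨P.z_mem_A, (hS0 s).1 hs⟩
  have hpow : ∀ k : ℕ, (h : G) ^ k * z * ((h : G) ^ k)⁻¹ ∈ Fix := by
    intro k
    induction k with
    | zero => simpa using hzFix
    | succ k ih =>
      have := hperm _ ih
      rwa [show (h : G) * ((h : G) ^ k * z * ((h : G) ^ k)⁻¹) * (h : G)⁻¹ = (h : G) ^ (k + 1) * z * ((h : G) ^ (k + 1))⁻¹ by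
        rw [pow_succ']; group] at this
  have h5 : ((h : G) ^ 5) * z = z * (h : G) ^ 5 := by
    have : h ^ 5 ∈ A' := by
      refine (QuotientGroup.eq_one_iff (N := A') _).1 ?_
      show π (h ^ 5) = 1
      rw [map_pow, show π h = f0 from hh, ← hf0, pow_orderOf_eq_one]
    exact P.A_comm (show (h : G) ^ 5 ∈ P.A by simpa [A', Subgroup.mem_subgroupOf] using this) P.z_mem_A
  -- pigeonhole
  obtain ⟨i, hi, j, hj, hij, hev⟩ : ∃ i ∈ Finset.range 5, ∃ j ∈ Finset.range 5, i < j ∧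
      (h : G) ^ i * z * ((h : G) ^ i)⁻¹ = (h : G) ^ j * z * ((h : G) ^ j)⁻¹ := by
    obtain ⟨i, hi, j, hj, hne, he⟩ := Finset.exists_ne_map_eq_of_card_lt_of_maps_to
      (s := Finset.range 5) (t := (Set.toFinite Fix).toFinset)
      (by rw [Finset.card_range, ← Set.ncard_eq_toFinset_card Fix, hFix4]; norm_num)
      (f := fun k => (h : G) ^ k * z * ((h : G) ^ k)⁻¹) (fun k _ => by simpa using hpow k)
    rcases Nat.lt_or_gt_of_ne hne with hlt | hlt
    · exact ⟨i, hi, j, hj, hlt, he⟩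
    · exact ⟨j, hj, i, hi, hlt, he.symm⟩
  have hd : Commute ((h : G) ^ (j - i)) z := by
    have : (h : G) ^ j = (h : G) ^ i * (h : G) ^ (j - i) := by rw [← pow_add]; congr 1; omega
    rw [this] at hev
    show (h : G) ^ (j - i) * z = z * (h : G) ^ (j - i)
    calc (h : G) ^ (j - i) * z
        = ((h : G) ^ i)⁻¹ * ((h : G) ^ i * (h : G) ^ (j - i) * z * ((h : G) ^ i * (h : G) ^ (j - i))⁻¹) *
          ((h : G) ^ i) * (h : G) ^ (j - i) := by group
      _ = _ := by rw [← hev]; group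
  have hhz : Commute (h : G) z := by
    have hd4 : 1 ≤ j - i ∧ j - i ≤ 4 := by simp only [Finset.mem_range] at hi hj; omega
    obtain ⟨e, m, hem⟩ : ∃ e m : ℕ, (j - i) * e = 5 * m + 1 := by
      rcases (by omega : j - i = 1 ∨ j - i = 2 ∨ j - i = 3 ∨ j - i = 4) with q | q | q | q <;> rw [q]
      exacts [⟨1, 0, rfl⟩, ⟨3, 1, rfl⟩, ⟨2, 1, rfl⟩, ⟨4, 3, rfl⟩]
    have h1 : (h : G) = (((h : G) ^ 5) ^ m)⁻¹ * ((h : G) ^ (j - i)) ^ e := by
      rw [← pow_mul, ← pow_mul, hem, pow_succ, inv_mul_cancel_left]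
    rw [h1]
    exact (((show Commute ((h : G) ^ 5) z from h5).pow_left m).inv_left).mul_left (hd.pow_left e)
  have hfT : f0 ∈ T := ⟨h, (hS0 h).2 hhz.eq, hh⟩
  have hd := Subgroup.orderOf_dvd_natCard T hfT
  rw [hf0, hTc] at hd
  norm_num at hd

end Par

end Cfsg.Agent.MTwelve.SwapCase
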