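import Cfsg.Agent.Lib.Spor.MTwelve.SwapCase.Pattern

/-!
Either an elementary subgroup of order eight is normal, or there are two classes of involutions in a standard
labelling.
-/

set_option autoImplicit false

namespace Cfsg.Agent.MTwelve.SwapCase

open CentShape OrderFront

universe u

variable {G : Type u} [Group G]

/-- The standard labelling with two classes of involutions. -/
structure Two {z : G} (P : Par z) : Prop where
  fused₁ : P.Fused 1
  fused₂ : P.Fused 2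
  isX : ∀ {k : Fin 8} {x : G}, P.Lb k x → k = 1 ∨ k = 3 ∨ k = 4 ∨ k = 6 → IsX z x
  notX : ∀ {k : Fin 8} {x : G}, P.Lb k x → k = 2 ∨ k = 5 → ¬ IsX z x

namespace Par

variable {z : G} (P : Par z)

include P in
theorem em_assoc (X Y W : El) : em (em X Y) W = em X (em Y W) := P.inj (by simp only [← P.mul, mul_assoc])

include P in
theorem sym_hom (X Y : El) : shift (em X Y) = em (shift X) (shift Y) ∧ flip (em X Y) = em (flip X) (flip Y) := by
  let good : El → Prop := fun Y => ∀ X, shift (em X Y) = em (shift X) (shift Y) ∧ flip (em X Y) = em (flip X) (flip Y)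
  have step : ∀ A B, good A → good B → good (em A B) := by
    intro A B hA hB X
    constructor
    · rw [← P.em_assoc, (hB _).1, (hA X).1, (hB A).1, P.em_assoc]
    · rw [← P.em_assoc, (hB _).2, (hA X).2, (hB A).2, P.em_assoc]
  have h : good Y := by
    rw [← decomp Y, ← decomp_core Y.1]
    exact step _ _ (step _ _ (step _ _ (fun X => shift_mul_z X _) fun X => shift_mul_u X _)
      fun X => shift_mul_u' X _) fun X => shift_mul_out X _
  exact h X

/-- cyclic relabelling of the classes in the core -/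
def shifted : Par z := P.comp shift shift_bij (fun X Y => (P.sym_hom X Y).1) shift_fixed.1

/-- exchange of the outer classes -/
def flipped : Par z := P.comp flip flip_bij (fun X Y => (P.sym_hom X Y).2) shift_fixed.2

theorem lb_shifted {k : Fin 8} {x : G} (h : P.shifted.Lb k x) :
    P.Lb ((![0, 1, 4, 2, 3, 5, 6, 7] : Fin 8 → Fin 8) k) x := by
  obtain ⟨X, hX, hk⟩ := h
  exact ⟨shift X, hX, by rw [(shift_lab X).1, hk]⟩

theorem lb_flipped {k : Fin 8} {x : G} (h : P.flipped.Lb k x) :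
    P.Lb ((![0, 1, 2, 3, 4, 6, 5, 7] : Fin 8 → Fin 8) k) x := by
  obtain ⟨X, hX, hk⟩ := h
  exact ⟨flip X, hX, by rw [(shift_lab X).2, hk]⟩

/-- the pattern with two classes, in an arbitrary labelling -/
def Pat (b : Fin 3) (s : Bool) : Prop :=
  (∀ m, m ≠ b → IsX z (P.ev (repC m))) ∧ ¬ IsX z (P.ev (repC b)) ∧ IsX z (P.ev (repT s)) ∧
    ¬ IsX z (P.ev (repT !s))

theorem isX_lb_C {m : Fin 3} {x : G} (h : P.Lb (clC m) x) : IsX z x ↔ IsX z (P.ev (repC m)) := by
  obtain ⟨l, -, rfl⟩ := P.conj_repC h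
  exact ⟨IsX.of_conj, fun h => h.conj l⟩

theorem isX_lb_T {s : Bool} {x : G} (h : P.Lb (lab (repT s)) x) : IsX z x ↔ IsX z (P.ev (repT s)) := by
  obtain ⟨l, -, rfl⟩ := P.conj_repT h
  exact ⟨IsX.of_conj, fun h => h.conj l⟩

theorem fused_of_isX {m : Fin 3} (h : IsX z (P.ev (repC m))) : P.Fused m := by
  obtain ⟨g, hg⟩ := h
  exact P.fused_of_conj hg

theorem pat_std (h : P.Pat 0 true) : Two P := by
  obtain ⟨h1, h2, h3, h4⟩ := h
  refine ⟨P.fused_of_isX (h1 1 (by decide)), P.fused_of_isX (h1 2 (by decide)), ?_, ?_⟩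
  · rintro k x hx (rfl | rfl | rfl | rfl)
    · obtain ⟨X, rfl, hX⟩ := hx
      rw [(lab_one X).1 hX, P.ev_z]
      exact ⟨1, by simp⟩
    · exact (P.isX_lb_C (m := 1) hx).2 (h1 1 (by decide))
    · exact (P.isX_lb_C (m := 2) hx).2 (h1 2 (by decide))
    · exact (P.isX_lb_T (s := true) (lab_repT.2.symm ▸ hx)).2 h3
  · rintro k x hx (rfl | rfl)
    · exact fun h => h2 ((P.isX_lb_C (m := 0) hx).1 h)
    · exact fun h => h4 ((P.isX_lb_T (s := false) (lab_repT.1.symm ▸ hx)).1 h)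

theorem pat_shifted {b : Fin 3} {s : Bool} (h : P.Pat b s) : P.shifted.Pat (b + 1) s := by
  obtain ⟨h1, h2, h3, h4⟩ := h
  have hC : ∀ m : Fin 3, IsX z (P.shifted.ev (repC m)) ↔ IsX z (P.ev (repC (m - 1))) := fun m => by
    have h := P.lb_shifted (P.shifted.repC_lb m)
    rw [show (![0, 1, 4, 2, 3, 5, 6, 7] : Fin 8 → Fin 8) (clC m) = clC (m - 1) from
      (show ∀ m : Fin 3, (![0, 1, 4, 2, 3, 5, 6, 7] : Fin 8 → Fin 8) (clC m) = clC (m - 1) by decide) m] at h
    exact P.isX_lb_C h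
  have hT : ∀ t : Bool, IsX z (P.shifted.ev (repT t)) ↔ IsX z (P.ev (repT t)) := fun t => by
    have h := P.lb_shifted (k := lab (repT t)) ⟨repT t, rfl, rfl⟩
    rw [show (![0, 1, 4, 2, 3, 5, 6, 7] : Fin 8 → Fin 8) (lab (repT t)) = lab (repT t) from
      (show ∀ t : Bool, (![0, 1, 4, 2, 3, 5, 6, 7] : Fin 8 → Fin 8) (lab (repT t)) = lab (repT t) by decide +kernel) t] at h
    exact P.isX_lb_T h
  refine ⟨fun m hm => (hC m).2 (h1 _ fun e => hm ?_), fun e => h2 ?_, (hT s).2 h3, fun e => h4 ((hT _).1 e)⟩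
  · rw [← e, sub_add_cancel]
  · have := (hC _).1 e
    rwa [add_sub_cancel_right] at this

theorem pat_flipped {b : Fin 3} {s : Bool} (h : P.Pat b s) : P.flipped.Pat b (!s) := by
  obtain ⟨h1, h2, h3, h4⟩ := h
  have hC : ∀ m : Fin 3, IsX z (P.flipped.ev (repC m)) ↔ IsX z (P.ev (repC m)) := fun m => by
    have h := P.lb_flipped (P.flipped.repC_lb m)
    rw [show (![0, 1, 2, 3, 4, 6, 5, 7] : Fin 8 → Fin 8) (clC m) = clC m from
      (show ∀ m : Fin 3, (![0, 1, 2, 3, 4, 6, 5, 7] : Fin 8 → Fin 8) (clC m) = clC m by decide) m] at h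
    exact P.isX_lb_C h
  have hT : ∀ t : Bool, IsX z (P.flipped.ev (repT t)) ↔ IsX z (P.ev (repT !t)) := fun t => by
    have h := P.lb_flipped (k := lab (repT t)) ⟨repT t, rfl, rfl⟩
    rw [show (![0, 1, 2, 3, 4, 6, 5, 7] : Fin 8 → Fin 8) (lab (repT t)) = lab (repT !t) from
      (show ∀ t : Bool, (![0, 1, 2, 3, 4, 6, 5, 7] : Fin 8 → Fin 8) (lab (repT t)) = lab (repT !t) by decide +kernel) t] at h
    exact P.isX_lb_T h
  refine ⟨fun m hm => (hC m).2 (h1 m hm), fun e => h2 ((hC b).1 e), (hT _).2 (by rwa [Bool.not_not]), fun e => h4 ?_⟩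
  have := (hT _).1 e
  rwa [Bool.not_not] at this

theorem exists_two {b : Fin 3} {s : Bool} (h : P.Pat b s) : ∃ P' : Par z, Two P' := by
  obtain ⟨P', h'⟩ : ∃ P' : Par z, P'.Pat 0 s := by
    fin_cases b
    · exact ⟨P, h⟩
    · exact ⟨_, P.shifted.pat_shifted (P.pat_shifted h)⟩
    · exact ⟨_, P.pat_shifted h⟩
  cases s
  · exact ⟨_, P'.flipped.pat_std (P'.pat_flipped h')⟩
  · exact ⟨_, P'.pat_std h'⟩

/-- The two possibilities. -/
theorem split [Finite G] {n : Fin 3} (F : P.Fused n) :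
    (∃ (N : Subgroup G) (_ : N.Normal), IsMulCommutative N ∧ (∀ x ∈ N, x ^ 2 = 1) ∧ Nat.card N = 8 ∧
      Nonempty (G ⧸ N ≃* Matrix.ProjectiveSpecialLinearGroup (Fin 3) (ZMod 2))) ∨ ∃ P' : Par z, Two P' := by
  by_cases hX : ∀ m, m ≠ n → ∀ g : G, g * z * g⁻¹ ≠ P.ev (repC m)
  · exact Or.inl (P.one_class F hX)
  push Not at hX
  obtain ⟨a, ha, g, hg⟩ := hX
  have hXa : IsX z (P.ev (repC a)) := ⟨g, hg⟩
  have hXn : IsX z (P.ev (repC n)) := by
    obtain ⟨h, -, hh⟩ := F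
    exact ⟨h, hh⟩
  obtain ⟨b, hb, hba, hall⟩ := (show ∀ n a : Fin 3, a ≠ n → ∃ b, b ≠ n ∧ b ≠ a ∧ ∀ m, m = n ∨ m = a ∨ m = b
    by decide) n a ha
  obtain ⟨s, ⟨h, -, hh⟩, k, -, hk⟩ := P.pairing F ha hb (Ne.symm hba)
  have hTs : IsX z (P.ev (repT s)) := (P.isX_lb_T hh).1 (hXa.conj h)
  have hTb : IsX z (P.ev (repT !s)) ↔ IsX z (P.ev (repC b)) :=
    ⟨fun e => ((P.isX_lb_T hk).2 e).of_conj, fun e => (P.isX_lb_T hk).1 (e.conj k)⟩
  by_cases hXb : IsX z (P.ev (repC b))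
  · exfalso
    refine P.not_all_fused fun {x} hxz hx2 hx1 => ?_
    have hTall : ∀ t : Bool, IsX z (P.ev (repT t)) := fun t => by
      by_cases e : t = s
      · exact e ▸ hTs
      · rw [show t = !s by cases t <;> cases s <;> simp_all]
        exact hTb.2 hXb
    rcases P.lb_of_invol hxz hx2 with e | e | ⟨m, e⟩ | e | e
    · exact absurd e hx1
    · exact ⟨1, by simp [e]⟩
    · refine (P.isX_lb_C e).2 ?_
      rcases hall m with rfl | rfl | rfl <;> assumption
    · exact (P.isX_lb_T (s := false) (lab_repT.1.symm ▸ e)).2 (hTall _)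
    · exact (P.isX_lb_T (s := true) (lab_repT.2.symm ▸ e)).2 (hTall _)
  · refine Or.inr (P.exists_two (b := b) (s := s) ⟨fun m hm => ?_, hXb, hTs, fun e => hXb (hTb.1 e)⟩)
    rcases hall m with rfl | rfl | rfl
    exacts [hXn, hXa, absurd rfl hm]

end Par

end Cfsg.Agent.MTwelve.SwapCase
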