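import Cfsg.Agent.Lib.Spor.MTwelve.SwapCase.Affine
import Cfsg.Agent.Lib.Char.ZStar
import Cfsg.Agent.Lib.Char.IsolatedStep
import Cfsg.Agent.S0208
import Cfsg.Agent.S0209

/-!
When only one class of the two-core is fused with the central involution, an elementary subgroup of order eight is
normal.
-/

set_option autoImplicit false
set_option linter.style.haveILetI false

namespace Cfsg.Agent.MTwelve.SwapCase

open CentShape OrderFront

universe u

namespace Par

variable {G : Type u} [Group G] [Finite G] {z : G} (P : Par z) {n : Fin 3}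

theorem nm_conj_iff {h x : G} (hh : P.Nm n h) : h⁻¹ * x * h ∈ P.E n ↔ x ∈ P.E n := by
  rw [hh]
  simp [mul_assoc]

omit [Finite G] in
/-- An involution of the centraliser outside the elementary subgroup is fused into the core inside the normaliser. -/
theorem class_in_core (F : P.Fused n) {x : G} (hxz : x * z = z * x) (hx2 : x * x = 1) (hx : x ∉ P.E n) :
    ∃ m, m ≠ n ∧ ∃ h, P.Nm n h ∧ h * P.ev (repC m) * h⁻¹ = x := by
  have hT : ∀ s : Bool, P.Lb (lab (repT s)) x → ∃ m, m ≠ n ∧ ∃ h, P.Nm n h ∧ h * P.ev (repC m) * h⁻¹ = x := by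
    intro s hs
    obtain ⟨a, b, ha, hb, hab⟩ := (show ∀ n : Fin 3, ∃ a b : Fin 3, a ≠ n ∧ b ≠ n ∧ a ≠ b by decide) n
    obtain ⟨s', ⟨h, hh, hha⟩, k, hk, hkb⟩ := P.pairing F ha hb hab
    have fin : ∀ m h, m ≠ n → P.Nm n h → P.Lb (lab (repT s)) (h * P.ev (repC m) * h⁻¹) →
        ∃ m, m ≠ n ∧ ∃ h, P.Nm n h ∧ h * P.ev (repC m) * h⁻¹ = x := by
      intro m h hm hh hhm
      obtain ⟨l1, hl1, e1'⟩ := P.conj_repT hhm
      obtain ⟨l2, hl2, e2⟩ := P.conj_repT hs
      refine ⟨m, hm, l2 * l1⁻¹ * h, P.nm_mul (P.nm_mul (P.nm_cent hl2) (P.nm_inv (P.nm_cent hl1))) hh, ?_⟩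
      calc l2 * l1⁻¹ * h * P.ev (repC m) * (l2 * l1⁻¹ * h)⁻¹
          = l2 * (l1⁻¹ * (h * P.ev (repC m) * h⁻¹) * l1) * l2⁻¹ := by group
        _ = x := by rw [← e1', ← e2]; group
    by_cases hs' : s = s'
    · exact fin a h ha hh (hs' ▸ hha)
    · have : s = !s' := by cases s <;> cases s' <;> simp_all
      exact fin b k hb hk (this ▸ hkb)
  rcases P.lb_of_invol hxz hx2 with e | e | ⟨m, e⟩ | e | e
  · exact absurd (show x ∈ P.E n by rw [e]; exact one_mem _) hx
  · exact absurd (show x ∈ P.E n by rw [e]; exact P.z_mem_E n) hx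
  · refine ⟨m, fun hm => hx (P.mem_E_iff.2 (Or.inr (Or.inr (hm ▸ e)))), ?_⟩
    obtain ⟨l, hl, hlx⟩ := P.conj_repC e
    exact ⟨l, P.nm_cent hl, hlx⟩
  · exact hT false (lab_repT.1.symm ▸ e)
  · exact hT true (lab_repT.2.symm ▸ e)

theorem nm_of_cent_E (F : P.Fused n) {e g : G} (he : e ∈ P.E n) (he1 : e ≠ 1) (hg : g * e = e * g) : P.Nm n g := by
  obtain ⟨h, hh, rfl⟩ := P.trans_E F he he1
  have hk : h⁻¹ * g * h * z = z * (h⁻¹ * g * h) := by
    calc h⁻¹ * g * h * z = h⁻¹ * (g * (h * z * h⁻¹)) * h := by group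
      _ = h⁻¹ * (h * z * h⁻¹ * g) * h := by rw [hg]
      _ = _ := by group
  have := P.nm_mul (P.nm_mul hh (P.nm_cent hk)) (P.nm_inv hh)
  rwa [show h * (h⁻¹ * g * h) * h⁻¹ = g by group] at this

theorem orderOf_two {x : G} (h : x * x = 1) (h1 : x ≠ 1) : orderOf x = 2 :=
  orderOf_eq_prime (by rw [sq, h]) h1

section One

variable (F : P.Fused n) (hX : ∀ m, m ≠ n → ∀ g : G, g * z * g⁻¹ ≠ P.ev (repC m))

include F hX

omit [Finite G] in
theorem conj_mem_E {g : G} (h : g * z * g⁻¹ * z = z * (g * z * g⁻¹)) : g * z * g⁻¹ ∈ P.E n := by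
  by_contra hc
  have h2 : g * z * g⁻¹ * (g * z * g⁻¹) = 1 := by
    rw [show g * z * g⁻¹ * (g * z * g⁻¹) = g * (z * z) * g⁻¹ by group, P.z_sq]; group
  obtain ⟨m, hm, k, -, hkx⟩ := P.class_in_core F h h2 hc
  refine hX m hm (k⁻¹ * g) ?_
  calc k⁻¹ * g * z * (k⁻¹ * g)⁻¹ = k⁻¹ * (g * z * g⁻¹) * k := by group
    _ = _ := by rw [← hkx]; group

theorem cent_le {m : Fin 3} (hm : m ≠ n) {g : G} (hg : g * P.ev (repC m) = P.ev (repC m) * g) : g * z = z * g := by
  set c := P.ev (repC m) with hc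
  have hcz : z * c = c * z := (P.commute_z _).symm
  have hiso0 : ∀ g : G, g * c = c * g → g * z * g⁻¹ * z = z * (g * z * g⁻¹) → g * z * g⁻¹ = z := by
    intro g hg hcomm
    have he := P.conj_mem_E F hX hcomm
    obtain ⟨h, hh, hhe⟩ := P.trans_E F he fun e => P.z_ne (conj_eq_one_iff.1 e)
    have hl : h⁻¹ * g * z = z * (h⁻¹ * g) := by
      calc h⁻¹ * g * z = h⁻¹ * (g * z * g⁻¹) * g := by group
        _ = h⁻¹ * (h * z * h⁻¹) * g := by rw [hhe]
        _ = _ := by group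
    have hgN : P.Nm n g := by
      have := P.nm_mul hh (P.nm_cent hl)
      rwa [mul_inv_cancel_left] at this
    rw [P.cent_nm hm (P.repC_lb m) hgN hg, mul_inv_cancel_right]
  let H := Subgroup.centralizer ({c} : Set G)
  let zH : H := ⟨z, Subgroup.mem_centralizer_singleton_iff.2 hcz⟩
  have hzH : Cfsg.IsIsolatedInvolution zH := by
    refine ⟨by rw [Subgroup.orderOf_mk]; exact orderOf_two P.z_sq P.z_ne, fun k hk => Subtype.ext ?_⟩
    exact hiso0 k (Subgroup.mem_centralizer_singleton_iff.1 k.2) (congrArg Subtype.val hk.eq).symm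
  have hO : ∀ o : H, o ∈ Cfsg.oddCore H → o = 1 := by
    obtain ⟨q, hq, -, r, hr, hr1, hrz, hrc⟩ := noncomm_core n m hm
    set w := P.ev (inl r)
    have hw : w ∈ P.E n := ⟨_, rfl, hr⟩
    have hwc : w * c = c * w := ((P.comm_iff _ _).2 hrc).symm
    have hodd : Odd (Nat.card (Cfsg.oddCore H)) := Char.card_oddCore_odd H
    -- no fixed points
    have hfix : ∀ j ∈ P.E n, j ≠ 1 → j * c = c * j → ∀ o : H, o ∈ Cfsg.oddCore H → (o : G) * j = j * o → o = 1 := by
      intro j hj hj1 hjc o ho hoj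
      obtain ⟨h, hh, hhj⟩ := P.trans_E F hj hj1
      have hy : (h⁻¹ * c * h) * z = z * (h⁻¹ * c * h) := by
        calc h⁻¹ * c * h * z = h⁻¹ * (c * (h * z * h⁻¹)) * h := by group
          _ = h⁻¹ * (h * z * h⁻¹ * c) * h := by rw [hhj, hjc]
          _ = _ := by group
      have hy2 : h⁻¹ * c * h * (h⁻¹ * c * h) = 1 := by
        rw [show h⁻¹ * c * h * (h⁻¹ * c * h) = h⁻¹ * (c * c) * h by group, hc, P.lb_sq (P.repC_lb m) (clC_lt m)]
        group
      have hyE : h⁻¹ * c * h ∉ P.E n := fun e => P.core_not_mem hm (P.repC_lb m) ((P.nm_conj_iff hh).1 e)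
      have hoz : h⁻¹ * o * h * z = z * (h⁻¹ * o * h) := by
        calc h⁻¹ * o * h * z = h⁻¹ * (o * (h * z * h⁻¹)) * h := by group
          _ = h⁻¹ * (h * z * h⁻¹ * o) * h := by rw [hhj, hoj]
          _ = _ := by group
      have hoy : h⁻¹ * o * h * (h⁻¹ * c * h) = h⁻¹ * c * h * (h⁻¹ * o * h) := by
        rw [show h⁻¹ * o * h * (h⁻¹ * c * h) = h⁻¹ * (o * c) * h by group,
          Subgroup.mem_centralizer_singleton_iff.1 o.2]
        group
      have h8 : (h⁻¹ * o * h) ^ 8 = 1 := by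
        rcases P.lb_of_invol hy hy2 with e | e | ⟨m', e⟩ | e | e
        · exact absurd (show h⁻¹ * c * h ∈ P.E n by rw [e]; exact one_mem _) hyE
        · exact absurd (show h⁻¹ * c * h ∈ P.E n by rw [e]; exact P.z_mem_E n) hyE
        · exact P.cent_exponent e (by simp [clC]) (by simp [clC]; omega) hoz hoy
        · exact P.cent_exponent e (by decide) (by decide) hoz hoy
        · exact P.cent_exponent e (by decide) (by decide) hoz hoy
      have ho8 : o ^ 8 = 1 := Subtype.ext (by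
        rw [show h⁻¹ * (o : G) * h = h⁻¹ * o * h⁻¹⁻¹ by group, conj_pow] at h8
        simpa using conj_eq_one_iff.1 h8)
      have hdiv : orderOf o ∣ Nat.card (Cfsg.oddCore H) := (Cfsg.oddCore H).orderOf_dvd_natCard ho
      have h1 := orderOf_dvd_of_pow_eq_one ho8
      have hco : (orderOf o).Coprime 8 :=
        Nat.Coprime.pow_right 3 (Nat.coprime_two_right.2 (hodd.of_dvd_nat hdiv))
      exact orderOf_eq_one_iff.1 (Nat.eq_one_of_dvd_coprimes hco dvd_rfl h1)
    have hinv : ∀ j ∈ P.E n, j ≠ 1 → j * c = c * j → ∀ o : H, o ∈ Cfsg.oddCore H → j * o * j⁻¹ = (o : G)⁻¹ := by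
      intro j hj hj1 hjc
      let jH : H := ⟨j, Subgroup.mem_centralizer_singleton_iff.2 hjc⟩
      have hjj : jH * jH = 1 := Subtype.ext (P.E_sq hj)
      let φ : Cfsg.oddCore H → Cfsg.oddCore H := fun o => ⟨jH * o * jH⁻¹ * (o : H)⁻¹,
        mul_mem ((inferInstance : (Cfsg.oddCore H).Normal).conj_mem _ o.2 _) (inv_mem o.2)⟩
      have hφ : Function.Injective φ := by
        intro a b hab
        have h' : jH * a * jH⁻¹ * (a : H)⁻¹ = jH * b * jH⁻¹ * (b : H)⁻¹ := congrArg Subtype.val hab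
        set d : H := (b : H)⁻¹ * a with hd
        have hd' : jH * d * jH⁻¹ = d := by
          calc jH * d * jH⁻¹ = (jH * b * jH⁻¹)⁻¹ * (jH * a * jH⁻¹ * (a : H)⁻¹) * a := by rw [hd]; group
            _ = (jH * b * jH⁻¹)⁻¹ * (jH * b * jH⁻¹ * (b : H)⁻¹) * a := by rw [h']
            _ = d := by rw [hd]; group
        have hd1 : d = 1 := hfix j hj hj1 hjc d (mul_mem (inv_mem b.2) a.2)
          (congrArg Subtype.val (mul_inv_eq_iff_eq_mul.1 hd').symm)
        exact Subtype.ext (inv_mul_eq_one.1 hd1).symm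
      intro o ho
      obtain ⟨a, ha⟩ := (Finite.injective_iff_surjective.1 hφ) ⟨o, ho⟩
      have ha' : jH * a * jH⁻¹ * (a : H)⁻¹ = o := congrArg Subtype.val ha
      have hji : jH⁻¹ = jH := inv_eq_of_mul_eq_one_right hjj
      have key : jH * o * jH⁻¹ = o⁻¹ := by
        rw [← ha', hji]
        calc jH * (jH * a * jH * (a : H)⁻¹) * jH = jH * jH * a * jH * (a : H)⁻¹ * jH := by group
          _ = a * jH * (a : H)⁻¹ * jH⁻¹ := by rw [hjj, one_mul, hji]
          _ = (jH * a * jH⁻¹ * (a : H)⁻¹)⁻¹ := by group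
          _ = _ := by rw [hji]
      exact congrArg Subtype.val key
    intro o ho
    have hzw : z * w ∈ P.E n := mul_mem (P.z_mem_E n) hw
    have hzw1 : z * w ≠ 1 := fun e => by
      have : w = z := by rw [← inv_eq_of_mul_eq_one_right e, inv_eq_of_mul_eq_one_right P.z_sq]
      exact hrz (P.inj (this.trans P.ev_z.symm))
    have hzwc : z * w * c = c * (z * w) := by rw [mul_assoc, hwc, ← mul_assoc, hcz, mul_assoc]
    refine hfix _ hzw hzw1 hzwc o ho ?_
    have e1' := hinv z (P.z_mem_E n) P.z_ne hcz o ho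
    have e2 := hinv w hw (fun e => hr1 (P.inj (e.trans P.ev_one.symm))) hwc o ho
    symm
    rw [← mul_inv_eq_iff_eq_mul]
    calc z * w * o * (z * w)⁻¹ = z * (w * o * w⁻¹) * z⁻¹ := by group
      _ = (z * o * z⁻¹)⁻¹ := by rw [e2]; group
      _ = o := by rw [e1', inv_inv]
  have h := hO _ (Char.zStar_isolated hzH ⟨g, Subgroup.mem_centralizer_singleton_iff.2 hg⟩)
  have h' : z * g * z⁻¹ * g⁻¹ = 1 := congrArg Subtype.val h
  exact (mul_inv_eq_iff_eq_mul.1 (mul_inv_eq_one.1 h')).symm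

theorem other_mem_nm {m : Fin 3} (hm : m ≠ n) (g : G) : P.Nm n (g * P.ev (repC m) * g⁻¹) := by
  set y := g * P.ev (repC m) * g⁻¹ with hy
  have hy2 : y * y = 1 := by
    rw [hy, show g * P.ev (repC m) * g⁻¹ * (g * P.ev (repC m) * g⁻¹) = g * (P.ev (repC m) * P.ev (repC m)) * g⁻¹ by
      group, P.lb_sq (P.repC_lb m) (clC_lt m)]
    group
  have hy1 : y ≠ 1 := fun e => (P.lb_ne_z (P.repC_lb m) (by simp [clC])).2 (conj_eq_one_iff.1 e)
  have hyo := orderOf_two hy2 hy1
  have hzo := orderOf_two P.z_sq P.z_ne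
  have heven : Even (orderOf (z * y)) := by
    rw [← Nat.not_odd_iff_even]
    intro ho
    obtain ⟨d, -, hd⟩ := S0208.result z y hzo hyo ho
    refine hX m hm (g⁻¹ * d) ?_
    calc g⁻¹ * d * z * (g⁻¹ * d)⁻¹ = g⁻¹ * (d * z * d⁻¹) * g := by group
      _ = _ := by rw [hd, hy]; group
  obtain ⟨hjo, hjz, hjy⟩ := S0209.result z y hzo hyo heven
  set j := (z * y) ^ (orderOf (z * y) / 2)
  have hj2 : j * j = 1 := by rw [← sq, ← hjo, pow_orderOf_eq_one]
  by_cases hjE : j ∈ P.E n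
  · exact P.nm_of_cent_E F hjE (fun e => by rw [e, orderOf_one] at hjo; omega) hjy.eq.symm
  · obtain ⟨m', hm', h, hh, hhj⟩ := P.class_in_core F hjz.eq hj2 hjE
    have hk : h⁻¹ * y * h * P.ev (repC m') = P.ev (repC m') * (h⁻¹ * y * h) := by
      calc h⁻¹ * y * h * P.ev (repC m') = h⁻¹ * (y * (h * P.ev (repC m') * h⁻¹)) * h := by group
        _ = h⁻¹ * (h * P.ev (repC m') * h⁻¹ * y) * h := by rw [hhj, hjy.eq.symm]
        _ = _ := by group
    have := P.nm_mul (P.nm_mul hh (P.nm_cent (P.cent_le F hX hm' hk))) (P.nm_inv hh)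
    rwa [show h * (h⁻¹ * y * h) * h⁻¹ = y by group] at this

/-- The elementary subgroup is normal. -/
theorem E_normal : (P.E n).Normal := by
  obtain ⟨m, hm⟩ : ∃ m : Fin 3, m ≠ n := exists_ne n
  set c := P.ev (repC m) with hc
  obtain ⟨e, he, hne⟩ : ∃ e ∈ P.E n, c * e ≠ e * c := by
    by_contra h
    push Not at h
    exact P.core_not_mem hm (P.repC_lb m) (P.E_self_cent fun e he => (h e he).symm)
  set M := Subgroup.normalClosure ({c} : Set G)
  have hMN : M ≤ Subgroup.normalizer (P.E n : Set G) := by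
    refine (Subgroup.closure_le _).2 fun x hx => ?_
    obtain ⟨a, ha, hax⟩ := Group.mem_conjugatesOfSet_iff.1 hx
    rw [Set.mem_singleton_iff] at ha
    subst ha
    obtain ⟨g, rfl⟩ := isConj_iff.1 hax
    exact P.nm_mem.1 (P.other_mem_nm F hX hm g)
  have hcM : c ∈ M := Subgroup.subset_normalClosure rfl
  have hcc : c * c = 1 := P.lb_sq (P.repC_lb m) (clC_lt m)
  have hee : e * e = 1 := P.E_sq he
  have hzM : z ∈ M := by
    have h1 := (P.core_cases hm (P.repC_lb m) he).resolve_left hne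
    have h2 : c * (e * c * e⁻¹) = z := by
      calc c * (e * c * e⁻¹) = c * e * (c * e⁻¹) := by group
        _ = z * (e * c) * (c * e) := by
          rw [inv_eq_of_mul_eq_one_right hee]
          exact congrArg (· * (c * e)) h1
        _ = z * e * (c * c) * e := by group
        _ = z := by rw [hcc, mul_one, mul_assoc, hee, mul_one]
    rw [← h2]
    exact mul_mem hcM (Subgroup.normalClosure_normal.conj_mem _ hcM e)
  refine ⟨fun x hx g => ?_⟩
  by_cases hx1 : x = 1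
  · subst hx1; simp
  obtain ⟨h, -, rfl⟩ := P.trans_E F hx hx1
  set k := g * h with hk
  rw [show g * (h * z * h⁻¹) * g⁻¹ = k * z * k⁻¹ by rw [hk]; group]
  set y := k * z * k⁻¹ with hy
  have hyN : P.Nm n y := P.nm_mem.2 (hMN (Subgroup.normalClosure_normal.conj_mem _ hzM k))
  have hy2 : y * y = 1 := by
    rw [hy, show k * z * k⁻¹ * (k * z * k⁻¹) = k * (z * z) * k⁻¹ by group, P.z_sq]; group
  -- a fixed involution
  obtain ⟨f, hf, hf1, hfy⟩ : ∃ f ∈ P.E n, f ≠ 1 ∧ f * y = y * f := by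
    by_cases hz' : z * y = y * z
    · exact ⟨z, P.z_mem_E n, P.z_ne, hz'⟩
    · have hyz := (hyN z).1 (P.z_mem_E n)
      refine ⟨z * (y * z * y⁻¹), mul_mem (P.z_mem_E n) hyz, fun e => hz' ?_, ?_⟩
      · have : y * z * y⁻¹ = z := by
          rw [← inv_eq_of_mul_eq_one_right e, inv_eq_of_mul_eq_one_right P.z_sq]
        exact (mul_inv_eq_iff_eq_mul.1 this).symm
      · rw [inv_eq_of_mul_eq_one_right hy2] at hyz ⊢
        calc z * (y * z * y) * y = z * (y * z) * (y * y) := by group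
          _ = (y * y) * z * (y * z) := by rw [hy2, mul_one, one_mul]
          _ = y * (y * z * y * z) := by group
          _ = y * (z * (y * z * y)) := by rw [← P.E_comm (P.z_mem_E n) hyz]
  obtain ⟨t, ht, rfl⟩ := P.trans_E F hf hf1
  rw [← P.nm_conj_iff ht]
  have : t⁻¹ * k * z * (t⁻¹ * k)⁻¹ = t⁻¹ * y * t := by rw [hy]; group
  rw [← this]
  refine P.conj_mem_E F hX ?_
  rw [this]
  calc t⁻¹ * y * t * z = t⁻¹ * (y * (t * z * t⁻¹)) * t := by group
    _ = t⁻¹ * (t * z * t⁻¹ * y) * t := by rw [hfy]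
    _ = _ := by group

/-- The first case of the conclusion. -/
theorem one_class : ∃ (N : Subgroup G) (_ : N.Normal), IsMulCommutative N ∧ (∀ x ∈ N, x ^ 2 = 1) ∧ Nat.card N = 8 ∧
    Nonempty (G ⧸ N ≃* Matrix.ProjectiveSpecialLinearGroup (Fin 3) (ZMod 2)) :=
  ⟨P.E n, P.E_normal F hX, ⟨⟨fun a b => Subtype.ext (P.E_comm a.2 b.2)⟩⟩, fun x hx => by rw [sq]; exact P.E_sq hx,
    P.card_E n, P.quotient_iso F (P.E_normal F hX)⟩

end One

end Par

end Cfsg.Agent.MTwelve.SwapCase
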