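import Cfsg.Agent.Lib.Spor.MTwelve.SwapCase.Omega

/-!
The centraliser of an involution of the second class as a four-group times A4 or A5, extended by an involution.
-/

set_option autoImplicit false
set_option linter.style.haveILetI false
set_option maxRecDepth 100000

namespace Cfsg.Agent.MTwelve.SwapCase

open CentShape OrderFront Equiv

universe u

theorem perm_odd_invol : (∀ s : Perm (Fin 4), s * s = 1 → Perm.sign s = -1 → ∃ i j, i ≠ j ∧ s = Equiv.swap i j) ∧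
    ∀ s : Perm (Fin 5), s * s = 1 → Perm.sign s = -1 → ∃ i j, i ≠ j ∧ s = Equiv.swap i j := by decide +kernel

theorem two_degrees {Q : ℕ → Prop} {m : ℕ} (hm : m = 4 ∨ m = 5) (h4 : Q 4) (h5 : Q 5) : Q m := by
  rcases hm with rfl | rfl <;> assumption

variable {G : Type u} [Group G] [Finite G] {z : G} {P : Par z}

namespace Two

variable (T : Two P)

/-- the chosen representation -/
noncomputable def ph : Phi T := T.exists_phi.some

theorem deg : T.ph.m = 4 ∨ T.ph.m = 5 := T.ph.hm.imp And.left And.left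

/-- the representation, extended to the whole group -/
noncomputable def F (g : G) : Perm (Fin T.ph.m) :=
  haveI := Classical.propDecidable (g ∈ T.N0)
  if h : g ∈ T.N0 then T.ph.f ⟨g, h⟩ else 1

theorem F_eq {g : G} (h : g ∈ T.N0) : T.F g = T.ph.f ⟨g, h⟩ := by rw [F, dif_pos h]

theorem F_mul {g h : G} (hg : g ∈ T.N0) (hh : h ∈ T.N0) : T.F (g * h) = T.F g * T.F h := by
  rw [T.F_eq hg, T.F_eq hh, T.F_eq (mul_mem hg hh), ← map_mul]
  rfl

theorem F_one : T.F 1 = 1 := by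
  rw [T.F_eq (one_mem T.N0)]
  exact map_one T.ph.f

theorem F_inv {g : G} (hg : g ∈ T.N0) : T.F g⁻¹ = (T.F g)⁻¹ := by
  rw [T.F_eq hg, T.F_eq (inv_mem hg), ← map_inv]
  rfl

theorem F_inj {a : G} (ha : a ∈ T.K0) (h : T.F a = 1) : a = 1 := by
  rw [T.F_eq (T.K0_le_N0 ha)] at h
  exact congrArg Subtype.val (T.ph.inj ⟨a, T.K0_le_N0 ha⟩ ha h)

theorem F_img {σ : Perm (Fin T.ph.m)} (h : Perm.sign σ = 1) : ∃ a ∈ T.K0, T.F a = σ := by
  obtain ⟨a, ha, hσ⟩ := (T.ph.img σ).1 h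
  exact ⟨a, ha, by rw [T.F_eq a.2]; exact hσ⟩

theorem F_even {a : G} (ha : a ∈ T.K0) : Perm.sign (T.F a) = 1 := by
  rw [T.F_eq (T.K0_le_N0 ha)]
  exact (T.ph.img _).2 ⟨_, ha, rfl⟩

theorem N0_conj {g a : G} (hg : g ∈ T.N0) (ha : a ∈ T.K0) : g * a * g⁻¹ ∈ T.K0 :=
  (Subgroup.mem_set_normalizer_iff.1 hg a).1 ha

theorem K0_inj {a c : G} (ha : a ∈ T.K0) (hc : c ∈ T.K0) (h : T.F a = T.F c) : a = c := by
  refine mul_inv_eq_one.1 (T.F_inj (mul_mem ha (inv_mem hc)) ?_)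
  rw [T.F_mul (T.K0_le_N0 ha) (T.K0_le_N0 (inv_mem hc)), T.F_inv (T.K0_le_N0 hc), h, mul_inv_cancel]

theorem comm_of_F {g a : G} (hg : g ∈ T.N0) (ha : a ∈ T.K0) (h : T.F g * T.F a = T.F a * T.F g) : g * a = a * g := by
  refine mul_inv_eq_iff_eq_mul.1 (T.K0_inj (T.N0_conj hg ha) ha ?_)
  rw [T.F_mul (mul_mem hg (T.K0_le_N0 ha)) (inv_mem hg), T.F_mul hg (T.K0_le_N0 ha), T.F_inv hg, h,
    mul_inv_cancel_right]

theorem mem_C_of_A {a : G} (ha : a ∈ P.A) : a ∈ T.C := (T.A_le_R ha).1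

theorem y_b' : T.b' * T.y ≠ T.y * T.b' ∧ T.b' * T.y ≠ T.y * T.y * T.b' := by
  obtain ⟨-, hyo, -, -, y1, -, -⟩ := T.y_spec
  have hy3 : T.y * T.y * T.y = 1 := by rw [← pow_three', ← hyo, pow_orderOf_eq_one]
  have hne : T.p ≠ T.b' := fun e => absurd (P.inj e) (by decide)
  refine ⟨fun e => hne ?_, fun e => ?_⟩
  · rw [← y1, ← e, mul_inv_cancel_right]
  · have h1 : T.y * T.b' * T.y = T.b' := by
      rw [mul_assoc, e]
      calc T.y * (T.y * T.y * T.b') = (T.y * T.y * T.y) * T.b' := by group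
        _ = T.b' := by rw [hy3, one_mul]
    have h2 : T.y * T.y = T.b' * T.p := by
      calc T.y * T.y = (T.y * T.b' * T.y⁻¹) * (T.b' * T.b') * (T.y * T.b'⁻¹ * T.y) := by
            rw [P.A_sq T.bmem.2.1]; group
        _ = T.p * T.b' * (T.b' * (T.y * T.b' * T.y)) := by
            rw [y1, inv_eq_of_mul_eq_one_right (P.A_sq T.bmem.2.1)]; group
        _ = T.p * T.b' := by rw [h1, P.A_sq T.bmem.2.1, mul_one]
        _ = T.b' * T.p := P.A_comm T.bmem.2.2.2.2.1 T.bmem.2.1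
    have h4 : T.y = 1 := by
      have hsq : T.y * T.y * (T.y * T.y) = 1 := by rw [h2]; exact P.A_sq (mul_mem T.bmem.2.1 T.bmem.2.2.2.2.1)
      calc T.y = (T.y * T.y * T.y) * T.y := by rw [hy3, one_mul]
        _ = 1 := by rw [← hsq]; group
    rw [h4, orderOf_one] at hyo
    omega

/-- The first four-group centralises the A4/A5 subgroup. -/
theorem v_comm_K0 {a : G} (ha : a ∈ T.K0) : T.v * a = a * T.v := by
  obtain ⟨-, hyo, -, hyv, -, -, -⟩ := T.y_spec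
  have hy3 : T.y * T.y * T.y = 1 := by rw [← pow_three', ← hyo, pow_orderOf_eq_one]
  have hv : T.v ∈ T.N0 := T.C_le_N0 (T.mem_C_of_A T.bmem.2.2.1)
  have hb' : T.b' ∈ T.K0 := T.tri2_mem_K0 (Or.inl rfl)
  have hbN := T.K0_le_N0 hb'
  have hyN := T.K0_le_N0 T.y_mem_K0
  suffices hs : T.F T.v = 1 from T.comm_of_F hv ha (by rw [hs, one_mul, mul_one])
  by_contra hs
  have e1' : T.F T.y * T.F T.y * T.F T.y = 1 := by
    rw [← T.F_mul hyN hyN, ← T.F_mul (mul_mem hyN hyN) hyN, hy3, T.F_one]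
  have e2 : T.F T.y ≠ 1 := fun e => by
    have := T.F_inj T.y_mem_K0 e
    rw [this, orderOf_one] at hyo
    omega
  have e3 : T.F T.v * T.F T.y = T.F T.y * T.F T.v := by rw [← T.F_mul hv hyN, ← T.F_mul hyN hv, hyv]
  have e4 : T.F T.v * T.F T.v = 1 := by rw [← T.F_mul hv hv, P.A_sq T.bmem.2.2.1, T.F_one]
  have e5 : T.F T.v * T.F T.b' = T.F T.b' * T.F T.v := by
    rw [← T.F_mul hv hbN, ← T.F_mul hbN hv, P.A_comm T.bmem.2.2.1 T.bmem.2.1]
  have e6 : T.F T.b' * T.F T.b' = 1 := by rw [← T.F_mul hbN hbN, P.A_sq T.bmem.2.1, T.F_one]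
  have key : ∀ w : Perm (Fin T.ph.m), w * w * w = 1 → w ≠ 1 → ∀ s, s * w = w * s → s * s = 1 →
      s ≠ 1 → ∀ a, s * a = a * s → a * a = 1 → Perm.sign a = 1 → a * w = w * a ∨ a * w = w * w * a :=
    two_degrees (Q := fun m => ∀ w : Perm (Fin m), w * w * w = 1 → w ≠ 1 → ∀ s, s * w = w * s → s * s = 1 →
      s ≠ 1 → ∀ a, s * a = a * s → a * a = 1 → Perm.sign a = 1 → a * w = w * a ∨ a * w = w * w * a)
      T.deg perm_rigid.1 perm_rigid.2
  rcases key _ e1' e2 _ e3 e4 hs _ e5 e6 (T.F_even hb') with h | h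
  · rw [← T.F_mul hbN hyN, ← T.F_mul hyN hbN] at h
    exact T.y_b'.1 (T.K0_inj (mul_mem hb' T.y_mem_K0) (mul_mem T.y_mem_K0 hb') h)
  · rw [← T.F_mul hbN hyN, ← T.F_mul hyN hyN, ← T.F_mul (mul_mem hyN hyN) hbN] at h
    exact T.y_b'.2 (T.K0_inj (mul_mem hb' T.y_mem_K0) (mul_mem (mul_mem T.y_mem_K0 T.y_mem_K0) hb') h)

theorem b_comm_K0 {a : G} (ha : a ∈ T.K0) : T.b * a = a * T.b := (T.b_central (T.K0_le_C ha)).symm

theorem tri1_comm_K0 {x a : G} (hx : T.Tri1 x) (ha : a ∈ T.K0) : x * a = a * x := by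
  rcases hx with rfl | rfl | rfl
  · exact T.b_comm_K0 ha
  · exact T.v_comm_K0 ha
  · rw [← T.b_mul_v, mul_assoc, T.v_comm_K0 ha, ← mul_assoc, T.b_comm_K0 ha, mul_assoc]

theorem odd_mem_K0' {a : G} (h1 : ∀ x, T.Tri1 x → x * a = a * x) (ho : Odd (orderOf a)) : a ∈ T.K0 :=
  T.odd_mem_K0 (T.mem_C.2 (h1 _ (Or.inl rfl)).symm) ho

/-- Elements preserving the first triangle normalise the subgroup. -/
theorem mem_N0_of_tri {h : G} (hh : ∀ x, T.Tri1 x → T.Tri1 (h * x * h⁻¹)) : h ∈ T.N0 := by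
  have hsur : ∀ x, T.Tri1 x → ∃ x', T.Tri1 x' ∧ h * x' * h⁻¹ = x := by
    intro x hx
    obtain ⟨⟨x', hx'⟩, he⟩ := (Finite.injective_iff_surjective
      (f := fun w : {w // T.Tri1 w} => (⟨h * w.1 * h⁻¹, hh w.1 w.2⟩ : {w // T.Tri1 w}))).1
      (fun a c e => Subtype.ext (mul_left_cancel (mul_right_cancel (congrArg Subtype.val e)))) ⟨x, hx⟩
    exact ⟨x', hx', congrArg Subtype.val he⟩
  have hle : T.K0.map (MulAut.conj h).toMonoidHom ≤ T.K0 := by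
    conv_lhs => rw [K0]
    rw [MonoidHom.map_closure]
    refine (Subgroup.closure_le _).2 ?_
    rintro _ ⟨a, ⟨ha, ho⟩, rfl⟩
    refine T.odd_mem_K0' (fun x hx => ?_) (by
      show Odd (orderOf ((MulAut.conj h) a))
      rwa [MulEquiv.orderOf_eq])
    obtain ⟨x', hx', rfl⟩ := hsur x hx
    show h * x' * h⁻¹ * (h * a * h⁻¹) = h * a * h⁻¹ * (h * x' * h⁻¹)
    calc h * x' * h⁻¹ * (h * a * h⁻¹) = h * (x' * a) * h⁻¹ := by group
      _ = h * (a * x') * h⁻¹ := by rw [T.tri1_comm_K0 hx' (T.odd_mem_K0 ha ho)]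
      _ = _ := by group
  have heq : T.K0.map (MulAut.conj h).toMonoidHom = T.K0 :=
    Subgroup.eq_of_le_of_card_ge hle (by rw [Subgroup.card_map_of_injective (MulAut.conj h).injective])
  refine Subgroup.mem_set_normalizer_iff.2 fun a => ⟨fun ha => hle ⟨a, ha, rfl⟩, fun ha => ?_⟩
  rw [← heq] at ha
  obtain ⟨c, hc, he⟩ := ha
  have := mul_left_cancel (mul_right_cancel (he : h * c * h⁻¹ = h * a * h⁻¹))
  exact this ▸ hc

theorem uu_mem_C : T.uu ∈ T.C := T.uu_mem_R.1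

theorem uu_facts : T.uu * T.uu = 1 ∧ T.uu * T.v * T.uu⁻¹ = T.v' ∧ T.uu * T.b' = T.b' * T.uu ∧
    T.uu * T.p * T.uu⁻¹ = T.p' ∧ ¬ IsX z (T.b * T.uu) ∧ ¬ IsX z T.uu := by
  obtain ⟨h1, -, -, -, h5, h6, h7, h8, h9, -⟩ := eu_facts
  refine ⟨(P.sq_iff _).2 h1, ?_, ((P.comm_iff _ _).2 h5).symm, ?_, ?_, T.notX_of_bLab h6⟩
  · rw [uu, v, P.ev_cj, h8]; rfl
  · rw [uu, p, P.ev_cj, h9]; rfl
  · rw [b, uu, P.mul]; exact T.notX_of_bLab h7

theorem F_uu_odd : Perm.sign (T.F T.uu) = -1 := by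
  obtain ⟨hu2, -, hub', hup, -, -⟩ := T.uu_facts
  have huN := T.C_le_N0 T.uu_mem_C
  refine (Int.units_eq_one_or _).resolve_left fun he => ?_
  obtain ⟨a, ha, hau⟩ := T.F_img he
  have haN := T.K0_le_N0 ha
  have ha2 : a * a = 1 := T.F_inj (mul_mem ha ha) (by
    rw [T.F_mul haN haN, hau, ← T.F_mul huN huN, hu2, T.F_one])
  have hconj : ∀ x, x ∈ T.K0 → a * x * a⁻¹ = T.uu * x * T.uu⁻¹ := fun x hx => by
    refine T.K0_inj (T.N0_conj haN hx) (T.N0_conj huN hx) ?_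
    rw [T.F_mul (mul_mem haN (T.K0_le_N0 hx)) (inv_mem haN), T.F_mul (mul_mem huN (T.K0_le_N0 hx)) (inv_mem huN),
      T.F_mul haN (T.K0_le_N0 hx), T.F_mul huN (T.K0_le_N0 hx), T.F_inv haN, T.F_inv huN, hau]
  have hb' := hconj _ (T.tri2_mem_K0 (Or.inl rfl))
  rw [hub', mul_inv_cancel_right, mul_inv_eq_iff_eq_mul] at hb'
  have haz : a * z = z * a := by
    have h : a * (T.b * T.b') = T.b * T.b' * a := by
      rw [← mul_assoc, ← T.b_comm_K0 ha, mul_assoc, hb', mul_assoc]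
    simpa only [T.b_mul_b'] using h
  have haR : a ∈ T.R := ⟨T.K0_le_C ha, Subgroup.mem_centralizer_singleton_iff.2 haz⟩
  have haA : a ∈ P.A := T.A1_le_A (T.V2_le_A1 (T.K0_facts.2.2.1 ⟨ha, haR⟩))
  have hp := hconj _ (T.tri2_mem_K0 (Or.inr (Or.inl rfl)))
  rw [hup, P.A_comm haA T.bmem.2.2.2.2.1, mul_inv_cancel_right] at hp
  exact absurd (P.inj hp) (by decide)

theorem four_comm {w : G} (hw : w = 1 ∨ T.Tri1 w) {a : G} (ha : a ∈ T.K0) : w * a = a * w := by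
  rcases hw with rfl | hw
  · simp
  · exact T.tri1_comm_K0 hw ha

theorem four_mem_C {w : G} (hw : w = 1 ∨ T.Tri1 w) : w ∈ T.C := by
  rcases hw with rfl | rfl | rfl | rfl
  exacts [one_mem _, T.mem_C_of_A T.bmem.1, T.mem_C_of_A T.bmem.2.2.1, T.mem_C_of_A T.bmem.2.2.2.1]

theorem F_four {w : G} (hw : w = 1 ∨ T.Tri1 w) : T.F w = 1 := by
  have hwN := T.C_le_N0 (T.four_mem_C hw)
  have hb' : T.b' ∈ T.K0 := T.tri2_mem_K0 (Or.inl rfl)
  have hcomm : ∀ a ∈ T.K0, T.F w * T.F a = T.F a * T.F w := fun a ha => by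
    rw [← T.F_mul hwN (T.K0_le_N0 ha), ← T.F_mul (T.K0_le_N0 ha) hwN, T.four_comm hw ha]
  have hall : ∀ σ, Perm.sign σ = 1 → T.F w * σ = σ * T.F w := fun σ hσ => by
    obtain ⟨a, ha, rfl⟩ := T.F_img hσ
    exact hcomm a ha
  have key : ∀ s : Perm (Fin T.ph.m), (∀ σ, Perm.sign σ = 1 → s * σ = σ * s) → s = 1 :=
    two_degrees (Q := fun m => ∀ s : Perm (Fin m), (∀ σ, Perm.sign σ = 1 → s * σ = σ * s) → s = 1) T.deg
      (by decide +kernel) (by decide +kernel)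
  exact key _ hall

theorem card_C_fact : Nat.card T.C = 4 * T.ph.m.factorial := by
  rw [T.K0_facts.2.1]
  rcases T.ph.hm with ⟨e, h⟩ | ⟨e, h⟩ <;> rw [h, e] <;> decide

/-- The kernel of the representation on the centraliser. -/
theorem F_ker {c : G} (hc : c ∈ T.C) (h : T.F c = 1) : c = 1 ∨ T.Tri1 c := by
  classical
  let fC : T.C →* Perm (Fin T.ph.m) := T.ph.f.comp (Subgroup.inclusion T.C_le_N0)
  have hfC : ∀ c : T.C, fC c = T.F c := fun c => (T.F_eq (T.C_le_N0 c.2)).symm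
  have hsurj : Function.Surjective fC := by
    intro σ
    rcases Int.units_eq_one_or (Perm.sign σ) with e | e
    · obtain ⟨a, ha, hσ⟩ := T.F_img e
      exact ⟨⟨a, T.K0_le_C ha⟩, (hfC _).trans hσ⟩
    · obtain ⟨a, ha, hσ⟩ := T.F_img (σ := σ * (T.F T.uu)⁻¹) (by rw [map_mul, map_inv, e, T.F_uu_odd]; rfl)
      refine ⟨⟨a * T.uu, mul_mem (T.K0_le_C ha) T.uu_mem_C⟩, ?_⟩
      rw [hfC]
      show T.F (a * T.uu) = σ
      rw [T.F_mul (T.K0_le_N0 ha) (T.C_le_N0 T.uu_mem_C), hσ, inv_mul_cancel_right]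
  have hk : Nat.card fC.ker = 4 := by
    have h := fC.ker.card_mul_index
    rw [Subgroup.index_ker, MonoidHom.range_eq_top.2 hsurj, Subgroup.card_top, Nat.card_perm, Nat.card_fin,
      T.card_C_fact] at h
    exact Nat.eq_of_mul_eq_mul_right (Nat.factorial_pos _) h
  set S : Finset G := {1, T.b, T.v, T.v'} with hS
  have hS4 : S.card = 4 := by
    have : S = ([e1, eb, ev0, ev1].toFinset.image P.ev) := by
      ext x
      simp [hS, b, v, v', P.ev_one, eq_comm]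
    rw [this, Finset.card_image_of_injective _ P.inj]
    decide +kernel
  have hSk : ∀ x ∈ S, x = 1 ∨ T.Tri1 x := by
    intro x hx
    simp only [hS, Finset.mem_insert, Finset.mem_singleton] at hx
    exact hx.imp_right fun h => h
  let j : S → fC.ker := fun x => ⟨⟨x, T.four_mem_C (hSk x x.2)⟩, by
    rw [MonoidHom.mem_ker, hfC]; exact T.F_four (hSk x x.2)⟩
  have hj : Function.Bijective j := (Nat.bijective_iff_injective_and_card j).2
    ⟨fun a c e => Subtype.ext (congrArg (fun q : fC.ker => ((q : T.C) : G)) e :),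
      by rw [Nat.card_eq_finsetCard, hS4, hk]⟩
  obtain ⟨x, hx⟩ := hj.2 ⟨⟨c, hc⟩, by rw [MonoidHom.mem_ker, hfC]; exact h⟩
  have hxc : (x : G) = c := congrArg (fun q : fC.ker => ((q : T.C) : G)) hx
  exact hxc ▸ hSk x x.2

/-- Elements with even image. -/
theorem C_even {c : G} (hc : c ∈ T.C) (h : Perm.sign (T.F c) = 1) :
    ∃ w a, (w = 1 ∨ T.Tri1 w) ∧ a ∈ T.K0 ∧ c = w * a := by
  obtain ⟨a, ha, hσ⟩ := T.F_img h
  refine ⟨c * a⁻¹, a, T.F_ker (mul_mem hc (inv_mem (T.K0_le_C ha))) ?_, ha, by rw [inv_mul_cancel_right]⟩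
  rw [T.F_mul (T.C_le_N0 hc) (T.K0_le_N0 (inv_mem ha)), T.F_inv (T.K0_le_N0 ha), hσ, mul_inv_cancel]

theorem invol_conj {a : G} (ha : a ∈ T.K0) (ha2 : a * a = 1) (ha1 : a ≠ 1) :
    ∃ c ∈ T.K0, c * T.b' * c⁻¹ = a := by
  have hb' : T.b' ∈ T.K0 := T.tri2_mem_K0 (Or.inl rfl)
  have key : ∀ s t : Perm (Fin T.ph.m), s * s = 1 → t * t = 1 → s ≠ 1 → t ≠ 1 → Perm.sign s = 1 →
      Perm.sign t = 1 → ∃ g : Perm (Fin T.ph.m), Perm.sign g = 1 ∧ g * s = t * g :=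
    two_degrees (Q := fun m => ∀ s t : Perm (Fin m), s * s = 1 → t * t = 1 → s ≠ 1 → t ≠ 1 → Perm.sign s = 1 →
      Perm.sign t = 1 → ∃ g : Perm (Fin m), Perm.sign g = 1 ∧ g * s = t * g) T.deg perm_invol_conj.1 perm_invol_conj.2
  obtain ⟨σ, hσ, hconj⟩ := key (T.F T.b') (T.F a)
    (by rw [← T.F_mul (T.K0_le_N0 hb') (T.K0_le_N0 hb'), P.A_sq T.bmem.2.1, T.F_one])
    (by rw [← T.F_mul (T.K0_le_N0 ha) (T.K0_le_N0 ha), ha2, T.F_one])
    (fun e => (T.six.2 (Or.inr (Or.inl rfl))).2.1 (T.F_inj hb' e)) (fun e => ha1 (T.F_inj ha e))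
    (T.F_even hb') (T.F_even ha)
  obtain ⟨c, hc, rfl⟩ := T.F_img hσ
  refine ⟨c, hc, mul_inv_eq_iff_eq_mul.2 (T.K0_inj (mul_mem hc hb') (mul_mem ha hc) ?_)⟩
  rw [T.F_mul (T.K0_le_N0 hc) (T.K0_le_N0 hb'), hconj, T.F_mul (T.K0_le_N0 ha) (T.K0_le_N0 hc)]

theorem invol_notX {a : G} (ha : a ∈ T.K0) (ha2 : a * a = 1) : ¬ IsX z a := by
  by_cases ha1 : a = 1
  · rintro ⟨g, hg⟩
    exact P.z_ne (conj_eq_one_iff.1 (hg.trans ha1))
  · obtain ⟨c, -, rfl⟩ := T.invol_conj ha ha2 ha1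
    exact fun h => (T.six.2 (Or.inr (Or.inl rfl))).2.2 h.of_conj

theorem mixed_isX {w a : G} (hw : T.Tri1 w) (ha : a ∈ T.K0) (ha2 : a * a = 1) (ha1 : a ≠ 1) : IsX z (w * a) := by
  obtain ⟨c, hc, rfl⟩ := T.invol_conj ha ha2 ha1
  have h := (T.cross hw (Or.inl rfl : T.Tri2 T.b')).conj c
  rwa [show c * (w * T.b') * c⁻¹ = (c * w) * T.b' * c⁻¹ by group, ← T.tri1_comm_K0 hw hc,
    show w * c * T.b' * c⁻¹ = w * (c * T.b' * c⁻¹) by group] at h

theorem three_conj {a c : G} (ha : a ∈ T.K0) (hc : c ∈ T.K0) (hao : orderOf a = 3) (hco : orderOf c = 3) :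
    ∃ g ∈ T.K0, g * a * g⁻¹ = c ∨ g * a * g⁻¹ = c⁻¹ := by
  have h3 : ∀ {x : G}, x ∈ T.K0 → orderOf x = 3 → T.F x * T.F x * T.F x = 1 ∧ T.F x ≠ 1 := by
    intro x hx ho
    have hN := T.K0_le_N0 hx
    refine ⟨?_, fun e => ?_⟩
    · rw [← T.F_mul hN hN, ← T.F_mul (mul_mem hN hN) hN, ← pow_three', ← ho, pow_orderOf_eq_one, T.F_one]
    · rw [T.F_inj hx e, orderOf_one] at ho
      omega
  have key : ∀ s t : Perm (Fin T.ph.m), s * s * s = 1 → t * t * t = 1 → s ≠ 1 → t ≠ 1 →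
      ∃ g : Perm (Fin T.ph.m), Perm.sign g = 1 ∧ (g * s = t * g ∨ g * s = t * t * g) :=
    two_degrees (Q := fun m => ∀ s t : Perm (Fin m), s * s * s = 1 → t * t * t = 1 → s ≠ 1 → t ≠ 1 →
      ∃ g : Perm (Fin m), Perm.sign g = 1 ∧ (g * s = t * g ∨ g * s = t * t * g)) T.deg
      perm_three_conj.1 perm_three_conj.2
  obtain ⟨σ, hσ, hconj⟩ := key _ _ (h3 ha hao).1 (h3 hc hco).1 (h3 ha hao).2 (h3 hc hco).2
  obtain ⟨g, hg, rfl⟩ := T.F_img hσ
  have hgN := T.K0_le_N0 hg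
  have hcN := T.K0_le_N0 hc
  refine ⟨g, hg, ?_⟩
  rcases hconj with e | e
  · left
    refine mul_inv_eq_iff_eq_mul.2 (T.K0_inj (mul_mem hg ha) (mul_mem hc hg) ?_)
    rw [T.F_mul hgN (T.K0_le_N0 ha), e, T.F_mul hcN hgN]
  · right
    have hci : c⁻¹ = c * c := inv_eq_of_mul_eq_one_right (by
      rw [← mul_assoc, ← pow_three', ← hco, pow_orderOf_eq_one])
    rw [hci]
    refine mul_inv_eq_iff_eq_mul.2 (T.K0_inj (mul_mem hg ha) (mul_mem (mul_mem hc hc) hg) ?_)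
    rw [T.F_mul hgN (T.K0_le_N0 ha), e, T.F_mul (mul_mem hcN hcN) hgN, T.F_mul hcN hcN]

/-- the complement to the first four-group -/
def Sc : Subgroup G where
  carrier := {s | s ∈ T.K0 ∨ s * T.uu ∈ T.K0}
  one_mem' := Or.inl (one_mem _)
  mul_mem' := by
    intro x w hx hw
    have hu := T.uu_facts.1
    have hc : ∀ a ∈ T.K0, T.uu * a * T.uu ∈ T.K0 := fun a ha => by
      have := T.N0_conj (T.C_le_N0 T.uu_mem_C) ha
      rwa [inv_eq_of_mul_eq_one_right hu] at this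
    rcases hx with hx | hx <;> rcases hw with hw | hw
    · exact Or.inl (mul_mem hx hw)
    · refine Or.inr ?_
      rw [mul_assoc]
      exact mul_mem hx hw
    · refine Or.inr ?_
      have : x * w * T.uu = x * T.uu * (T.uu * w * T.uu) := by
        rw [show x * T.uu * (T.uu * w * T.uu) = x * (T.uu * T.uu) * w * T.uu by group, hu, mul_one]
      rw [this]
      exact mul_mem hx (hc w hw)
    · refine Or.inl ?_
      have : x * w = x * T.uu * (T.uu * (w * T.uu) * T.uu) := by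
        rw [show x * T.uu * (T.uu * (w * T.uu) * T.uu) = x * (T.uu * T.uu) * w * (T.uu * T.uu) by group, hu, mul_one,
          mul_one]
      rw [this]
      exact mul_mem hx (hc _ hw)
  inv_mem' := by
    intro x hx
    have hu := T.uu_facts.1
    rcases hx with hx | hx
    · exact Or.inl (inv_mem hx)
    · refine Or.inr ?_
      have : x⁻¹ * T.uu = T.uu * (x * T.uu)⁻¹ * T.uu := by
        rw [mul_inv_rev, show T.uu * (T.uu⁻¹ * x⁻¹) * T.uu = x⁻¹ * T.uu by group]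
      rw [this]
      have := T.N0_conj (T.C_le_N0 T.uu_mem_C) (inv_mem hx)
      rwa [inv_eq_of_mul_eq_one_right hu] at this

theorem Sc_le_C : T.Sc ≤ T.C := fun s hs => by
  rcases hs with h | h
  · exact T.K0_le_C h
  · have := mul_mem (T.K0_le_C h) (inv_mem T.uu_mem_C)
    rwa [mul_inv_cancel_right] at this

theorem exists_lift : ∃ l : Perm (Fin T.ph.m) →* G, (∀ σ, l σ ∈ T.Sc) ∧ (∀ σ, T.F (l σ) = σ) ∧
    (∀ s ∈ T.Sc, l (T.F s) = s) := by
  let fS : T.Sc →* Perm (Fin T.ph.m) := T.ph.f.comp (Subgroup.inclusion (T.Sc_le_C.trans T.C_le_N0))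
  have hfS : ∀ s : T.Sc, fS s = T.F s := fun s => (T.F_eq (T.C_le_N0 (T.Sc_le_C s.2))).symm
  have hinj : Function.Injective fS := (injective_iff_map_eq_one fS).2 fun s hs => by
    rw [hfS] at hs
    rcases s.2 with h | h
    · exact Subtype.ext (T.F_inj h hs)
    · exfalso
      have h' := T.F_even h
      rw [T.F_mul (T.C_le_N0 (T.Sc_le_C s.2)) (T.C_le_N0 T.uu_mem_C), hs, one_mul, T.F_uu_odd] at h'
      exact absurd h' (by decide)
  have hsurj : Function.Surjective fS := by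
    intro σ
    rcases Int.units_eq_one_or (Perm.sign σ) with e | e
    · obtain ⟨a, ha, hσ⟩ := T.F_img e
      exact ⟨⟨a, Or.inl ha⟩, (hfS _).trans hσ⟩
    · obtain ⟨a, ha, hσ⟩ := T.F_img (σ := σ * (T.F T.uu)⁻¹) (by rw [map_mul, map_inv, e, T.F_uu_odd]; rfl)
      refine ⟨⟨a * T.uu, Or.inr (by rwa [mul_assoc, T.uu_facts.1, mul_one])⟩, ?_⟩
      rw [hfS]
      show T.F (a * T.uu) = σ
      rw [T.F_mul (T.K0_le_N0 ha) (T.C_le_N0 T.uu_mem_C), hσ, inv_mul_cancel_right]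
  let e := MulEquiv.ofBijective fS ⟨hinj, hsurj⟩
  refine ⟨T.Sc.subtype.comp e.symm.toMonoidHom, fun σ => (e.symm σ).2, fun σ => ?_, fun s hs => ?_⟩
  · show T.F ((e.symm σ : T.Sc) : G) = σ
    rw [← hfS]
    exact e.apply_symm_apply σ
  · show ((e.symm (T.F s) : T.Sc) : G) = s
    have : e.symm (T.F s) = ⟨s, hs⟩ := (MulEquiv.symm_apply_eq e).2 (hfS ⟨s, hs⟩).symm
    rw [this]

/-- the lifting of permutations -/
noncomputable def lift : Perm (Fin T.ph.m) →* G := T.exists_lift.choose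

theorem lift_spec : (∀ σ, T.lift σ ∈ T.Sc) ∧ (∀ σ, T.F (T.lift σ) = σ) ∧ ∀ s ∈ T.Sc, T.lift (T.F s) = s :=
  T.exists_lift.choose_spec

theorem lift_mem_C (σ : Perm (Fin T.ph.m)) : T.lift σ ∈ T.C := T.Sc_le_C (T.lift_spec.1 σ)

theorem lift_even {σ : Perm (Fin T.ph.m)} (h : Perm.sign σ = 1) : T.lift σ ∈ T.K0 := by
  rcases T.lift_spec.1 σ with h' | h'
  · exact h'
  · exfalso
    have := T.F_even h'
    rw [T.F_mul (T.C_le_N0 (T.lift_mem_C σ)) (T.C_le_N0 T.uu_mem_C), T.lift_spec.2.1, map_mul, h, T.F_uu_odd] at this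
    exact absurd this (by decide)

/-- A lifted transposition is conjugate to the exchanging involution. -/
theorem lift_swap {i j : Fin T.ph.m} (hij : i ≠ j) : ∃ c ∈ T.C, c * T.uu * c⁻¹ = T.lift (Equiv.swap i j) := by
  have huN := T.C_le_N0 T.uu_mem_C
  have hu2 : T.F T.uu * T.F T.uu = 1 := by rw [← T.F_mul huN huN, T.uu_facts.1, T.F_one]
  obtain ⟨a, c, hac, hu⟩ := two_degrees (Q := fun m => ∀ s : Perm (Fin m), s * s = 1 → Perm.sign s = -1 →
    ∃ i j, i ≠ j ∧ s = Equiv.swap i j) T.deg perm_odd_invol.1 perm_odd_invol.2 _ hu2 T.F_uu_odd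
  obtain ⟨σ, hσ⟩ := isConj_iff.1 (Equiv.Perm.isConj_swap hac hij)
  refine ⟨T.lift σ, T.lift_mem_C σ, ?_⟩
  rw [← hσ, ← hu, map_mul, map_mul, map_inv, T.lift_spec.2.2 T.uu (Or.inr (by rw [T.uu_facts.1]; exact one_mem _))]

end Two

end Cfsg.Agent.MTwelve.SwapCase
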