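import Cfsg.Agent.Lib.Spor.MTwelve.SwapCase.Split
import Cfsg.Agent.Lib.Spor.MTwelve.SwapCase.ModelB

/-!
Two classes of involutions: the action of the normaliser of the subgroup of order sixteen on the two triangles.
-/

set_option autoImplicit false
set_option linter.style.haveILetI false

namespace Cfsg.Agent.MTwelve.SwapCase

open CentShape OrderFront

universe u

variable {G : Type u} [Group G] {z : G} {P : Par z}

namespace Two

variable (T : Two P)

/-- the involution of the second class -/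
def b (_ : Two P) : G := P.ev eb
/-- its companion -/
def b' (_ : Two P) : G := P.ev eb'
/-- further involution of the first triangle -/
def v (_ : Two P) : G := P.ev ev0
/-- further involution of the first triangle -/
def v' (_ : Two P) : G := P.ev ev1
/-- further involution of the second triangle -/
def p (_ : Two P) : G := P.ev ep0
/-- further involution of the second triangle -/
def p' (_ : Two P) : G := P.ev ep1
/-- the exchanging involution -/
def uu (_ : Two P) : G := P.ev eu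

theorem b_mul_b' : T.b * T.b' = z := by rw [b, b', P.mul, table_A.1, P.ev_z]

theorem b_mul_v : T.b * T.v = T.v' := by rw [b, v, v', P.mul, table_A.2.1]

theorem p_mul_p' : T.p * T.p' = T.b' := by rw [p, p', b', P.mul, table_A.2.2.2.1]

theorem bmem : T.b ∈ P.A ∧ T.b' ∈ P.A ∧ T.v ∈ P.A ∧ T.v' ∈ P.A ∧ T.p ∈ P.A ∧ T.p' ∈ P.A := by
  obtain ⟨-, h2, h3, -, -, -, a1, a2, a3, a4, -⟩ := table_A
  have e1 : T.b ∈ P.A := P.ev_mem_A.2 a1
  have e2 : T.b' ∈ P.A := P.ev_mem_A.2 a2
  have e3 : T.v ∈ P.A := P.ev_mem_A.2 a3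
  have e4 : T.p ∈ P.A := P.ev_mem_A.2 a4
  exact ⟨e1, e2, e3, T.b_mul_v ▸ mul_mem e1 e3, e4,
    (show T.b' * T.p = T.p' by rw [b', p, p', P.mul, h3]) ▸ mul_mem e2 e4⟩

include T in
theorem isX_of_xLab {X : El} (h : xLab X = true) : IsX z (P.ev X) := by
  refine T.isX ⟨X, rfl, rfl⟩ ?_
  simpa [xLab, or_assoc] using h

include T in
theorem notX_of_bLab {X : El} (h : bLab X = true) : ¬ IsX z (P.ev X) := by
  refine T.notX ⟨X, rfl, rfl⟩ ?_
  simpa [bLab] using h

/-- the first triangle -/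
def Tri1 (x : G) : Prop := x = T.b ∨ x = T.v ∨ x = T.v'

/-- the second triangle -/
def Tri2 (x : G) : Prop := x = T.b' ∨ x = T.p ∨ x = T.p'

/-- The involutions of the second class in the subgroup of order sixteen. -/
theorem six {x : G} : (x ∈ P.A ∧ x ≠ 1 ∧ ¬ IsX z x) ↔ T.Tri1 x ∨ T.Tri2 x := by
  constructor
  · rintro ⟨⟨X, rfl, hX⟩, h1, hnX⟩
    have hlab : bLab X = true := by
      have h7 := (SwapCase.sq_iff X).1 (inA_shape X hX).2
      have cases8 : ∀ k : Fin 8, k < 7 → k = 0 ∨ (k == 2 || k == 5) = true ∨ (k = 1 ∨ k = 3 ∨ k = 4 ∨ k = 6) := by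
        decide
      rcases cases8 _ h7 with e | e | e
      · exact absurd (by rw [(lab_zero X).1 e, P.ev_one]) h1
      · exact e
      · exact absurd (T.isX ⟨X, rfl, rfl⟩ e) hnX
    have := bAList X
    rw [hX, hlab] at this
    simp only [Bool.and_self, eq_comm (a := true), List.contains_iff_mem, List.mem_cons, List.not_mem_nil,
      or_false] at this
    rcases this with rfl | rfl | rfl | rfl | rfl | rfl
    exacts [Or.inl (Or.inl rfl), Or.inl (Or.inr (Or.inl rfl)), Or.inl (Or.inr (Or.inr rfl)), Or.inr (Or.inl rfl),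
      Or.inr (Or.inr (Or.inl rfl)), Or.inr (Or.inr (Or.inr rfl))]
  · have key : ∀ X ∈ [eb, ev0, ev1, eb', ep0, ep1], P.ev X ∈ P.A ∧ P.ev X ≠ 1 ∧ ¬ IsX z (P.ev X) := by
      intro X hX
      have := bAList X
      rw [List.contains_iff_mem.2 hX] at this
      simp only [Bool.and_eq_true] at this
      refine ⟨P.ev_mem_A.2 this.1, fun e => ?_, T.notX_of_bLab this.2⟩
      have h0 : X = e1 := P.inj (e.trans P.ev_one.symm)
      rw [h0] at this
      exact absurd this.2 (by decide)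
    rintro ((rfl | rfl | rfl) | (rfl | rfl | rfl)) <;> exact key _ (by simp)

theorem tri_b : ¬ IsX z T.b ∧ T.b ≠ 1 := ⟨(T.six.2 (Or.inl (Or.inl rfl))).2.2, (T.six.2 (Or.inl (Or.inl rfl))).2.1⟩

theorem cross {x y : G} (hx : T.Tri1 x) (hy : T.Tri2 y) : IsX z (x * y) := by
  rcases hx with rfl | rfl | rfl <;> rcases hy with rfl | rfl | rfl <;>
    · simp only [b, v, v', b', p, p', P.mul]
      exact T.isX_of_xLab (cross_X _ (by simp) _ (by simp))

theorem cross' {x y : G} (hx : T.Tri2 x) (hy : T.Tri1 y) : IsX z (x * y) := by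
  have h := T.cross hy hx
  rwa [P.A_comm (T.six.2 (Or.inl hy)).1 (T.six.2 (Or.inr hx)).1] at h

theorem same {x y : G} (hx : T.Tri1 x) (hy : T.Tri1 y) (hne : x ≠ y) : ¬ IsX z (x * y) := by
  rcases hx with rfl | rfl | rfl <;> rcases hy with rfl | rfl | rfl <;>
    first
      | exact absurd rfl hne
      | (simp only [b, v, v', P.mul]
         exact T.notX_of_bLab (same_B _ (by simp) _ (by simp) fun e => hne (congrArg P.ev e)))

theorem same' {x y : G} (hx : T.Tri2 x) (hy : T.Tri2 y) (hne : x ≠ y) : ¬ IsX z (x * y) := by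
  rcases hx with rfl | rfl | rfl <;> rcases hy with rfl | rfl | rfl <;>
    first
      | exact absurd rfl hne
      | (simp only [b', p, p', P.mul]
         exact T.notX_of_bLab (same_B' _ (by simp) _ (by simp) fun e => hne (congrArg P.ev e)))

theorem tri_disj {x : G} (h1 : T.Tri1 x) (h2 : T.Tri2 x) : False := by
  rcases h1 with e | e | e <;> rcases h2 with e' | e' | e' <;>
    exact absurd (P.inj (e.symm.trans e')) (by decide)

theorem NA_six {h x : G} (hh : h ∈ P.NA) (hx : T.Tri1 x ∨ T.Tri2 x) :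
    T.Tri1 (h * x * h⁻¹) ∨ T.Tri2 (h * x * h⁻¹) := by
  obtain ⟨h1, h2, h3⟩ := T.six.2 hx
  exact T.six.1 ⟨P.NA_conj hh h1, fun e => h2 (conj_eq_one_iff.1 e), fun e => h3 e.of_conj⟩

/-- The two triangles are preserved or exchanged. -/
theorem NA_tri {h : G} (hh : h ∈ P.NA) (hb : T.Tri1 (h * T.b * h⁻¹)) :
    (∀ x, T.Tri1 x → T.Tri1 (h * x * h⁻¹)) ∧ ∀ x, T.Tri2 x → T.Tri2 (h * x * h⁻¹) := by
  have h1 : ∀ x, T.Tri1 x → T.Tri1 (h * x * h⁻¹) := by
    intro x hx
    refine (T.NA_six hh (Or.inl hx)).resolve_right fun h2 => ?_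
    by_cases e : T.b = x
    · exact T.tri_disj hb (e ▸ h2)
    · have hc := T.cross hb h2
      rw [show h * T.b * h⁻¹ * (h * x * h⁻¹) = h * (T.b * x) * h⁻¹ by group] at hc
      exact T.same (Or.inl rfl) hx e hc.of_conj
  refine ⟨h1, fun x hx => (T.NA_six hh (Or.inr hx)).resolve_left fun h2 => ?_⟩
  have hc := T.cross (Or.inl rfl) hx
  by_cases e : h * T.b * h⁻¹ = h * x * h⁻¹
  · exact T.tri_disj (Or.inl rfl) ((mul_left_cancel (mul_right_cancel e)).symm ▸ hx)
  · refine T.same hb h2 e ?_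
    rw [show h * T.b * h⁻¹ * (h * x * h⁻¹) = h * (T.b * x) * h⁻¹ by group]
    exact hc.conj h

theorem NA_swap {h : G} (hh : h ∈ P.NA) (hb : T.Tri2 (h * T.b * h⁻¹)) :
    (∀ x, T.Tri1 x → T.Tri2 (h * x * h⁻¹)) ∧ ∀ x, T.Tri2 x → T.Tri1 (h * x * h⁻¹) := by
  have h1 : ∀ x, T.Tri1 x → T.Tri2 (h * x * h⁻¹) := by
    intro x hx
    refine (T.NA_six hh (Or.inl hx)).resolve_left fun h2 => ?_
    by_cases e : T.b = x
    · exact T.tri_disj (e ▸ h2) hb
    · have hc := T.cross' hb h2
      rw [show h * T.b * h⁻¹ * (h * x * h⁻¹) = h * (T.b * x) * h⁻¹ by group] at hc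
      exact T.same (Or.inl rfl) hx e hc.of_conj
  refine ⟨h1, fun x hx => (T.NA_six hh (Or.inr hx)).resolve_right fun h2 => ?_⟩
  have hc := T.cross (Or.inl rfl) hx
  by_cases e : h * T.b * h⁻¹ = h * x * h⁻¹
  · exact T.tri_disj (Or.inl rfl) ((mul_left_cancel (mul_right_cancel e)).symm ▸ hx)
  · refine T.same' hb h2 e ?_
    rw [show h * T.b * h⁻¹ * (h * x * h⁻¹) = h * (T.b * x) * h⁻¹ by group]
    exact hc.conj h

theorem tri_ncard : {x | T.Tri1 x ∨ T.Tri2 x}.ncard = 6 := by
  classical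
  have : {x | T.Tri1 x ∨ T.Tri2 x} = ↑([eb, ev0, ev1, eb', ep0, ep1].toFinset.image P.ev) := by
    ext x
    simp [Tri1, Tri2, b, v, v', b', p, p', or_assoc, eq_comm]
  rw [this, Set.ncard_coe_finset, Finset.card_image_of_injective _ P.inj]
  decide +kernel

variable [Finite G]

include T in
theorem card_NA : Nat.card P.NA = 576 := by
  rw [P.card_NA, P.ncard_A_filter (fun X => lab X == 1 || lab X == 3 || lab X == 4 || lab X == 6) P.orbA
    (fun X hX => ?_) (fun x hx => hx.1), inA_two_count]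
  constructor
  · rintro ⟨-, h⟩
    have h7 := (SwapCase.sq_iff X).1 (inA_shape X hX).2
    have cases8 : ∀ k : Fin 8, k < 7 → k = 0 ∨ (k = 2 ∨ k = 5) ∨
        (k == 1 || k == 3 || k == 4 || k == 6) = true := by decide
    rcases cases8 _ h7 with e | e | e
    · exfalso
      rw [(lab_zero X).1 e, P.ev_one] at h
      obtain ⟨g, hg⟩ := h
      exact P.z_ne (conj_eq_one_iff.1 hg)
    · exact absurd h (T.notX ⟨X, rfl, rfl⟩ e)
    · exact e
  · exact fun h => ⟨P.ev_mem_A.2 hX, T.isX_of_xLab h⟩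

theorem b_to_b' : ∃ g ∈ P.NA, g * T.b * g⁻¹ = T.b' ∧
    ∀ x, T.Tri1 x ∨ T.Tri2 x → ∃ h ∈ P.NA, h * T.b * h⁻¹ = x := by
  let act : MulAction P.NA G := MulAction.compHom G ((MulAut.conj).comp P.NA.subtype)
  letI := act
  have hsmul : ∀ (h : P.NA) (x : G), h • x = (h : G) * x * (h : G)⁻¹ := fun h x => rfl
  set O := MulAction.orbit P.NA T.b with hO
  have hsub : O ⊆ {x | T.Tri1 x ∨ T.Tri2 x} := by
    rintro _ ⟨h, rfl⟩
    exact T.NA_six h.2 (Or.inl (Or.inl rfl))
  suffices hall : O = {x | T.Tri1 x ∨ T.Tri2 x} by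
    have hx : ∀ x, T.Tri1 x ∨ T.Tri2 x → ∃ h ∈ P.NA, h * T.b * h⁻¹ = x := by
      intro x hx
      obtain ⟨h, hh⟩ : x ∈ O := by rw [hall]; exact hx
      exact ⟨h, h.2, hh⟩
    obtain ⟨g, hg, hgb⟩ := hx T.b' (Or.inr (Or.inl rfl))
    exact ⟨g, hg, hgb, hx⟩
  refine Set.eq_of_subset_of_ncard_le hsub ?_ (Set.toFinite _)
  rw [T.tri_ncard]
  -- the stabiliser is small
  set St := MulAction.stabilizer P.NA T.b
  have hSt : Nat.card St ≤ 96 := by
    let act2 : MulAction St G := MulAction.compHom G ((MulAut.conj).comp (P.NA.subtype.comp St.subtype))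
    letI := act2
    have hs2 : ∀ (h : St) (x : G), h • x = ((h : P.NA) : G) * x * ((h : P.NA) : G)⁻¹ := fun h x => rfl
    have horb : MulAction.orbit St T.b' ⊆ {x | T.Tri2 x} := by
      rintro _ ⟨h, rfl⟩
      have hb : ((h : P.NA) : G) * T.b * ((h : P.NA) : G)⁻¹ = T.b := h.2
      exact (T.NA_tri (h : P.NA).2 (by rw [hb]; exact Or.inl rfl)).2 _ (Or.inl rfl)
    have h3 : (MulAction.orbit St T.b').ncard ≤ 3 := by
      refine (Set.ncard_le_ncard horb (Set.toFinite _)).trans ?_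
      classical
      have : {x | T.Tri2 x} = ↑({T.b', T.p, T.p'} : Finset G) := by ext x; simp [Tri2]
      rw [this, Set.ncard_coe_finset]
      exact Finset.card_le_three
    have hstab : Nat.card (MulAction.stabilizer St T.b') ≤ 32 := by
      rw [← cent_eb_count, ← Nat.card_eq_finsetCard]
      have hm : ∀ h : MulAction.stabilizer St T.b', ∃ X, P.ev X = (((h : St) : P.NA) : G) ∧ comm eb X = true := by
        intro h
        have h1 : (((h : St) : P.NA) : G) * T.b * (((h : St) : P.NA) : G)⁻¹ = T.b := (h : St).2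
        have h2 : (((h : St) : P.NA) : G) * T.b' * (((h : St) : P.NA) : G)⁻¹ = T.b' := h.2
        rw [mul_inv_eq_iff_eq_mul] at h1 h2
        have hz : (((h : St) : P.NA) : G) * z = z * (((h : St) : P.NA) : G) := by
          have h3 : (((h : St) : P.NA) : G) * (T.b * T.b') = T.b * T.b' * (((h : St) : P.NA) : G) := by
            rw [← mul_assoc, h1, mul_assoc, h2, mul_assoc]
          simpa only [T.b_mul_b'] using h3
        obtain ⟨X, hX⟩ := (P.mem _).1 hz
        refine ⟨X, hX, (P.comm_iff _ _).1 ?_⟩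
        rw [hX]
        exact h1.symm
      choose X hX hX' using hm
      refine Nat.card_le_card_of_injective (fun h => (⟨X h, Finset.mem_filter.2 ⟨Finset.mem_univ _, hX' h⟩⟩ :
        (Finset.univ.filter fun X : El => comm eb X = true : Finset El))) fun a c e => ?_
      have e2 := congrArg (fun w : El => P.ev w) (congrArg Subtype.val e)
      simp only [hX] at e2
      exact Subtype.ext (Subtype.ext (Subtype.ext e2))
    have hci := Subgroup.card_mul_index (MulAction.stabilizer St T.b')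
    rw [MulAction.index_stabilizer] at hci
    rw [← hci]
    exact (Nat.mul_le_mul hstab h3).trans le_rfl
  have hci := Subgroup.card_mul_index St
  rw [MulAction.index_stabilizer, T.card_NA, ← hO] at hci
  nlinarith [hci, hSt, Nat.zero_le O.ncard]

theorem exists_y : ∃ y ∈ P.NA, orderOf y = 3 ∧ y * T.b = T.b * y ∧ y * T.v = T.v * y ∧
    y * T.b' * y⁻¹ = T.p ∧ y * T.p * y⁻¹ = T.p' ∧ y * T.p' * y⁻¹ = T.b' := by
  haveI : Fact (Nat.Prime 3) := ⟨Nat.prime_three⟩
  obtain ⟨-, -, -, hx⟩ := T.b_to_b'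
  let act : MulAction P.NA G := MulAction.compHom G ((MulAut.conj).comp P.NA.subtype)
  letI := act
  have hO : MulAction.orbit P.NA T.b = {x | T.Tri1 x ∨ T.Tri2 x} := by
    ext x
    constructor
    · rintro ⟨h, rfl⟩
      exact T.NA_six h.2 (Or.inl (Or.inl rfl))
    · intro h
      obtain ⟨g, hg, rfl⟩ := hx x h
      exact ⟨⟨g, hg⟩, rfl⟩
  set St := MulAction.stabilizer P.NA T.b
  have h96 : Nat.card St = 96 := by
    have hci := Subgroup.card_mul_index St
    rw [MulAction.index_stabilizer, hO, T.tri_ncard, T.card_NA] at hci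
    omega
  obtain ⟨y0, hy0⟩ := exists_prime_orderOf_dvd_card' (G := St) 3 (by rw [h96]; norm_num)
  set y : G := ((y0 : P.NA) : G) with hy
  have hyo : orderOf y = 3 := by rw [hy, Subgroup.orderOf_coe, Subgroup.orderOf_coe, hy0]
  have hyN : y ∈ P.NA := (y0 : P.NA).2
  have hyb : y * T.b * y⁻¹ = T.b := y0.2
  obtain ⟨ht1, ht2⟩ := T.NA_tri hyN (by rw [hyb]; exact Or.inl rfl)
  have hy3 : ∀ x, y * (y * (y * x * y⁻¹) * y⁻¹) * y⁻¹ = x := by
    intro x
    have : y * y * y = 1 := by rw [← pow_three', ← hyo, pow_orderOf_eq_one]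
    calc y * (y * (y * x * y⁻¹) * y⁻¹) * y⁻¹ = (y * y * y) * x * (y * y * y)⁻¹ := by group
      _ = x := by rw [this]; group
  have hinj : ∀ x x', y * x * y⁻¹ = y * x' * y⁻¹ → x = x' := fun x x' e => mul_left_cancel (mul_right_cancel e)
  have hne : T.v ≠ T.b ∧ T.v' ≠ T.b ∧ T.v ≠ T.v' ∧ T.b' ≠ T.p ∧ T.b' ≠ T.p' ∧ T.p ≠ T.p' := by
    refine ⟨?_, ?_, ?_, ?_, ?_, ?_⟩ <;> exact fun e => absurd (P.inj e) (by decide)
  have hyv : y * T.v * y⁻¹ = T.v := by
    rcases ht1 T.v (Or.inr (Or.inl rfl)) with e | e | e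
    · exact absurd (hinj _ _ (e.trans hyb.symm)) hne.1
    · exact e
    · rcases ht1 T.v' (Or.inr (Or.inr rfl)) with e' | e' | e'
      · exact absurd (hinj _ _ (e'.trans hyb.symm)) hne.2.1
      · have h := hy3 T.v
        rw [e, e', e] at h
        exact absurd h.symm hne.2.2.1
      · exact absurd (hinj _ _ (e.trans e'.symm)) hne.2.2.1
  have hyb' : y * T.b' * y⁻¹ ≠ T.b' := by
    intro e
    rw [mul_inv_eq_iff_eq_mul] at hyb e
    have hz : y * z = z * y := by
      have h3 : y * (T.b * T.b') = T.b * T.b' * y := by rw [← mul_assoc, hyb, mul_assoc, e, mul_assoc]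
      simpa only [T.b_mul_b'] using h3
    obtain ⟨X, hX, hXS⟩ := (P.NA_cent hz).1 hyN
    have h4 : y ^ 4 = 1 := by
      rw [show 4 = 2 * 2 from rfl, pow_mul, sq, sq, ← hX, P.mul]
      exact P.A_sq (P.ev_mem_A.2 (inS_sq X hXS))
    have := orderOf_dvd_of_pow_eq_one h4
    rw [hyo] at this
    norm_num at this
  have e1 := ht2 T.b' (Or.inl rfl)
  have e2 := ht2 T.p (Or.inr (Or.inl rfl))
  have e3 := ht2 T.p' (Or.inr (Or.inr rfl))
  -- choose the orientation
  have hfix : ∀ x, T.Tri2 x → y * x * y⁻¹ = x → False := by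
    intro x hx hxe
    rcases e1 with a | a | a
    · exact hyb' a
    all_goals
      rcases hx with rfl | rfl | rfl
      all_goals first
        | exact hyb' hxe
        | exact hne.2.2.2.1 (hinj _ _ (a.trans hxe.symm))
        | exact hne.2.2.2.2.1 (hinj _ _ (a.trans hxe.symm))
        | (rcases e2 with c | c | c
           · have h := hy3 T.b'; rw [a, c, a] at h; exact hne.2.2.2.1 h.symm
           · exact hne.2.2.2.1 (hinj _ _ (a.trans c.symm))
           · exact hne.2.2.2.2.2 (hinj _ _ (c.trans hxe.symm)))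
        | (rcases e3 with c | c | c
           · have h := hy3 T.b'; rw [a, c, a] at h; exact hne.2.2.2.2.1 h.symm
           · exact hne.2.2.2.2.2 (hinj _ _ (c.trans hxe.symm)).symm
           · exact hne.2.2.2.2.1 (hinj _ _ (a.trans c.symm)))
  rcases e1 with a | a | a
  · exact absurd a hyb'
  · refine ⟨y, hyN, hyo, mul_inv_eq_iff_eq_mul.1 hyb, mul_inv_eq_iff_eq_mul.1 hyv, a, ?_⟩
    have c : y * T.p * y⁻¹ = T.p' := by
      rcases e2 with c | c | c
      · have h := hy3 T.b'; rw [a, c, a] at h; exact absurd h.symm hne.2.2.2.1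
      · exact absurd (hinj _ _ (a.trans c.symm)) hne.2.2.2.1
      · exact c
    refine ⟨c, ?_⟩
    rcases e3 with d | d | d
    · exact d
    · exact absurd (hinj _ _ (a.trans d.symm)) hne.2.2.2.2.1
    · exact (hfix _ (Or.inr (Or.inr rfl)) d).elim
  · refine ⟨y⁻¹, inv_mem hyN, by rw [orderOf_inv, hyo], ?_, ?_, ?_⟩
    · exact (show Commute y T.b from mul_inv_eq_iff_eq_mul.1 hyb).inv_left.eq
    · exact (show Commute y T.v from mul_inv_eq_iff_eq_mul.1 hyv).inv_left.eq
    have c : y * T.p' * y⁻¹ = T.p := by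
      rcases e3 with c | c | c
      · have h := hy3 T.b'; rw [a, c, a] at h; exact absurd h.symm hne.2.2.2.2.1
      · exact c
      · exact absurd (hinj _ _ (a.trans c.symm)) hne.2.2.2.2.1
    have d : y * T.p * y⁻¹ = T.b' := by
      rcases e2 with d | d | d
      · exact d
      · exact (hfix _ (Or.inr (Or.inl rfl)) d).elim
      · exact absurd (hinj _ _ (a.trans d.symm)) hne.2.2.2.1
    refine ⟨?_, ?_, ?_⟩
    · rw [← d]; group
    · rw [← c]; group
    · rw [← a]; group

/-- An element carrying the involution to its companion exchanges the triangles. -/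
theorem exists_g : ∃ g ∈ P.NA, g * T.b * g⁻¹ = T.b' ∧ (∀ x, T.Tri1 x → T.Tri2 (g * x * g⁻¹)) ∧
    ∀ x, T.Tri2 x → T.Tri1 (g * x * g⁻¹) := by
  obtain ⟨g, hg, hgb, -⟩ := T.b_to_b'
  exact ⟨g, hg, hgb, T.NA_swap hg (by rw [hgb]; exact Or.inl rfl)⟩

end Two

end Cfsg.Agent.MTwelve.SwapCase
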