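import Cfsg.Agent.Lib.Spor.MTwelve.SwapCase.Hom
import Cfsg.Agent.Lib.Spor.MTwelve.SwapCase.ModelD

/-!
The alternating subgroup is the whole group.
-/

set_option autoImplicit false
set_option linter.style.haveILetI false
set_option maxRecDepth 100000

namespace Cfsg.Agent.MTwelve.SwapCase

open CentShape OrderFront Equiv Cfsg.Agent.Small.AltDeg

universe u

variable {G : Type u} [Group G] [Finite G] {z : G} {P : Par z}

namespace Two

variable (T : Two P)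

theorem A_le_C : P.A ≤ T.C := T.A_le_R.trans inf_le_left

/-- Involutions centralising `b` are conjugate there into the central centraliser. -/
theorem into_R {w : G} (hw : w ∈ T.C) (h2 : w * w = 1) : ∃ c ∈ T.C, c⁻¹ * w * c * z = z * (c⁻¹ * w * c) := by
  rcases Int.units_eq_one_or (Perm.sign (T.F w)) with e | e
  · obtain ⟨t, a, ht, ha, rfl⟩ := T.C_even hw e
    have htA : t ∈ P.A := by
      rcases ht with rfl | ht
      exacts [one_mem _, (T.six.2 (Or.inl ht)).1]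
    have ha2 : a * a = 1 := by
      rw [show t * a * (t * a) = t * (a * t) * a by group, ← T.four_comm ht ha,
        show t * (t * a) * a = (t * t) * (a * a) by group, P.A_sq htA, one_mul] at h2
      exact h2
    by_cases ha1 : a = 1
    · subst ha1
      exact ⟨1, one_mem _, by simpa using P.A_comm htA P.z_mem_A⟩
    · obtain ⟨c, hc, rfl⟩ := T.invol_conj ha ha2 ha1
      refine ⟨c, T.K0_le_C hc, ?_⟩
      rw [show c⁻¹ * (t * (c * T.b' * c⁻¹)) * c = (c⁻¹ * (t * c)) * T.b' by group, T.four_comm ht hc, ← mul_assoc c⁻¹,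
        inv_mul_cancel, one_mul]
      exact P.A_comm (mul_mem htA T.bmem.2.1) P.z_mem_A
  · obtain ⟨i, j, hij, hs⟩ := two_degrees (Q := fun m => ∀ s : Perm (Fin m), s * s = 1 → Perm.sign s = -1 →
      ∃ i j, i ≠ j ∧ s = Equiv.swap i j) T.deg perm_odd_invol.1 perm_odd_invol.2 (T.F w)
      (by rw [← T.F_mul (T.C_le_N0 hw) (T.C_le_N0 hw), h2, T.F_one]) e
    obtain ⟨c, hc, hc'⟩ := T.lift_swap hij
    refine ⟨c, hc, ?_⟩
    have hdC : c⁻¹ * w * c * T.uu ∈ T.C :=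
      mul_mem (mul_mem (mul_mem (inv_mem hc) hw) hc) T.uu_mem_C
    have hF : T.F (c⁻¹ * w * c * T.uu) = 1 := by
      have hN := T.C_le_N0
      have e' : T.F (c * T.uu * c⁻¹) = T.F w := by rw [hc', T.lift_spec.2.1, hs]
      rw [T.F_mul (mul_mem (hN hc) (hN T.uu_mem_C)) (inv_mem (hN hc)), T.F_mul (hN hc) (hN T.uu_mem_C),
        T.F_inv (hN hc)] at e'
      rw [T.F_mul (mul_mem (mul_mem (inv_mem (hN hc)) (hN hw)) (hN hc)) (hN T.uu_mem_C),
        T.F_mul (mul_mem (inv_mem (hN hc)) (hN hw)) (hN hc), T.F_mul (inv_mem (hN hc)) (hN hw), T.F_inv (hN hc), ← e']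
      have hu2 : T.F T.uu * T.F T.uu = 1 := by rw [← T.F_mul (hN T.uu_mem_C) (hN T.uu_mem_C), T.uu_facts.1, T.F_one]
      calc (T.F c)⁻¹ * (T.F c * T.F T.uu * (T.F c)⁻¹) * T.F c * T.F T.uu = T.F T.uu * T.F T.uu := by group
        _ = 1 := hu2
    have hA : c⁻¹ * w * c * T.uu ∈ P.A := by
      rcases T.F_ker hdC hF with h | h
      · rw [h]; exact one_mem _
      · exact (T.six.2 (Or.inl h)).1
    have h3 : Commute (c⁻¹ * w * c * T.uu * T.uu) z :=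
      (show Commute (c⁻¹ * w * c * T.uu) z from P.A_comm hA P.z_mem_A).mul_left
        (show Commute T.uu z from P.commute_z _)
    rwa [mul_assoc (c⁻¹ * w * c), T.uu_facts.1, mul_one] at h3

theorem eq_top (K : Subgroup G) (hk : T.k ∈ K) (hC : T.C ≤ K) (hu : ∃ h ∈ K, h * T.b * h⁻¹ = T.uu) : K = ⊤ := by
  classical
  obtain ⟨h, hh, hbu⟩ := hu
  have hcentU : ∀ g, g * T.uu = T.uu * g → g ∈ K := fun g hg => by
    have hm : h⁻¹ * g * h ∈ T.C := T.mem_C.2 (by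
      calc h⁻¹ * g * h * T.b = h⁻¹ * (g * (h * T.b * h⁻¹)) * h := by group
        _ = h⁻¹ * ((h * T.b * h⁻¹) * g) * h := by rw [hbu, hg]
        _ = T.b * (h⁻¹ * g * h) := by group)
    have := mul_mem (mul_mem hh (hC hm)) (inv_mem hh)
    rwa [show h * (h⁻¹ * g * h) * h⁻¹ = g by group] at this
  have hev : ∀ X, comm eb X = true → P.ev X ∈ K := fun X hX => hC (T.ev_mem_C.2 hX)
  have hreach : ∀ X, Reach X → P.ev X ∈ K := by
    rintro X ⟨Y, hY, W, hW, hX⟩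
    have h3 := hev _ hX
    rw [← P.mul, ← P.mul, ← P.ev_inv, ← P.ev_inv] at h3
    have hY' : P.ev Y ∈ K := hcentU _ ((P.comm_iff eu Y).2 hY).symm
    have := mul_mem (mul_mem (hev W hW) hY') h3
    rwa [show P.ev W * P.ev Y * ((P.ev Y)⁻¹ * (P.ev W)⁻¹ * P.ev X) = P.ev X by group] at this
  have hzK : ∀ g, g * z = z * g → g ∈ K := fun g hg => by
    obtain ⟨X, rfl⟩ := (P.mem g).1 hg
    rw [← decomp X, ← decomp_core X.1, ← P.mul, ← P.mul, ← P.mul]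
    exact mul_mem (mul_mem (mul_mem (hreach _ (reach_core1 _ 0).1) (hreach _ (reach_core1 false _).2.1))
      (hreach _ (reach_core1 false _).2.2)) (hreach _ (reach_out _))
  have hAK : P.A ≤ K := T.A_le_C.trans hC
  have hyK : T.y ∈ K := hC T.y_mem_C
  obtain ⟨-, -, -, -, y1, y2, y3⟩ := T.y_spec
  have hfuseA : ∀ x ∈ P.A, IsX z x → ∃ l ∈ K, l * z * l⁻¹ = x := by
    intro x hx hX
    obtain ⟨t, w, ht, hw, rfl⟩ := T.A_decomp hx
    have ht' : T.Tri1 t := ht.resolve_left fun e => by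
      rw [e, one_mul] at hX
      rcases T.V2_cases hw with rfl | hw
      · obtain ⟨g, hg⟩ := hX
        exact P.z_ne (conj_eq_one_iff.1 hg)
      · exact (T.six.2 (Or.inr hw)).2.2 hX
    have hw' : T.Tri2 w := (T.V2_cases hw).resolve_left fun e => by
      rw [e, mul_one] at hX
      exact (T.six.2 (Or.inl ht')).2.2 hX
    obtain ⟨k', hk', hk'', rfl⟩ : ∃ k', k' ∈ K ∧ (∀ a ∈ T.K0, k' * a = a * k') ∧ t = k' * T.b * k'⁻¹ := by
      rcases T.tri1_orbit ht' with e | e | e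
      · exact ⟨1, one_mem _, fun a _ => by simp, by simp [e]⟩
      · exact ⟨T.k, hk, T.k_spec.2.2.1, e⟩
      · exact ⟨T.k * T.k, mul_mem hk hk, fun a ha => by
          rw [mul_assoc, T.k_spec.2.2.1 a ha, ← mul_assoc, T.k_spec.2.2.1 a ha, mul_assoc], e⟩
    obtain ⟨y', hy', hy'', rfl⟩ : ∃ y', y' ∈ T.K0 ∧ y' ∈ K ∧ w = y' * T.b' * y'⁻¹ := by
      rcases hw' with e | e | e
      · exact ⟨1, one_mem _, one_mem _, by simp [e]⟩
      · exact ⟨T.y, T.y_mem_K0, hyK, by rw [e, y1]⟩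
      · exact ⟨T.y * T.y, mul_mem T.y_mem_K0 T.y_mem_K0, mul_mem hyK hyK, by
          rw [e, show T.y * T.y * T.b' * (T.y * T.y)⁻¹ = T.y * (T.y * T.b' * T.y⁻¹) * T.y⁻¹ by group, y1, y2]⟩
    refine ⟨k' * y', mul_mem hk' hy'', ?_⟩
    have hb : T.b = y' * T.b * y'⁻¹ := by rw [← T.b_comm_K0 hy', mul_inv_cancel_right]
    have hb' : y' * T.b' * y'⁻¹ ∈ T.K0 := T.N0_conj (T.K0_le_N0 hy') (T.tri2_mem_K0 (Or.inl rfl))
    have he : k' * y' * (T.b * T.b') * (k' * y')⁻¹ = k' * T.b * k'⁻¹ * (y' * T.b' * y'⁻¹) := by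
      calc k' * y' * (T.b * T.b') * (k' * y')⁻¹
          = k' * (y' * T.b * y'⁻¹) * (y' * T.b' * y'⁻¹) * k'⁻¹ := by group
        _ = k' * T.b * (y' * T.b' * y'⁻¹ * k'⁻¹) := by rw [← hb]; group
        _ = k' * T.b * (k'⁻¹ * (y' * T.b' * y'⁻¹)) := by
            rw [(show Commute k' _ from hk'' _ hb').inv_left.eq]
        _ = _ := by group
    simpa only [T.b_mul_b'] using he
  have hclassZ : ∀ w, w * z = z * w → w * w = 1 → w ≠ 1 →
      ∃ l ∈ K, l * z * l⁻¹ = w ∨ l * T.b * l⁻¹ = w := by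
    intro w hwz h2 h1
    obtain ⟨X, rfl⟩ := (P.mem w).1 hwz
    have hC1 : ∀ m : Fin 3, (∃ X0, inA X0 = true ∧ lab X0 = clC m ∧ xLab X0 = true) → lab X = clC m →
        ∃ l ∈ K, l * z * l⁻¹ = P.ev X ∨ l * T.b * l⁻¹ = P.ev X := by
      rintro m ⟨X0, hA, hl, hx⟩ hlX
      obtain ⟨l0, hl0, e0⟩ := P.conj_repC (x := P.ev X0) ⟨X0, rfl, hl⟩
      obtain ⟨l1, hl1, e1'⟩ := P.conj_repC (x := P.ev X) ⟨X, rfl, hlX⟩
      obtain ⟨l, hlK, e⟩ := hfuseA _ (P.ev_mem_A.2 hA) (T.isX_of_xLab hx)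
      exact ⟨l1 * l0⁻¹ * l, mul_mem (mul_mem (hzK _ hl1) (inv_mem (hzK _ hl0))) hlK, Or.inl (by
        rw [show l1 * l0⁻¹ * l * z * (l1 * l0⁻¹ * l)⁻¹ = l1 * (l0⁻¹ * (l * z * l⁻¹) * l0) * l1⁻¹ by group, e, ← e0,
          ← e1']
        group)⟩
    obtain ⟨h3, h4, X6, hA6, hl6⟩ := inA_labels
    rcases cent_invol_labels X ((P.sq_iff X).1 h2) with e | e | e | e | e | e | e
    · exact absurd (e ▸ P.ev_one) h1
    · exact ⟨1, one_mem _, Or.inl (by rw [e, P.ev_z]; group)⟩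
    · obtain ⟨l, hl, e'⟩ := P.conj_repC (x := P.ev X) ⟨X, rfl, e⟩
      exact ⟨l, hzK _ hl, Or.inr e'⟩
    · obtain ⟨X0, hA, hl⟩ := h3
      exact hC1 1 ⟨X0, hA, by rw [hl]; decide, by simp [xLab, hl]⟩ e
    · obtain ⟨X0, hA, hl⟩ := h4
      exact hC1 2 ⟨X0, hA, by rw [hl]; decide, by simp [xLab, hl]⟩ e
    · obtain ⟨l, hl, e'⟩ := P.conj_repT (x := P.ev X) ⟨X, rfl, e⟩
      obtain ⟨k', hk', hkv⟩ : ∃ k' ∈ K, k' * T.b * k'⁻¹ = T.v := by
        rcases T.tri1_orbit (Or.inr (Or.inl rfl) : T.Tri1 T.v) with f | f | f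
        · exact ⟨1, one_mem _, by simp [f]⟩
        · exact ⟨_, hk, f.symm⟩
        · exact ⟨_, mul_mem hk hk, f.symm⟩
      exact ⟨l * k', mul_mem (hzK _ hl) hk', Or.inr (by
        rw [show l * k' * T.b * (l * k')⁻¹ = l * (k' * T.b * k'⁻¹) * l⁻¹ by group, hkv]; exact e')⟩
    · obtain ⟨l0, hl0, e0⟩ := P.conj_repT (s := true) (x := P.ev X6) ⟨X6, rfl, hl6.trans lab_repT.2.symm⟩
      obtain ⟨l1, hl1, e1'⟩ := P.conj_repT (x := P.ev X) ⟨X, rfl, e⟩
      obtain ⟨l, hlK, e'⟩ := hfuseA _ (P.ev_mem_A.2 hA6) (T.isX_of_xLab (by simp [xLab, hl6]))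
      exact ⟨l1 * l0⁻¹ * l, mul_mem (mul_mem (hzK _ hl1) (inv_mem (hzK _ hl0))) hlK, Or.inl (by
        rw [show l1 * l0⁻¹ * l * z * (l1 * l0⁻¹ * l)⁻¹ = l1 * (l0⁻¹ * (l * z * l⁻¹) * l0) * l1⁻¹ by group, e', ← e0,
          ← e1']
        group)⟩
  have hclassC : ∀ w ∈ T.C, w * w = 1 → w ≠ 1 → ∃ l ∈ K, l * z * l⁻¹ = w ∨ l * T.b * l⁻¹ = w := by
    intro w hw h2 h1
    obtain ⟨c, hc, hcz⟩ := T.into_R hw h2
    obtain ⟨l, hl, e⟩ := hclassZ _ hcz
      (by rw [show c⁻¹ * w * c * (c⁻¹ * w * c) = c⁻¹ * (w * w) * c by group, h2]; group)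
      (fun e => h1 (by
        have := congrArg (fun u => c * u * c⁻¹) e
        simpa [mul_assoc] using this))
    refine ⟨c * l, mul_mem (hC hc) hl, e.imp (fun e => ?_) fun e => ?_⟩
    · rw [show c * l * z * (c * l)⁻¹ = c * (l * z * l⁻¹) * c⁻¹ by group, e]; group
    · rw [show c * l * T.b * (c * l)⁻¹ = c * (l * T.b * l⁻¹) * c⁻¹ by group, e]; group
  rw [eq_top_iff]
  intro g _
  set x := g * z * g⁻¹ with hx
  have hx2 : x * x = 1 := by rw [hx, show g * z * g⁻¹ * (g * z * g⁻¹) = g * (z * z) * g⁻¹ by group, P.z_sq]; group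
  have hx1 : x ≠ 1 := fun e => P.z_ne (conj_eq_one_iff.1 e)
  have hb2 : T.b * T.b = 1 := P.A_sq T.bmem.1
  obtain ⟨w1, w2, wx, wb⟩ := Lie.InvFour.mid_spec hx2 hb2 fun hc => by
    obtain ⟨c, hc⟩ := isConj_iff.1 hc
    exact T.tri_b.1 ⟨c * g, by rw [← hc, hx]; group⟩
  obtain ⟨l, hl, hlw⟩ := hclassC _ (T.mem_C.2 wb) w2 w1
  -- the conjugate lies in the subgroup and is conjugate there to the central involution
  obtain ⟨m, hm, hmx⟩ : ∃ m ∈ K, m * z * m⁻¹ = x := by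
    have hxl : ∀ u, l * u * l⁻¹ = Lie.InvFour.mid x T.b → (l⁻¹ * x * l) * u = u * (l⁻¹ * x * l) := fun u hu => by
      rw [← hu] at wx
      calc l⁻¹ * x * l * u = l⁻¹ * (x * (l * u * l⁻¹)) * l := by group
        _ = l⁻¹ * ((l * u * l⁻¹) * x) * l := by rw [wx]
        _ = u * (l⁻¹ * x * l) := by group
    have h2' : l⁻¹ * x * l * (l⁻¹ * x * l) = 1 := by
      rw [show l⁻¹ * x * l * (l⁻¹ * x * l) = l⁻¹ * (x * x) * l by group, hx2]; group
    have h1' : l⁻¹ * x * l ≠ 1 := fun e => hx1 (by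
      have := congrArg (fun u => l * u * l⁻¹) e
      simpa [mul_assoc] using this)
    obtain ⟨m, hm, e⟩ : ∃ m ∈ K, m * z * m⁻¹ = l⁻¹ * x * l ∨ m * T.b * m⁻¹ = l⁻¹ * x * l := by
      rcases hlw with e | e
      · exact hclassZ _ (hxl z e) h2' h1'
      · exact hclassC _ (T.mem_C.2 (hxl T.b e)) h2' h1'
    rcases e with e | e
    · exact ⟨l * m, mul_mem hl hm, by
        rw [show l * m * z * (l * m)⁻¹ = l * (m * z * m⁻¹) * l⁻¹ by group, e]; group⟩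
    · exact absurd (⟨m⁻¹ * (l⁻¹ * g), by
        rw [show m⁻¹ * (l⁻¹ * g) * z * (m⁻¹ * (l⁻¹ * g))⁻¹ = m⁻¹ * (l⁻¹ * (g * z * g⁻¹) * l) * m by group, ← hx, ← e]
        group⟩ : IsX z T.b) T.tri_b.1
  have hg : m⁻¹ * g * z = z * (m⁻¹ * g) := by
    calc m⁻¹ * g * z = m⁻¹ * (g * z * g⁻¹) * g := by group
      _ = m⁻¹ * (m * z * m⁻¹) * g := by rw [hmx]
      _ = z * (m⁻¹ * g) := by group
  have := mul_mem hm (hzK _ hg)
  rwa [mul_inv_cancel_left] at this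

/-- Two classes of involutions: the group is alternating. -/
theorem iso_alt (T : Two P) :
    Nonempty (G ≃* alternatingGroup (Fin 8)) ∨ Nonempty (G ≃* alternatingGroup (Fin 9)) := by
  obtain ⟨θ, hθ, hk, hC, hu⟩ := T.has_alt
  have hsurj : Function.Surjective θ := MonoidHom.range_eq_top.1 (T.eq_top θ.range hk hC hu)
  have key : ∀ m, (∀ θ : A (m + 4) →* G, Function.Bijective θ → m = 4 → Nonempty (G ≃* alternatingGroup (Fin 8))) ∧
      ∀ θ : A (m + 4) →* G, Function.Bijective θ → m = 5 → Nonempty (G ≃* alternatingGroup (Fin 9)) := by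
    intro m
    constructor
    · rintro θ hθ rfl; exact ⟨(MulEquiv.ofBijective θ hθ).symm⟩
    · rintro θ hθ rfl; exact ⟨(MulEquiv.ofBijective θ hθ).symm⟩
  rcases T.deg with h | h
  · exact Or.inl ((key _).1 θ ⟨hθ, hsurj⟩ h)
  · exact Or.inr ((key _).2 θ ⟨hθ, hsurj⟩ h)

end Two

end Cfsg.Agent.MTwelve.SwapCase
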